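import Mathlib
import Cfsg.Agent.SporadicRecognition.AltCover
import Cfsg.Agent.SporRec.TwoAn
import Cfsg.Agent.OddHalf.Iface

/-!
# The 2-part of the Schur multiplier of the alternating groups

`Ext π`: a perfect group `C` with a homomorphism `π` onto the alternating group of degree `m + 2 ≥ 5`, whose kernel
is central and consists of 2-elements. Then the kernel is `{1, z}` with `z * z = 1` (`Ext.exists_z`).
`d5cover`: node D5(cover) of `Iface.lean`.
-/

set_option autoImplicit false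

namespace Cfsg.Agent.OddHalf.CoverAlt

open Subgroup
open Cfsg.Agent.Lib.AltCarmichael Cfsg.Agent.SporadicRecognition.AltCover

/-- a perfect central extension of an alternating group by a 2-group -/
structure Ext {C : Type*} [Group C] {n : ℕ} (π : C →* alternatingGroup (Fin n)) : Prop where
  surj : Function.Surjective π
  cen : ∀ x, π x = 1 → ∀ y, x * y = y * x
  two : ∀ x, π x = 1 → ∃ k : ℕ, x ^ 2 ^ k = 1
  perf : commutator C = ⊤

section general

variable {C : Type*} [Group C] {n : ℕ} {π : C →* alternatingGroup (Fin n)}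

theorem Ext.eq_one_of_cube (h : Ext π) {x : C} (h1 : π x = 1) (h3 : x ^ 3 = 1) : x = 1 := by
  obtain ⟨k, hk⟩ := h.two x h1
  have d1 : orderOf x ∣ 3 := orderOf_dvd_of_pow_eq_one h3
  have d2 : orderOf x ∣ 2 ^ k := orderOf_dvd_of_pow_eq_one hk
  have hc : Nat.Coprime 3 (2 ^ k) := Nat.Coprime.pow_right k (by norm_num)
  have : orderOf x ∣ 1 := by
    rw [← Nat.Coprime.gcd_eq_one hc]
    exact Nat.dvd_gcd d1 d2
  exact orderOf_eq_one_iff.1 (Nat.dvd_one.1 this)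

theorem Ext.eq_of_cube (h : Ext π) {x y : C} (hx : x ^ 3 = 1) (hy : y ^ 3 = 1) (hxy : π x = π y) : x = y := by
  have h1 : π (y⁻¹ * x) = 1 := by rw [map_mul, map_inv, hxy, inv_mul_cancel]
  have hc : Commute y (y⁻¹ * x) := (h.cen _ h1 y).symm
  have h3 : (y⁻¹ * x) ^ 3 = 1 := by
    have e : y * (y⁻¹ * x) = x := mul_inv_cancel_left y x
    have := hc.mul_pow 3
    rw [e, hx, hy, one_mul] at this
    exact this.symm
  exact (inv_mul_eq_one.1 (h.eq_one_of_cube h1 h3)).symm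

theorem Ext.exists_cube (h : Ext π) {a : alternatingGroup (Fin n)} (ha : a ^ 3 = 1) :
    ∃ x : C, x ^ 3 = 1 ∧ π x = a := by
  obtain ⟨y, rfl⟩ := h.surj a
  rw [← map_pow] at ha
  obtain ⟨k, hk⟩ := h.two _ ha
  refine ⟨y ^ (2 ^ k * 2 ^ k), ?_, ?_⟩
  · rw [← pow_mul, mul_comm, pow_mul, pow_mul, hk, one_pow]
  · have h4 : 2 ^ k * 2 ^ k = 4 ^ k := by rw [← mul_pow]; norm_num
    have h5 : 4 ^ k % 3 = 1 := by
      rw [Nat.pow_mod]; norm_num
    obtain ⟨q, hq⟩ : ∃ q, 4 ^ k = 3 * q + 1 := ⟨4 ^ k / 3, by omega⟩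
    rw [map_pow, h4, hq, pow_succ, pow_mul, ← map_pow, ha, one_pow, one_mul]

/-- a subgroup mapping onto the alternating group is everything -/
theorem Ext.eq_top_of_map (h : Ext π) {H : Subgroup C} (hH : ∀ a, ∃ x ∈ H, π x = a) : H = ⊤ := by
  rw [eq_top_iff, ← h.perf, _root_.commutator_def, Subgroup.commutator_le]
  intro c _ d _
  obtain ⟨x, hx, hxc⟩ := hH (π c)
  obtain ⟨y, hy, hyd⟩ := hH (π d)
  have hu : π (x⁻¹ * c) = 1 := by rw [map_mul, map_inv, hxc, inv_mul_cancel]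
  have hv : π (y⁻¹ * d) = 1 := by rw [map_mul, map_inv, hyd, inv_mul_cancel]
  have hc : c = x * (x⁻¹ * c) := (mul_inv_cancel_left x c).symm
  have hd : d = y * (y⁻¹ * d) := (mul_inv_cancel_left y d).symm
  have e : c * d * c⁻¹ * d⁻¹ = x * y * x⁻¹ * y⁻¹ := by
    have cu := h.cen _ hu
    have cv := h.cen _ hv
    set u := x⁻¹ * c
    set v := y⁻¹ * d
    have cu' : ∀ w, w * u = u * w := fun w => (cu w).symm
    rw [hc, hd]
    calc x * u * (y * v) * (x * u)⁻¹ * (y * v)⁻¹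
        = x * (u * (y * v * (u⁻¹ * x⁻¹))) * (v⁻¹ * y⁻¹) := by group
      _ = x * (y * v * (u⁻¹ * x⁻¹) * u) * (v⁻¹ * y⁻¹) := by rw [cu]
      _ = x * y * v * u⁻¹ * (x⁻¹ * u) * v⁻¹ * y⁻¹ := by group
      _ = x * y * v * u⁻¹ * (u * x⁻¹) * v⁻¹ * y⁻¹ := by rw [cu']
      _ = x * y * (v * (x⁻¹ * v⁻¹ * y⁻¹)) := by group
      _ = x * y * (x⁻¹ * v⁻¹ * y⁻¹ * v) := by rw [cv]
      _ = x * y * x⁻¹ * v⁻¹ * (y⁻¹ * v) := by group
      _ = x * y * x⁻¹ * v⁻¹ * (v * y⁻¹) := by rw [cv]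
      _ = x * y * x⁻¹ * y⁻¹ := by group
  rw [commutatorElement_def, e]
  exact H.mul_mem (H.mul_mem (H.mul_mem hx hy) (H.inv_mem hx)) (H.inv_mem hy)

end general

section main

variable {C : Type*} [Group C] {m : ℕ} {π : C →* alternatingGroup (Fin (m + 2))}

/-- an even permutation mapping `x_i, x_j` to `x_j⁻¹, x_i⁻¹` -/
theorem exists_flip {i j : ℕ} (hi : i < m) (hj : j < m) (hij : i ≠ j) : ∃ ρ : alternatingGroup (Fin (m + 2)),
    ρ * cy m i hi * ρ⁻¹ = (cy m j hj)⁻¹ ∧ ρ * cy m j hj * ρ⁻¹ = (cy m i hi)⁻¹ := by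
  classical
  set I := Fin.ofNat (m + 2) i with hI
  set J := Fin.ofNat (m + 2) j with hJ
  set a := Fin.ofNat (m + 2) m with ha
  set b := Fin.ofNat (m + 2) (m + 1) with hb
  have hIJ : I ≠ J := ofNat_ne (by omega) (by omega) hij
  have hIa : I ≠ a := ofNat_ne (by omega) (by omega) (by omega)
  have hIb : I ≠ b := ofNat_ne (by omega) (by omega) (by omega)
  have hJa : J ≠ a := ofNat_ne (by omega) (by omega) (by omega)
  have hJb : J ≠ b := ofNat_ne (by omega) (by omega) (by omega)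
  have hab : a ≠ b := ofNat_ne (by omega) (by omega) (by omega)
  set ρ : Equiv.Perm (Fin (m + 2)) := Equiv.swap I J * Equiv.swap a b with hρ
  have hρI : ρ I = J := by
    rw [hρ, Equiv.Perm.mul_apply, Equiv.swap_apply_of_ne_of_ne hIa hIb, Equiv.swap_apply_left]
  have hρJ : ρ J = I := by
    rw [hρ, Equiv.Perm.mul_apply, Equiv.swap_apply_of_ne_of_ne hJa hJb, Equiv.swap_apply_right]
  have hρa : ρ a = b := by
    rw [hρ, Equiv.Perm.mul_apply, Equiv.swap_apply_left, Equiv.swap_apply_of_ne_of_ne hIb.symm hJb.symm]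
  have hρb : ρ b = a := by
    rw [hρ, Equiv.Perm.mul_apply, Equiv.swap_apply_right, Equiv.swap_apply_of_ne_of_ne hIa.symm hJa.symm]
  have key : ∀ P Q : Fin (m + 2), Q ≠ a → Q ≠ b → ρ P = Q →
      ρ * (Equiv.swap P a * Equiv.swap a b) * ρ⁻¹ = (Equiv.swap Q a * Equiv.swap a b)⁻¹ := by
    intro P Q hQa hQb hPQ
    have e1 := Equiv.swap_apply_apply ρ P a
    have e2 := Equiv.swap_apply_apply ρ a b
    rw [hρa, hPQ] at e1
    rw [hρa, hρb] at e2
    have e3 := Equiv.swap_apply_apply (Equiv.swap a b) Q a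
    rw [Equiv.swap_apply_left, Equiv.swap_apply_of_ne_of_ne hQa hQb, Equiv.swap_inv] at e3
    calc ρ * (Equiv.swap P a * Equiv.swap a b) * ρ⁻¹
        = (ρ * Equiv.swap P a * ρ⁻¹) * (ρ * Equiv.swap a b * ρ⁻¹) := by group
      _ = Equiv.swap Q b * Equiv.swap b a := by rw [← e1, ← e2]
      _ = Equiv.swap a b * Equiv.swap Q a * (Equiv.swap a b * Equiv.swap a b) := by
          rw [e3, Equiv.swap_comm b a]; simp only [mul_assoc]
      _ = Equiv.swap a b * Equiv.swap Q a := by rw [Equiv.swap_mul_self, mul_one]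
      _ = (Equiv.swap Q a * Equiv.swap a b)⁻¹ := by
          rw [mul_inv_rev, Equiv.swap_inv, Equiv.swap_inv]
  refine ⟨⟨ρ, Equiv.Perm.mem_alternatingGroup.2 ?_⟩, Subtype.ext ?_, Subtype.ext ?_⟩
  · rw [hρ, map_mul, Equiv.Perm.sign_swap hIJ, Equiv.Perm.sign_swap hab]; rfl
  · exact key I J hJa hJb hρI
  · exact key J I hIa hIb hρJ

/-- **The 2-part of the Schur multiplier of `A_n`, `n ≥ 5`, has order at most 2.** -/
theorem Ext.exists_z_aux (h : Ext π) (hm : 3 ≤ m) :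
    ∃ z : C, π z = 1 ∧ z * z = 1 ∧ ∀ x, π x = 1 → x = 1 ∨ x = z := by
  classical
  choose X hX3 hXπ using fun (k : Fin m) => h.exists_cube (cy_cube k.2)
  have h0 : 0 < m := by omega
  have h1 : 1 < m := by omega
  set z : C := (X ⟨0, h0⟩ * X ⟨1, h1⟩) ^ 2 with hz
  have hzπ : π z = 1 := by rw [hz, map_pow, map_mul, hXπ, hXπ, cy_sq h0 h1 (by omega)]
  have hzc : ∀ y, z * y = y * z := h.cen z hzπ
  have hconj3 : ∀ (g u : C), u ^ 3 = 1 → (g * u * g⁻¹) ^ 3 = 1 := by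
    intro g u hu
    rw [conj_pow, hu, mul_one, mul_inv_cancel]
  have hgz : ∀ g : C, g * z * g⁻¹ = z := fun g => by rw [← hzc g, mul_inv_cancel_right]
  -- all the pairs have square `z`
  have hall : ∀ k l (hk : k < m) (hl : l < m), k ≠ l → (X ⟨k, hk⟩ * X ⟨l, hl⟩) ^ 2 = z := by
    intro k l hk hl hkl
    obtain ⟨ρ, hρ⟩ := exists_move h0 h1 (by omega) hk hl hkl
    obtain ⟨g, rfl⟩ := h.surj ρ
    have hsq : (g * X ⟨0, h0⟩ * g⁻¹ * (g * X ⟨1, h1⟩ * g⁻¹)) ^ 2 = z := by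
      have : g * X ⟨0, h0⟩ * g⁻¹ * (g * X ⟨1, h1⟩ * g⁻¹) = g * (X ⟨0, h0⟩ * X ⟨1, h1⟩) * g⁻¹ := by group
      rw [this, conj_pow, ← hz, hgz]
    rcases hρ with ⟨e1, e2⟩ | ⟨e1, e2⟩
    · have f1 : g * X ⟨0, h0⟩ * g⁻¹ = X ⟨k, hk⟩ := by
        refine h.eq_of_cube (hconj3 _ _ (hX3 _)) (hX3 _) ?_
        rw [map_mul, map_mul, map_inv, hXπ, e1, hXπ]
      have f2 : g * X ⟨1, h1⟩ * g⁻¹ = X ⟨l, hl⟩ := by
        refine h.eq_of_cube (hconj3 _ _ (hX3 _)) (hX3 _) ?_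
        rw [map_mul, map_mul, map_inv, hXπ, e2, hXπ]
      rw [← f1, ← f2]; exact hsq
    · have f1 : g * X ⟨0, h0⟩ * g⁻¹ = X ⟨l, hl⟩ := by
        refine h.eq_of_cube (hconj3 _ _ (hX3 _)) (hX3 _) ?_
        rw [map_mul, map_mul, map_inv, hXπ, e1, hXπ]
      have f2 : g * X ⟨1, h1⟩ * g⁻¹ = X ⟨k, hk⟩ := by
        refine h.eq_of_cube (hconj3 _ _ (hX3 _)) (hX3 _) ?_
        rw [map_mul, map_mul, map_inv, hXπ, e2, hXπ]
      rw [f1, f2] at hsq
      have : (X ⟨k, hk⟩ * X ⟨l, hl⟩) ^ 2 = (X ⟨l, hl⟩)⁻¹ * (X ⟨l, hl⟩ * X ⟨k, hk⟩) ^ 2 * X ⟨l, hl⟩ := by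
        simp only [pow_two]; group
      rw [this, hsq]
      have := hgz (X ⟨l, hl⟩)⁻¹
      rwa [inv_inv] at this
  -- `z` is an involution
  have hzz : z * z = 1 := by
    obtain ⟨ρ, e1, e2⟩ := exists_flip h0 h1 (by omega)
    obtain ⟨g, rfl⟩ := h.surj ρ
    have hinv3 : ∀ u : C, u ^ 3 = 1 → (u⁻¹) ^ 3 = 1 := fun u hu => by rw [inv_pow, hu, inv_one]
    have f1 : g * X ⟨0, h0⟩ * g⁻¹ = (X ⟨1, h1⟩)⁻¹ := by
      refine h.eq_of_cube (hconj3 _ _ (hX3 _)) (hinv3 _ (hX3 _)) ?_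
      rw [map_mul, map_mul, map_inv, hXπ, e1, map_inv, hXπ]
    have f2 : g * X ⟨1, h1⟩ * g⁻¹ = (X ⟨0, h0⟩)⁻¹ := by
      refine h.eq_of_cube (hconj3 _ _ (hX3 _)) (hinv3 _ (hX3 _)) ?_
      rw [map_mul, map_mul, map_inv, hXπ, e2, map_inv, hXπ]
    have h5 : z = z⁻¹ := by
      calc z = g * z * g⁻¹ := (hgz g).symm
        _ = (g * X ⟨0, h0⟩ * g⁻¹ * (g * X ⟨1, h1⟩ * g⁻¹)) ^ 2 := by
            rw [hz, ← conj_pow]; congr 1; group
        _ = ((X ⟨1, h1⟩)⁻¹ * (X ⟨0, h0⟩)⁻¹) ^ 2 := by rw [f1, f2]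
        _ = z⁻¹ := by rw [hz, ← mul_inv_rev, inv_pow]
    rw [← mul_inv_cancel z]
    exact congrArg (z * ·) h5
  -- the lifts generate
  set H : Subgroup C := closure (Set.range X) with hH
  have hXH : ∀ k, X k ∈ H := fun k => subset_closure ⟨k, rfl⟩
  have hHtop : H = ⊤ := by
    refine h.eq_top_of_map ?_
    have hle : gen m (cyc m) ≤ (H.map π).map (alternatingGroup (Fin (m + 2))).subtype := by
      rw [gen_def, closure_le]
      rintro _ ⟨i, hi, rfl⟩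
      refine ⟨cy m i hi, ⟨X ⟨i, hi⟩, hXH _, hXπ _⟩, rfl⟩
    intro a
    have ha : (a : Equiv.Perm (Fin (m + 2))) ∈ gen m (cyc m) := by
      rw [gen_cyc m (by omega)]; exact a.2
    obtain ⟨_, ⟨x, hx, rfl⟩, hxa⟩ := hle ha
    exact ⟨x, hx, Subtype.ext hxa⟩
  -- the quotient by `z`
  set N : Subgroup C := zpowers z with hN
  have hNn : N.Normal := by
    constructor
    intro x hx g
    obtain ⟨k, rfl⟩ := mem_zpowers_iff.1 hx
    have hc : Commute (z ^ k) g := Commute.zpow_left (hzc g) k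
    rw [← hc.eq, mul_inv_cancel_right]
    exact hx
  have hrel : Rel m (fun k => if hk : k < m then (X ⟨k, hk⟩ : C ⧸ N) else 1) := by
    constructor
    · intro k hk
      simp only [dif_pos hk]
      rw [← QuotientGroup.mk_pow, hX3, QuotientGroup.mk_one]
    · intro k hk l hl hkl
      simp only [dif_pos hk, dif_pos hl]
      rw [← QuotientGroup.mk_mul, ← QuotientGroup.mk_pow, hall k l hk hl hkl, QuotientGroup.eq_one_iff]
      exact mem_zpowers z
  obtain ⟨s, hs⟩ := exists_hom (by omega) hrel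
  have hcomp : s.comp π = QuotientGroup.mk' N := by
    refine MonoidHom.eq_of_eqOn_dense (s := Set.range X) hHtop ?_
    rintro _ ⟨k, rfl⟩
    have e := hs k.1 k.2
    simp only [dif_pos k.2] at e
    rw [MonoidHom.comp_apply, hXπ]
    exact e
  refine ⟨z, hzπ, hzz, fun x hx => ?_⟩
  have h6 : (x : C ⧸ N) = 1 := by
    have := DFunLike.congr_fun hcomp x
    rw [MonoidHom.comp_apply, hx, map_one] at this
    exact this.symm
  rw [QuotientGroup.eq_one_iff] at h6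
  obtain ⟨k, rfl⟩ := mem_zpowers_iff.1 h6
  rcases Int.even_or_odd k with ⟨r, hr⟩ | ⟨r, hr⟩
  · left
    have h2 : z ^ (2 : ℤ) = 1 := by
      rw [show (2 : ℤ) = 1 + 1 by norm_num, zpow_add, zpow_one, hzz]
    rw [hr, ← two_mul, zpow_mul, h2, one_zpow]
  · right
    have h2 : z ^ (2 : ℤ) = 1 := by
      rw [show (2 : ℤ) = 1 + 1 by norm_num, zpow_add, zpow_one, hzz]
    rw [hr, zpow_add, zpow_mul, h2, one_zpow, one_mul, zpow_one]

end main

section final

variable {C : Type*} [Group C] {n : ℕ} {π : C →* alternatingGroup (Fin n)}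

theorem Ext.exists_z (h : Ext π) (hn : 5 ≤ n) :
    ∃ z : C, π z = 1 ∧ z * z = 1 ∧ ∀ x, π x = 1 → x = 1 ∨ x = z := by
  obtain ⟨m, rfl⟩ : ∃ m, n = m + 2 := ⟨n - 2, by omega⟩
  exact h.exists_z_aux (by omega)

/-- a proper perfect central extension by a 2-group is the double cover -/
theorem Ext.isCover (h : Ext π) (hn : 5 ≤ n) (hne : ∃ x, x ≠ 1 ∧ π x = 1) : ∃ z, IsCover π z := by
  obtain ⟨z, h1, h2, h3⟩ := h.exists_z hn
  obtain ⟨x, hx, hx1⟩ := hne
  have hz : z ≠ 1 := by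
    rintro rfl
    rcases h3 x hx1 with h | h <;> exact hx h
  refine ⟨z, hz, h2, fun y => (h.cen z h1 y).symm, h.surj, fun y => ⟨h3 y, ?_⟩, ?_⟩
  · rintro (rfl | rfl)
    · exact map_one π
    · exact h1
  · intro s hs
    have : s.range = ⊤ := h.eq_top_of_map fun a => ⟨s a, ⟨a, rfl⟩, hs a⟩
    obtain ⟨a, ha⟩ : z ∈ s.range := by rw [this]; exact mem_top z
    have h4 := hs a
    rw [ha, h1] at h4
    rw [← ha, ← h4, map_one] at hz
    exact hz rfl

/-- the plain form: a perfect group `C` with a central 2-subgroup `Z` and `C ⧸ Z ≃* A_n`, `n ≥ 5`: `|Z| ≤ 2`. -/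
theorem card_le_two {C : Type*} [Group C] (hp : commutator C = ⊤) (Z : Subgroup C) [Z.Normal]
    (hZ : Z ≤ center C) (h2 : IsPGroup 2 Z) {n : ℕ} (hn : 5 ≤ n) (e : C ⧸ Z ≃* alternatingGroup (Fin n)) :
    Nat.card Z ≤ 2 := by
  set π : C →* alternatingGroup (Fin n) := e.toMonoidHom.comp (QuotientGroup.mk' Z) with hπ
  have hker : ∀ x, π x = 1 ↔ x ∈ Z := by
    intro x
    change e (x : C ⧸ Z) = 1 ↔ _
    rw [e.map_eq_one_iff, QuotientGroup.eq_one_iff]
  have h : Ext π := by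
    refine ⟨e.surjective.comp (QuotientGroup.mk'_surjective _), ?_, ?_, hp⟩
    · intro x hx y
      exact (mem_center_iff.1 (hZ ((hker x).1 hx)) y).symm
    · intro x hx
      obtain ⟨k, hk⟩ := h2 ⟨x, (hker x).1 hx⟩
      exact ⟨k, congrArg Subtype.val hk⟩
  obtain ⟨z, h3, h4, h5⟩ := h.exists_z hn
  have hsub : (Z : Set C) ⊆ {1, z} := fun x hx => h5 x ((hker x).2 hx)
  calc Nat.card Z = (Z : Set C).ncard := rfl
    _ ≤ ({1, z} : Set C).ncard := Set.ncard_le_ncard hsub (Set.toFinite _)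
    _ ≤ 2 := (Set.ncard_insert_le _ _).trans (by rw [Set.ncard_singleton])

end final

/-- **Node D5(cover)** of `Iface.lean`. -/
theorem d5cover : Iface.D5cover := by
  intro K _ hfin hq h2 hne hrk n hn he
  have := hfin
  obtain ⟨e⟩ := he
  have hp : commutator K = ⊤ := hq.1.commutator_eq_top
  set π : K →* alternatingGroup (Fin n) := e.toMonoidHom.comp (QuotientGroup.mk' (center K)) with hπ
  have hker : ∀ x, π x = 1 ↔ x ∈ center K := by
    intro x
    change e (x : K ⧸ center K) = 1 ↔ _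
    rw [e.map_eq_one_iff, QuotientGroup.eq_one_iff]
  have h : Ext π := by
    refine ⟨e.surjective.comp (QuotientGroup.mk'_surjective _), ?_, ?_, hp⟩
    · intro x hx y
      exact (mem_center_iff.1 ((hker x).1 hx) y).symm
    · intro x hx
      obtain ⟨k, hk⟩ := h2 ⟨x, (hker x).1 hx⟩
      exact ⟨k, congrArg Subtype.val hk⟩
  obtain ⟨x, hx, hx1⟩ : ∃ x ∈ center K, x ≠ 1 := by
    by_contra hcon
    exact hne ((eq_bot_iff_forall _).2 fun x hx => by_contra fun h => hcon ⟨x, hx, h⟩)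
  obtain ⟨z, hz⟩ := h.isCover hn ⟨x, hx1, (hker x).2 hx⟩
  have hcen : ∀ x, x ∈ center K ↔ x = 1 ∨ x = z := fun x => by rw [← hker, hz.ker]
  refine ⟨?_, ?_, ⟨e⟩, ?_⟩
  · by_contra hn8
    refine hrk ?_
    intro A hA hA2
    set c := Cfsg.Agent.SporRec.TwoAn.ofIsCover hn hz with hc
    have hsub : (A : Set K) ⊆ {1, z} := by
      intro g hg
      have h1 := hA2 g hg
      rw [pow_two] at h1
      exact c.eq_one_or_eq_z_of_card_lt (by rw [Fintype.card_fin]; omega) h1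
    calc Nat.card A = (A : Set K).ncard := rfl
      _ ≤ ({1, z} : Set K).ncard := Set.ncard_le_ncard hsub (Set.toFinite _)
      _ ≤ 2 := (Set.ncard_insert_le _ _).trans (by rw [Set.ncard_singleton])
      _ = 2 ^ 1 := by norm_num
  · rw [Nat.card_eq_two_iff' (1 : center K)]
    refine ⟨⟨z, (hcen z).2 (Or.inr rfl)⟩, fun h => hz.z_ne (congrArg Subtype.val h), ?_⟩
    rintro ⟨y, hy⟩ hy1
    rcases (hcen y).1 hy with rfl | rfl
    · exact absurd rfl hy1
    · rfl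
  · intro L hL
    have hLtop : L = ⊤ := by
      refine h.eq_top_of_map fun a => ?_
      obtain ⟨x, rfl⟩ := h.surj a
      obtain ⟨⟨u, v⟩, huv⟩ := hL.2 x
      refine ⟨v, v.2, ?_⟩
      change (u : K) * (v : K) = x at huv
      rw [← huv, map_mul, (hker u).2 u.2, one_mul]
    have : z ∈ center K ⊓ L := ⟨(hcen z).2 (Or.inr rfl), by rw [hLtop]; exact mem_top z⟩
    rw [hL.disjoint.eq_bot, mem_bot] at this
    exact hz.z_ne this

end Cfsg.Agent.OddHalf.CoverAlt
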