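import Cfsg.Agent.OddHalf.Soft
import Cfsg.Agent.OddHalf.Stmts
import Cfsg.Agent.OddHalf.RankOne
import Cfsg.Agent.SignalizersComponents.EvenComponent
import Cfsg.Agent.Fischer.Centralizer

/-!
# The covering groups of the alternating groups (S1738)

`altCover_false`: the standard component is not a non-split double cover of an alternating group of degree at
least 8.
-/

set_option autoImplicit false
set_option linter.style.haveILetI false

namespace Cfsg.Agent.OddHalf.AltCoverOut

open Subgroup Cfsg Cfsg.Agent.OddHalf.Iface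

universe u

theorem isPComponent {G : Type u} [Group G] [Finite G] {t : G} {K : Subgroup G}
    (h : CompOf t K) (he : Even (Nat.card ↥K)) : IsPComponent 2 (K.subgroupOf (centralizer ({t} : Set G))) := by
  haveI : Fact (Nat.Prime 2) := ⟨Nat.prime_two⟩
  refine SignalizersComponents.EvenComponent.isPComponent_of_isComponent h.2 ?_
  rw [Nat.card_congr (subgroupOfEquivOfLe h.1).toEquiv]
  exact even_iff_two_dvd.mp he

theorem altCover_false (h : Stmts.P1738.{u}) {G : Type u} [Group G] {K : Subgroup G} (C : Ctx G) (S : Std0 G K)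
    (n : ℕ) (hn : 8 ≤ n) (hK : IsNonsplitDoubleCover ↥K ↥(alternatingGroup (Fin n))) : False := by
  haveI := C.fin
  haveI := C.simple
  haveI : Fact (Nat.Prime 2) := ⟨Nat.prime_two⟩
  obtain ⟨t, ht⟩ := exists_prime_orderOf_dvd_card' (G := ↥(center ↥K)) 2 (by rw [hK.1])
  have ht' : orderOf (((t : ↥K) : G)) = 2 := by
    rw [Subgroup.orderOf_coe, Subgroup.orderOf_coe, ht]
  have htK : (((t : ↥K) : G)) ∈ centralizer (K : Set G) := by
    rw [Subgroup.mem_centralizer_iff]
    intro g hg
    exact congrArg Subtype.val (Subgroup.mem_center_iff.mp t.2 ⟨g, hg⟩)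
  have hc := S.term _ ht' htK
  have heven : Even (Nat.card ↥K) := by
    rw [even_iff_two_dvd, ← hK.1]
    exact card_subgroup_dvd_card _
  have hO := RankOne.oddCore_of_compOf (C.bal _ ht') hc
  have e1 : ↥(K.subgroupOf (centralizer ({((t : ↥K) : G)} : Set G))) ≃* ↥K := subgroupOfEquivOfLe hc.1
  have hO' : oddCore ↥(K.subgroupOf (centralizer ({((t : ↥K) : G)} : Set G))) = ⊥ := by
    have h5 := Lib.Cores.map_equiv_pPrimeCore e1.symm 2
    rw [show pPrimeCore 2 ↥K = ⊥ from hO, Subgroup.map_bot] at h5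
    exact h5.symm
  have e2 : (↥(K.subgroupOf (centralizer ({((t : ↥K) : G)} : Set G))) ⧸
      oddCore ↥(K.subgroupOf (centralizer ({((t : ↥K) : G)} : Set G)))) ≃* ↥K :=
    ((QuotientGroup.quotientMulEquivOfEq hO').trans QuotientGroup.quotientBot).trans e1
  have hF : IsQuasisimple ↥(generalizedFittingSubgroup G) :=
    SignalizersComponents.Components.isQuasisimple_of_mulEquiv (Soft.fstarEquiv C.na).symm (Soft.quasisimple C.na)
  have hmem : (((t : ↥K) : G)) ∈ (K.subgroupOf (centralizer ({((t : ↥K) : G)} : Set G))).map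
      (centralizer ({((t : ↥K) : G)} : Set G)).subtype := by
    rw [subgroupOf_map_subtype]
    exact ⟨(t : ↥K).2, mem_centralizer_singleton_iff.mpr rfl⟩
  rcases h (Soft.oddCore_eq_bot (Soft.even_of_rank C.rank3)) hF _ ht' _ (isPComponent hc heven) hmem n hn
    (Fischer.Centralizer.isNonsplitDoubleCover_congr e2.symm hK) with h1 | ⟨-, ⟨e⟩⟩ | ⟨-, ⟨e⟩⟩
  · have h2 := (Fischer.Centralizer.isNonsplitDoubleCover_congr (Soft.fstarEquiv C.na) h1).1
    rw [Soft.center_eq_bot C.na, Subgroup.card_bot] at h2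
    omega
  · exact C.nc (Or.inr (Or.inr (Or.inr (Or.inr (Or.inr (Or.inl ⟨(Soft.fstarEquiv C.na).symm.trans e⟩))))))
  · exact C.nc (Or.inr (Or.inr (Or.inr (Or.inr (Or.inr (Or.inr (Or.inl ⟨(Soft.fstarEquiv C.na).symm.trans e⟩)))))))

end Cfsg.Agent.OddHalf.AltCoverOut
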