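import Cfsg.Agent.OddHalf.Iface
import Cfsg.Agent.S1754
import Cfsg.Agent.Classification.RankOneCore
import Cfsg.Agent.OddOrderLocal.Rank

/-!
# The Sylow 2-subgroups of the centralizer of a standard subgroup

`NormalQuat G`: no normal subgroup `J` of `C(z)` with quaternion Sylow 2-subgroups and only one involution `z`
(a case of S1309). `cyc_of`: then `m_2(C(K)) ≤ 1` implies that `C(K)` has cyclic Sylow 2-subgroups.
`nodeQ_of`: `Iface.NodeQ` from `NormalQuat`.
-/

set_option autoImplicit false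
set_option linter.style.haveILetI false

namespace Cfsg.Agent.OddHalf.Cyc

open Subgroup Cfsg Cfsg.Agent.OddHalf.Iface

universe u

theorem mem_normalizer {G : Type*} [Group G] {J : Subgroup G} {g : G} :
    g ∈ normalizer (J : Set G) ↔ ∀ x, x ∈ J ↔ g * x * g⁻¹ ∈ J := by
  rw [Subgroup.mem_normalizer_iff]

/-- A Sylow subgroup of `X` contained in `J ≤ X` is a Sylow subgroup of `J`. -/
theorem exists_sylow {G : Type*} [Group G] [Finite G] {X J : Subgroup G} (hJX : J ≤ X) (R : Sylow 2 ↥X)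
    (hR : (R : Subgroup ↥X).map X.subtype ≤ J) :
    ∃ T : Sylow 2 ↥J, Nonempty (↥(T : Subgroup ↥J) ≃* ↥(R : Subgroup ↥X)) := by
  have h1 : (R : Subgroup ↥X) ≤ J.subgroupOf X := by
    intro x hx
    rw [mem_subgroupOf]
    exact hR (mem_map_of_mem _ hx)
  let e : ↥(J.subgroupOf X) ≃* ↥J := subgroupOfEquivOfLe hJX
  refine ⟨(R.subtype h1).mapSurjective (f := e.toMonoidHom) e.surjective, ⟨?_⟩⟩
  have h2 : ((((R.subtype h1).mapSurjective (f := e.toMonoidHom) e.surjective : Sylow 2 ↥J)) : Subgroup ↥J) =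
      ((R.subtype h1 : Sylow 2 ↥(J.subgroupOf X)) : Subgroup ↥(J.subgroupOf X)).map e.toMonoidHom := rfl
  have h3 : ((R.subtype h1 : Sylow 2 ↥(J.subgroupOf X)) : Subgroup ↥(J.subgroupOf X)) =
      (R : Subgroup ↥X).subgroupOf (J.subgroupOf X) := rfl
  exact ((MulEquiv.subgroupCongr h2).trans
    (((((R.subtype h1 : Sylow 2 ↥(J.subgroupOf X)) : Subgroup ↥(J.subgroupOf X)).equivMapOfInjective
      e.toMonoidHom e.injective).symm))).trans
    ((MulEquiv.subgroupCongr h3).trans (subgroupOfEquivOfLe h1))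

/-- The conclusion of S1309 is impossible for a normal subgroup `J` of `C(z)` with quaternion Sylow 2-subgroups. -/
def NormalQuat (G : Type u) [Group G] : Prop :=
  ∀ (z : G) (J : Subgroup G), orderOf z = 2 → J ≤ centralizer ({z} : Set G) → z ∈ J →
    centralizer ({z} : Set G) ≤ normalizer (J : Set G) →
    (∃ S : Sylow 2 ↥J, ∃ n : ℕ, Nonempty (↥(S : Subgroup ↥J) ≃* QuaternionGroup (2 ^ (n + 1)))) →
    (∀ t ∈ J, orderOf t = 2 → t = z) → False

theorem cyc_of {G : Type u} [Group G] {K : Subgroup G} (C : Ctx G) (hq : NormalQuat G) (S : Std0 G K)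
    (h : PRankLE 2 1 ↥(centralizer (K : Set G))) : Cyc K := by
  haveI := C.fin
  haveI : Fact (Nat.Prime 2) := ⟨Nat.prime_two⟩
  intro R
  have hRr : PRankLE 2 1 ↥(R : Subgroup ↥(centralizer (K : Set G))) := OddOrderLocal.Rank.pRankLE_subgroup h
  rcases Classification.RankOneCore.cyclic_or_quaternion R.isPGroup' hRr with h1 | ⟨n, ⟨e⟩⟩
  · exact h1
  obtain _ | n := n
  · have h3 : IsCyclic (QuaternionGroup 1) := QuaternionGroup.quaternionGroup_one_isCyclic
    have e' : ↥(R : Subgroup ↥(centralizer (K : Set G))) ≃* QuaternionGroup 1 := e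
    exact isCyclic_of_surjective e'.symm e'.symm.surjective
  exfalso
  have hne : (R : Subgroup ↥(centralizer (K : Set G))) ≠ ⊥ := by
    intro hb
    have h2 : Nat.card ↥(R : Subgroup ↥(centralizer (K : Set G))) = 1 := by rw [hb, Subgroup.card_bot]
    have h3 := Nat.card_congr e.toEquiv
    rw [h2, Nat.card_eq_fintype_card, QuaternionGroup.card] at h3
    omega
  obtain ⟨z, hzR, hz1, hz2, hzc, -⟩ :=
    Classification.RankOneCore.exists_unique_involution R.isPGroup' hRr hne
  have hzo : orderOf (z : G) = 2 := by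
    rw [Subgroup.orderOf_coe]
    exact orderOf_eq_prime hz2 hz1
  -- the centralizer of the involution normalizes `K`, hence `C(K)`
  have hCN : centralizer ({(z : G)} : Set G) ≤ normalizer (K : Set G) :=
    (Cfsg.Agent.S1754.result K S.std (z : G) hzo z.2).1
  have hCX : ∀ g ∈ centralizer ({(z : G)} : Set G), ∀ x ∈ centralizer (K : Set G),
      g * x * g⁻¹ ∈ centralizer (K : Set G) := by
    intro g hg x hx
    rw [mem_centralizer_iff] at hx ⊢
    intro k hk
    have h4 := mem_normalizer.mp (inv_mem (hCN hg)) k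
    rw [inv_inv] at h4
    have h5 := hx _ (h4.mp hk)
    calc k * (g * x * g⁻¹) = g * ((g⁻¹ * k * g) * x) * g⁻¹ := by group
      _ = g * (x * (g⁻¹ * k * g)) * g⁻¹ := by rw [h5]
      _ = g * x * g⁻¹ * k := by group
  set J : Subgroup G := centralizer (K : Set G) ⊓ centralizer ({(z : G)} : Set G) with hJ
  have hJC : ∀ g ∈ centralizer ({(z : G)} : Set G), ∀ x ∈ J, g * x * g⁻¹ ∈ J := by
    intro g hg x hx
    exact ⟨hCX g hg x hx.1, Subgroup.mul_mem _ (Subgroup.mul_mem _ hg hx.2) (Subgroup.inv_mem _ hg)⟩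
  have hJN : centralizer ({(z : G)} : Set G) ≤ normalizer (J : Set G) := by
    intro g hg
    rw [mem_normalizer]
    intro x
    refine ⟨hJC g hg x, fun hx => ?_⟩
    have h4 := hJC g⁻¹ (inv_mem hg) _ hx
    have h5 : g⁻¹ * (g * x * g⁻¹) * g⁻¹⁻¹ = x := by group
    rwa [h5] at h4
  have hzz : (z : G) ∈ centralizer ({(z : G)} : Set G) := mem_centralizer_singleton_iff.mpr rfl
  have hzJ : (z : G) ∈ J := ⟨z.2, hzz⟩
  have hRJ : (R : Subgroup ↥(centralizer (K : Set G))).map (centralizer (K : Set G)).subtype ≤ J := by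
    rintro _ ⟨r, hr, rfl⟩
    refine ⟨r.2, mem_centralizer_singleton_iff.mpr ?_⟩
    exact (congrArg Subtype.val (hzc r hr)).symm
  obtain ⟨T, ⟨eT⟩⟩ := exists_sylow (X := centralizer (K : Set G)) inf_le_left R hRJ
  refine hq (z : G) J hzo inf_le_right hzJ hJN ⟨T, n, ⟨eT.trans e⟩⟩ ?_
  · intro t ht ht2
    by_contra htz
    have ht1 : t ≠ 1 := by
      rintro rfl
      rw [orderOf_one] at ht2
      omega
    have htt : t ^ 2 = 1 := by rw [← ht2]; exact pow_orderOf_eq_one t
    obtain ⟨W, hW, -⟩ := Cfsg.Agent.S0502.exists_klein (a := (⟨t, ht.1⟩ : ↥(centralizer (K : Set G)))) (b := z)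
      (Subtype.ext htt) hz2 (fun h => ht1 (congrArg Subtype.val h)) hz1
      (fun h => htz (congrArg Subtype.val h)) (Subtype.ext (mem_centralizer_singleton_iff.mp ht.2))
    have hW' : IsKleinFour (W.map (centralizer (K : Set G)).subtype) :=
      Cfsg.Agent.S0520.isKleinFour_map (centralizer (K : Set G)).subtype_injective hW
    exact Cfsg.Agent.S0520.not_rank_of_kleinFour hW' (Subgroup.map_subtype_le W) h

/-- **NodeQ** from S1309 (in the form `NormalQuat`) -/
theorem nodeQ_of (hq : ∀ (G : Type u) [Group G], Ctx G → NormalQuat G) : NodeQ.{u} :=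
  fun G _ C _ S h => cyc_of C (hq G C) S h

end Cfsg.Agent.OddHalf.Cyc
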