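import Cfsg.Agent.OddHalf.Iface
import Cfsg.Agent.OddHalf.Known
import Cfsg.Agent.OddHalf.Stmts
import Cfsg.Agent.OddHalf.Soft
import Cfsg.Agent.SignalizersComponents.ComponentImage

/-!
# The listed standard form problems in the odd half

In the situation of the nodes (`Ctx`, `Std`) the listed statements give contradictions:

* `listed_false`: `Listed K`;
* `alt_false`: `K ≅ A_n`, `m_2(C(K)) ≥ 2` (S1766);
* `small_false`: `SmallRank (K / Z(K))`, `C(K)` with cyclic Sylow 2-subgroups, `|Z(K)|` odd;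
* `sz_false`: `K / Z(K)` a Suzuki group, `C(K)` with cyclic Sylow 2-subgroups;
* `alt5_false`: `K ≅ A_5`, `C(K)` with cyclic Sylow 2-subgroups (S1773).
-/

set_option autoImplicit false
set_option linter.style.haveILetI false

namespace Cfsg.Agent.OddHalf.ListedOut

open Subgroup Cfsg Cfsg.Agent.OddHalf.Iface Cfsg.Agent.OddHalf.Stmts

universe u

/-- The listed standard form theorems. -/
structure Forms : Prop where
  p1732 : P1732.{u}
  p1733 : P1733.{u}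
  p1734 : P1734.{u}
  p1735 : P1735.{u}
  p1736 : P1736.{u}
  p1737 : P1737.{u}
  p1739 : P1739.{u}
  p1747 : P1747.{u}
  p1748 : P1748.{u}
  p1749 : P1749.{u}
  p1750 : P1750.{u}
  p1751 : P1751.{u}
  p1752 : P1752.{u}

section

variable {G : Type u} [Group G]

/-! ### Members of the conclusion -/

theorem concl_alt {n : ℕ} (hn : n = 7 ∨ 9 ≤ n) (h : Nonempty (G ≃* ↥(alternatingGroup (Fin n)))) : Concl G :=
  Or.inr (Or.inl ⟨n, hn, h⟩)

theorem concl_m12 (h : Spor.IsoM12 G) : Concl G := Or.inr (Or.inr (Or.inl h))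
theorem concl_j1 (h : Spor.IsoJ1 G) : Concl G := Or.inr (Or.inr (Or.inr (Or.inl h)))
theorem concl_j2 (h : Spor.IsoJ2 G) : Concl G := Or.inr (Or.inr (Or.inr (Or.inr (Or.inl h))))
theorem concl_mcl (h : Spor.IsoMcL G) : Concl G := Or.inr (Or.inr (Or.inr (Or.inr (Or.inr (Or.inl h)))))
theorem concl_ly (h : Spor.IsoLy G) : Concl G :=
  Or.inr (Or.inr (Or.inr (Or.inr (Or.inr (Or.inr (Or.inl h))))))
theorem concl_hs (h : Spor.IsoHS G) : Concl G :=
  Or.inr (Or.inr (Or.inr (Or.inr (Or.inr (Or.inr (Or.inr (Or.inl h)))))))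
theorem concl_he (h : Spor.IsoHe G) : Concl G :=
  Or.inr (Or.inr (Or.inr (Or.inr (Or.inr (Or.inr (Or.inr (Or.inr (Or.inl h))))))))
theorem concl_on (h : Spor.IsoON G) : Concl G :=
  Or.inr (Or.inr (Or.inr (Or.inr (Or.inr (Or.inr (Or.inr (Or.inr (Or.inr (Or.inl h)))))))))
theorem concl_suz (h : Spor.IsoSuz G) : Concl G :=
  Or.inr (Or.inr (Or.inr (Or.inr (Or.inr (Or.inr (Or.inr (Or.inr (Or.inr (Or.inr (Or.inl h))))))))))
theorem concl_ru (h : Spor.IsoRu G) : Concl G :=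
  Or.inr (Or.inr (Or.inr (Or.inr (Or.inr (Or.inr (Or.inr (Or.inr (Or.inr (Or.inr (Or.inr (Or.inl h)))))))))))
theorem concl_co3 (h : Spor.IsoCo3 G) : Concl G :=
  Or.inr (Or.inr (Or.inr (Or.inr (Or.inr (Or.inr (Or.inr (Or.inr (Or.inr (Or.inr (Or.inr (Or.inr
    (Or.inl h))))))))))))
theorem concl_co1 (h : Spor.IsoCo1 G) : Concl G :=
  Or.inr (Or.inr (Or.inr (Or.inr (Or.inr (Or.inr (Or.inr (Or.inr (Or.inr (Or.inr (Or.inr (Or.inr (Or.inr
    (Or.inl h)))))))))))))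
theorem concl_fi22 (h : Spor.IsoFi22 G) : Concl G :=
  Or.inr (Or.inr (Or.inr (Or.inr (Or.inr (Or.inr (Or.inr (Or.inr (Or.inr (Or.inr (Or.inr (Or.inr (Or.inr
    (Or.inr (Or.inl h))))))))))))))
theorem concl_fi23 (h : Spor.IsoFi23 G) : Concl G :=
  Or.inr (Or.inr (Or.inr (Or.inr (Or.inr (Or.inr (Or.inr (Or.inr (Or.inr (Or.inr (Or.inr (Or.inr (Or.inr
    (Or.inr (Or.inr (Or.inl h)))))))))))))))
theorem concl_fi24 (h : Spor.IsoFi24' G) : Concl G :=
  Or.inr (Or.inr (Or.inr (Or.inr (Or.inr (Or.inr (Or.inr (Or.inr (Or.inr (Or.inr (Or.inr (Or.inr (Or.inr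
    (Or.inr (Or.inr (Or.inr (Or.inl h))))))))))))))))
theorem concl_hn (h : Spor.IsoHN G) : Concl G :=
  Or.inr (Or.inr (Or.inr (Or.inr (Or.inr (Or.inr (Or.inr (Or.inr (Or.inr (Or.inr (Or.inr (Or.inr (Or.inr
    (Or.inr (Or.inr (Or.inr (Or.inr (Or.inl h)))))))))))))))))
theorem concl_b (h : Spor.IsoB G) : Concl G :=
  Or.inr (Or.inr (Or.inr (Or.inr (Or.inr (Or.inr (Or.inr (Or.inr (Or.inr (Or.inr (Or.inr (Or.inr (Or.inr
    (Or.inr (Or.inr (Or.inr (Or.inr (Or.inr (Or.inl h))))))))))))))))))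
theorem concl_m (h : Spor.IsoM G) : Concl G :=
  Or.inr (Or.inr (Or.inr (Or.inr (Or.inr (Or.inr (Or.inr (Or.inr (Or.inr (Or.inr (Or.inr (Or.inr (Or.inr
    (Or.inr (Or.inr (Or.inr (Or.inr (Or.inr (Or.inr h))))))))))))))))))

theorem lieOdd_psl (p : ℕ) [hp : Fact p.Prime] (hp2 : p ≠ 2) (k : ℕ) {L : Type} [iF : Field L] [iT : Fintype L] (hL : Fintype.card L = p ^ k)
    (n : ℕ) (hn : 2 ≤ n) (h4 : 4 ≤ Fintype.card L)
    (f : Nonempty (G ≃* Matrix.ProjectiveSpecialLinearGroup (Fin n) L)) : LieOdd G := by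
  haveI : CharP L p := charP_of_card_eq_prime_pow hL
  refine ⟨p, hp.out, hp2, Or.inl ?_⟩
  exact ⟨L, iF, iT, this, n, hn, fun _ => h4, f⟩

theorem lieOdd_psu (p : ℕ) [hp : Fact p.Prime] (hp2 : p ≠ 2) (k : ℕ) {L : Type} [iF : Field L] [iT : Fintype L] (hL : Fintype.card L = p ^ k)
    (n q : ℕ) (hq : Fintype.card L = q ^ 2) (hn : 3 ≤ n) (h4 : ¬ (n = 3 ∧ q = 2))
    (f : Nonempty (G ≃* PSU n L q)) : LieOdd G := by
  haveI : CharP L p := charP_of_card_eq_prime_pow hL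
  refine ⟨p, hp.out, hp2, Or.inr (Or.inr (Or.inl ?_))⟩
  exact ⟨L, iF, iT, this, n, q, hq, hn, h4, f⟩

theorem lieOdd_g2 (p : ℕ) [hp : Fact p.Prime] (hp2 : p ≠ 2) (k : ℕ) {L : Type} [iF : Field L] [iT : Fintype L] (hL : Fintype.card L = p ^ k)
    (h4 : 3 ≤ Fintype.card L)
    (f : Nonempty (G ≃* ↥(Lie.chevG2.group L))) : LieOdd G := by
  haveI : CharP L p := charP_of_card_eq_prime_pow hL
  refine ⟨p, hp.out, hp2, Or.inr (Or.inr (Or.inr (Or.inr (Or.inr (Or.inr (Or.inl ?_))))))⟩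
  exact ⟨L, iF, iT, this, Or.inl ⟨h4, f⟩⟩

theorem lieOdd_3d4 (p : ℕ) [hp : Fact p.Prime] (hp2 : p ≠ 2) (k : ℕ) {L : Type} [iF : Field L] [iT : Fintype L] (hL : Fintype.card L = p ^ k)
    (q : ℕ) (hq : IsPrimePow q) (h4 : Fintype.card L = q ^ 3)
    (f : Nonempty (G ≃* ↥(Lie.twistedD4 L q))) : LieOdd G := by
  haveI : CharP L p := charP_of_card_eq_prime_pow hL
  refine ⟨p, hp.out, hp2, Or.inr (Or.inr (Or.inr (Or.inr (Or.inr (Or.inr (Or.inr (Or.inl ?_)))))))⟩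
  exact ⟨L, iF, iT, this, q, hq, Or.inr ⟨h4, f⟩⟩
/-- `G` is not of Lie type in odd characteristic. -/
theorem not_lieOdd (R : Small.Excl.Rows) (C : Ctx G) : ¬ LieOdd G := by
  haveI := C.fin
  exact fun h => C.nc (Small.Excl.concl_of_lie R C.notTwo h)

/-- The conclusion `Lie type in characteristic 3, A_n, or X` with `X` in the list. -/
theorem three_false (R : Small.Excl.Rows) (C : Ctx G) {P : Prop} (hP : P → Concl G)
    (h : IsLieTypeChar 3 G ∨ (∃ n : ℕ, 9 ≤ n ∧ Nonempty (G ≃* ↥(alternatingGroup (Fin n)))) ∨ P) : False := by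
  rcases h with h | ⟨n, hn, h⟩ | h
  · exact not_lieOdd R C ⟨3, Nat.prime_three, by decide, h⟩
  · exact C.nc (concl_alt (Or.inr hn) h)
  · exact C.nc (hP h)

/-- A component of `C(t)` with `O(C(t)) = 1` as a 2-component. -/
theorem isPComponent [Finite G] {t : G} {K : Subgroup G} (hb : centralizerPPrimeCore 2 t = ⊥)
    (h : CompOf t K) : IsPComponent 2 (K.subgroupOf (centralizer ({t} : Set G))) := by
  refine SignalizersComponents.ComponentImage.isPComponent_of_isComponent h.2 ?_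
  intro h1
  rw [Subgroup.map_eq_bot_iff, QuotientGroup.ker_mk', Soft.core_eq_bot hb, le_bot_iff] at h1
  exact SignalizersComponents.Components.component_ne_bot h.2 h1

end

section

variable {G : Type u} [Group G]

/-- an involution centralizing `K` -/
theorem exists_inv {K : Subgroup G} (C : Ctx G) (S : Std0 G K) :
    ∃ t : G, orderOf t = 2 ∧ t ∈ centralizer (K : Set G) := by
  haveI := C.fin
  have h1 := S.std.2.1.1
  haveI : Fact (Nat.Prime 2) := ⟨Nat.prime_two⟩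
  obtain ⟨t, ht⟩ := exists_prime_orderOf_dvd_card' (G := ↥(centralizer (K : Set G))) 2 (even_iff_two_dvd.mp h1)
  exact ⟨t, by rw [Subgroup.orderOf_coe, ht], t.2⟩

/-- The odd core of a component is trivial. -/
theorem oddCore_eq_bot {K : Subgroup G} (C : Ctx G) (S : Std0 G K) : oddCore ↥K = ⊥ := by
  haveI := C.fin
  obtain ⟨t, ht, hc⟩ := S.comp
  have e : ↥(K.subgroupOf (centralizer ({t} : Set G))) ≃* ↥K := subgroupOfEquivOfLe hc.1
  have h3 := Lib.PComponents.map_pPrimeCore_le_of_isSubnormal (p := 2) hc.2.1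
  rw [Soft.core_eq_bot (C.bal t ht), le_bot_iff, map_eq_bot_iff_of_injective _ (subtype_injective _)] at h3
  have h4 := Lib.Cores.map_equiv_pPrimeCore e 2
  rw [h3, Subgroup.map_bot] at h4
  exact h4.symm

/-- S1739: `K` is not `McL` or `Ly`. -/
theorem not_mcl_ly (F : P1739.{u}) {K : Subgroup G} (C : Ctx G) (S : Std0 G K) :
    ¬ Spor.IsoMcL ↥K ∧ ¬ Spor.IsoLy ↥K := by
  haveI := C.fin
  haveI := C.simple
  obtain ⟨t, ht, hc⟩ := S.comp
  have hO : oddCore G = ⊥ := Soft.oddCore_eq_bot (Soft.even_of_rank C.rank3)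
  have hF : IsQuasisimple ↥(generalizedFittingSubgroup G) :=
    SignalizersComponents.Components.isQuasisimple_of_mulEquiv (Soft.fstarEquiv C.na).symm
      (Soft.quasisimple C.na)
  have h1 := F hO hF t ht _ (isPComponent (C.bal t ht) hc)
  have hoc := oddCore_eq_bot C S
  have e : ↥(K.subgroupOf (centralizer ({t} : Set G))) ≃* ↥K := subgroupOfEquivOfLe hc.1
  have e1 : ↥(K.subgroupOf (centralizer ({t} : Set G))) ⧸ oddCore ↥(K.subgroupOf (centralizer ({t} : Set G)))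
      ≃* ↥K ⧸ oddCore ↥K := QuotientGroup.congr _ _ e (Lib.Cores.map_equiv_pPrimeCore e 2)
  have e2 : ↥K ⧸ oddCore ↥K ≃* ↥K :=
    (QuotientGroup.quotientMulEquivOfEq hoc).trans QuotientGroup.quotientBot
  exact ⟨fun ⟨f⟩ => h1.1 ⟨(e1.trans e2).trans f⟩, fun ⟨f⟩ => h1.2 ⟨(e1.trans e2).trans f⟩⟩

/-- No standard component is on the list. -/
theorem listed_false (R : Small.Excl.Rows) (F : Forms.{u}) {K : Subgroup G} (C : Ctx G) (S : Std0 G K)
    (h : Listed K) : False := by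
  haveI := C.fin
  haveI := C.simple
  have hF2 : ∃ (F2 : Type) (_ : Field F2) (_ : Fintype F2), Fintype.card F2 = 2 :=
    ⟨ZMod 2, inferInstance, inferInstance, ZMod.card 2⟩
  rcases h with ⟨E, _, _, hE, h⟩ | ⟨E, _, _, hE, h1, h⟩ | ⟨E, _, _, hE, h1, h⟩ | ⟨E, _, _, hE, h⟩ | ⟨h1, h⟩ |
    ⟨E, _, _, hE, h1, h⟩ | ⟨E, _, _, hE, h⟩ | ⟨h1, h⟩ | ⟨E, _, _, hE, h1, h⟩ | ⟨E, _, _, hE, h⟩ |
    ⟨E, _, _, hE, h1, h2, h⟩ | h | ⟨E, _, _, hE, h⟩ | ⟨h1, h⟩ | h | h
  · exact C.nc (concl_ru (F.p1732 C.na C.bal C.strong K S.std hE h))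
  · exact C.nc (concl_co3 (F.p1733 C.na C.bal C.strong K S.std hE ⟨h1, h⟩))
  · obtain ⟨F2, _, _, h2⟩ := hF2
    exact C.nc (concl_fi22 (F.p1734 C.na C.bal C.strong K S.std h2 hE (Or.inl ⟨h1, h⟩)))
  · -- a field with 4 elements
    haveI : Fact (Nat.Prime 2) := ⟨Nat.prime_two⟩
    haveI : Fintype (GaloisField 2 2) := Fintype.ofFinite _
    have h4 : Fintype.card (GaloisField 2 2) = 4 := by
      rw [← Nat.card_eq_fintype_card, GaloisField.card 2 2 (by decide)]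
      norm_num
    exact C.nc (concl_fi22 (F.p1734 C.na C.bal C.strong K S.std hE h4 (Or.inr h)))
  · rcases F.p1735 C.na C.bal C.strong K S.std ⟨h1, h⟩ with h3 | h3
    · exact C.nc (concl_fi23 h3)
    · exact C.nc (concl_fi24 h3)
  · obtain ⟨F2, _, _, h2⟩ := hF2
    exact C.nc (concl_b (F.p1736 C.na C.bal C.strong K S.std h2 hE (Or.inl ⟨h1, h⟩)))
  · haveI : Fact (Nat.Prime 2) := ⟨Nat.prime_two⟩
    haveI : Fintype (GaloisField 2 2) := Fintype.ofFinite _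
    have h4 : Fintype.card (GaloisField 2 2) = 4 := by
      rw [← Nat.card_eq_fintype_card, GaloisField.card 2 2 (by decide)]
      norm_num
    exact C.nc (concl_b (F.p1736 C.na C.bal C.strong K S.std hE h4 (Or.inr h)))
  · exact C.nc (concl_m (F.p1737 C.na C.bal C.strong K S.std ⟨h1, h⟩))
  · exact three_false R C concl_he (F.p1747 C.na C.strong K S.std hE ⟨h1, h⟩)
  · exact three_false R C concl_suz (F.p1748 C.na C.strong K S.std hE h)
  · exact three_false R C concl_on (F.p1749 C.na C.strong K S.std hE ⟨h1, h2, h⟩)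
  · exact three_false R C concl_co3 (F.p1750 C.na C.strong K S.std h)
  · exact three_false R C concl_co1 (F.p1751 C.na C.strong K S.std hE h)
  · exact three_false R C concl_hn (F.p1752 C.na C.strong K S.std ⟨h1, h⟩)
  · exact (not_mcl_ly F.p1739 C S).1 h
  · exact (not_mcl_ly F.p1739 C S).2 h

/-! ### The normal closure -/

theorem not_normal {K : Subgroup G} (C : Ctx G) (S : Std0 G K) : ¬ K.Normal := by
  haveI := C.simple
  intro h
  rcases h.eq_bot_or_eq_top with h1 | h1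
  · obtain ⟨t, -, hc⟩ := S.comp
    exact Soft.CompOf.ne_bot hc h1
  · exact S.ne_top h1

theorem normalClosure_eq_top {K : Subgroup G} (C : Ctx G) (S : Std0 G K) :
    normalClosure (K : Set G) = ⊤ := by
  haveI := C.simple
  rcases (inferInstance : (normalClosure (K : Set G)).Normal).eq_bot_or_eq_top with h1 | h1
  · obtain ⟨t, -, hc⟩ := S.comp
    exact absurd (le_bot_iff.mp (h1 ▸ (le_normalClosure (H := K)))) (Soft.CompOf.ne_bot hc)
  · exact h1

/-- S1766 -/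
theorem alt_false (F : P1766.{u}) {K : Subgroup G} (C : Ctx G) (S : Std0 G K)
    (hr : ¬ PRankLE 2 1 ↥(centralizer (K : Set G))) {n : ℕ} (hn : 5 ≤ n)
    (h : Nonempty (↥K ≃* ↥(alternatingGroup (Fin n)))) : False := by
  haveI := C.fin
  haveI := C.simple
  have hO : oddCore G = ⊥ := Soft.oddCore_eq_bot (Soft.even_of_rank C.rank3)
  have e : ↥(normalClosure (K : Set G)) ≃* G :=
    (MulEquiv.subgroupCongr (normalClosure_eq_top C S)).trans Subgroup.topEquiv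
  rcases F hO C.strong K S.std n hn h hr with h1 | ⟨⟨f⟩⟩ | ⟨-, ⟨⟨f⟩⟩ | ⟨⟨f⟩⟩⟩
  · exact not_normal C S h1
  · exact C.nc (concl_alt (Or.inr (by omega)) ⟨e.symm.trans f⟩)
  · exact C.nc (concl_m12 ⟨e.symm.trans f⟩)
  · exact C.nc (concl_j2 ⟨e.symm.trans f⟩)

/-! ### Cyclic centralizers, small rank -/

theorem not_prod {K : Subgroup G} (C : Ctx G) (S : Std0 G K) :
    ¬ Nonempty (↥(layer G) ≃* ↥K × ↥K) := by
  haveI := C.simple
  rintro ⟨f⟩
  have f1 : G ≃* ↥K × ↥K := (Soft.layerEquiv C.na).symm.trans f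
  haveI : IsSimpleGroup (↥K × ↥K) := Known.isSimple_congr f1 inferInstance
  obtain ⟨t, -, hc⟩ := S.comp
  haveI := SignalizersComponents.Components.quasisimple_nontrivial (Soft.CompOf.quasisimple hc)
  obtain ⟨a, ha⟩ := exists_ne (1 : ↥K)
  rcases (inferInstance : (MonoidHom.fst ↥K ↥K).ker.Normal).eq_bot_or_eq_top with h1 | h1
  · have h2 : ((1, a) : ↥K × ↥K) ∈ (MonoidHom.fst ↥K ↥K).ker := by
      rw [MonoidHom.mem_ker]; rfl
    rw [h1, mem_bot] at h2
    exact ha (congrArg Prod.snd h2)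
  · have h2 : ((a, 1) : ↥K × ↥K) ∈ (MonoidHom.fst ↥K ↥K).ker := by
      rw [h1]; trivial
    rw [MonoidHom.mem_ker] at h2
    exact ha h2

theorem not_outer (C : Ctx G) (t : G) :
    ¬ ¬ ∃ e : G, e ∈ layer G ∧ ∀ x ∈ layer G, t * x * t⁻¹ = e * x * e⁻¹ := by
  haveI := C.simple
  intro h
  apply h
  refine ⟨t, ?_, fun x _ => rfl⟩
  rw [Soft.layer_eq_top C.na]
  trivial

/-- The listed statements on small rank. -/
structure Smalls : Prop where
  p1771 : P1771.{u}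
  p1772 : P1772.{u}
  p1773 : P1773.{u}
  p1778 : P1778.{u}

theorem two_false (R : Small.Excl.Rows) (F : P1773.{u}) {K : Subgroup G} (C : Ctx G) (S : Std0 G K)
    (hc : Cyc K) {E : Type} [Field E] [Fintype E] (a : ℕ) (ha : 2 ≤ a) (hE : Fintype.card E = 2 ^ a)
    (h : Nonempty (↥K ⧸ center ↥K ≃* Matrix.ProjectiveSpecialLinearGroup (Fin 2) E)) : False := by
  haveI := C.fin
  haveI := C.simple
  have hO : oddCore G = ⊥ := Soft.oddCore_eq_bot (Soft.even_of_rank C.rank3)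
  obtain ⟨t, ht, htK⟩ := exists_inv C S
  have e := (Soft.layerEquiv C.na).symm
  rcases F hO C.strong K S.std (not_normal C S) hc t ht htK a ha hE h with h1 | ⟨-, h1⟩ | ⟨-, h1⟩ |
    ⟨-, -, L, _, _, hL, ⟨f⟩⟩
  · exact not_prod C S h1
  · exact not_outer C t h1
  · rcases h1 with ⟨⟨f⟩⟩ | ⟨⟨f⟩⟩ | ⟨⟨f⟩⟩ | ⟨⟨f⟩⟩ | ⟨⟨f⟩⟩ | ⟨L, _, _, hL, h1⟩ | ⟨L, _, _, hL, h1⟩ | ⟨L, _, _, hL, ⟨f⟩⟩
    · exact C.nc (concl_m12 ⟨e.trans f⟩)
    · exact C.nc (concl_alt (Or.inr le_rfl) ⟨e.trans f⟩)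
    · exact C.nc (concl_j1 ⟨e.trans f⟩)
    · exact C.nc (concl_j2 ⟨e.trans f⟩)
    · exact C.nc (concl_alt (Or.inl rfl) ⟨e.trans f⟩)
    · haveI : Fact (Nat.Prime 5) := ⟨Nat.prime_five⟩
      have hL' : Fintype.card L = 5 ^ 2 := hL
      rcases h1 with ⟨⟨f⟩⟩ | ⟨⟨f⟩⟩
      · exact not_lieOdd R C (lieOdd_psl 5 (by decide) 2 hL' 2 le_rfl (by rw [hL]; decide) ⟨e.trans f⟩)
      · exact not_lieOdd R C (lieOdd_psu 5 (by decide) 2 hL' 3 5 hL' le_rfl (by decide) ⟨e.trans f⟩)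
    · haveI : Fact (Nat.Prime 5) := ⟨Nat.prime_five⟩
      have hL' : Fintype.card L = 5 ^ 1 := hL
      rcases h1 with ⟨⟨f⟩⟩ | ⟨⟨f⟩⟩
      · exact not_lieOdd R C (lieOdd_psl 5 (by decide) 1 hL' 3 (by decide) (by rw [hL]; decide) ⟨e.trans f⟩)
      · exact not_lieOdd R C (lieOdd_g2 5 (by decide) 1 hL' (by rw [hL]; decide) ⟨e.trans f⟩)
    · haveI : Fact (Nat.Prime 5) := ⟨Nat.prime_five⟩
      have hL' : Fintype.card L = 5 ^ 3 := hL
      exact not_lieOdd R C (lieOdd_3d4 5 (by decide) 3 hL' 5 Nat.prime_five.isPrimePow hL' ⟨e.trans f⟩)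
  · exact C.notTwo (Small.Generic.isCharacteristicTwoType_congr (e.trans f).symm (R.g23 L hL))

theorem sz_false (F : P1772.{u}) {K : Subgroup G} (C : Ctx G) (S : Std0 G K)
    (hc : Cyc K) {E : Type} [Field E] [Fintype E] (m : ℕ) (hm : 1 ≤ m) (hE : Fintype.card E = 2 ^ (2 * m + 1))
    (h : Nonempty (↥K ⧸ center ↥K ≃* ↥(Lie.Sz E (2 ^ (m + 1))))) : False := by
  haveI := C.fin
  haveI := C.simple
  have hO : oddCore G = ⊥ := Soft.oddCore_eq_bot (Soft.even_of_rank C.rank3)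
  obtain ⟨t, ht, htK⟩ := exists_inv C S
  have e := (Soft.layerEquiv C.na).symm
  rcases F hO C.strong K S.std (not_normal C S) hc t ht htK m hm hE h with h1 | ⟨-, h1⟩ | ⟨-, -, ⟨f⟩⟩
  · exact not_prod C S h1
  · exact not_outer C t h1
  · exact C.nc (concl_ru ⟨e.trans f⟩)

theorem small_false (R : Small.Excl.Rows) (F : Smalls.{u}) {K : Subgroup G} (C : Ctx G) (S : Std0 G K)
    (hc : Cyc K) (hz : center ↥K = ⊥) (h : SmallRank (↥K ⧸ center ↥K)) : False := by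
  haveI := C.fin
  haveI := C.simple
  have hO : oddCore G = ⊥ := Soft.oddCore_eq_bot (Soft.even_of_rank C.rank3)
  obtain ⟨t, ht, htK⟩ := exists_inv C S
  have hz' : Odd (Nat.card ↥(center ↥K)) := by
    rw [hz, Subgroup.card_bot]; exact odd_one
  have key : ∀ h' : _, P1778.{u} → False := fun h' F' => by
    rcases F' hO C.strong K S.std (not_normal C S) hz' hc t ht htK h' with h1 | ⟨-, h1⟩
    · exact not_prod C S h1
    · exact not_outer C t h1
  rcases h with ⟨E, _, _, a, ha, hE, h⟩ | ⟨E, _, _, a, ha, hE, h⟩ | ⟨E, _, _, m, hm, hE, h⟩ | h | h | h | h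
  · exact two_false R F.p1773 C S hc a ha hE h
  · rcases F.p1771 hO C.strong K S.std (not_normal C S) hc t ht htK a ha hE h with h1 | ⟨-, h1⟩
    · exact not_prod C S h1
    · exact not_outer C t h1
  · exact sz_false F.p1772 C S hc m hm hE h
  · exact key (Or.inl h) F.p1778
  · exact key (Or.inr (Or.inl h)) F.p1778
  · exact key (Or.inr (Or.inr (Or.inl h))) F.p1778
  · exact key (Or.inr (Or.inr (Or.inr h))) F.p1778

end

end Cfsg.Agent.OddHalf.ListedOut
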