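import Cfsg.Agent.OddHalf.Iface
import Cfsg.Agent.OddHalf.Known
import Cfsg.Agent.OddHalf.Stmts
import Cfsg.Agent.OddHalf.Soft
import Cfsg.Agent.OddHalf.ListedOut
import Cfsg.Agent.OddHalf.Cyc
import Cfsg.Agent.OddHalf.AltCoverOut
import Cfsg.Agent.OddHalf.D1.RankOne
import Cfsg.Agent.S0252

/-!
# S1765 from the nodes

`ctx_false`: the nodes of `Iface.lean` and the listed statements leave no counterexample in the frame `Ctx`.
-/

set_option autoImplicit false
set_option linter.style.haveILetI false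

namespace Cfsg.Agent.OddHalf.Main

open Subgroup Cfsg Cfsg.Agent.OddHalf.Iface Cfsg.Agent.OddHalf.Stmts

universe u

/-- The nodes. `Intr2` (no standard subgroup `M` with even centre and `Cyc M`; `intr_of_intr2`) is available in all the nodes with `Z(K) = 1`
and in `D3b`, `D4`. -/
structure Nodes : Prop where
  d3a : D3a.{u}
  d3b : Intr2.{u} → D3b.{u}
  d4 : Intr2.{u} → D4.{u}
  d5 : Intr2.{u} → D5.{u} (fun n => 6 ≤ n)
  d5cover : D5cover.{u}
  u2 : U2.{u}
  /-- `Iface.D6` with `Z(K) = 1` -/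
  d6 : Intr2.{u} → ∀ (G : Type u) [Group G], Ctx G → ∀ K : Subgroup G, Std G K → Cyc K → center ↥K = ⊥ →
    LieOdd ↥K → ¬ IsAlternating ↥K → False
  d7 : Intr2.{u} → D7.{u}
  d8 : Intr2.{u} → D8.{u}
  d9 : D9.{u}
  /-- quaternion Sylow 2-subgroups of `C(K)` -/
  dq : Intr2.{u} → NodeQ.{u}

/-- The listed statements, and the rows of D11. -/
structure Known : Prop where
  rows : Small.Excl.Rows
  forms : ListedOut.Forms.{u}
  smalls : ListedOut.Smalls.{u}
  p1738 : P1738.{u}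
  p1766 : P1766.{u}

variable {G : Type u} [Group G]

/-- `K ≅ K / Z(K)` when `Z(K) = 1`. -/
noncomputable def quoEquiv {K : Type u} [Group K] (h : center K = ⊥) : K ⧸ center K ≃* K :=
  (QuotientGroup.quotientMulEquivOfEq h).trans QuotientGroup.quotientBot

/-- the cover of an alternating group -/
theorem altCov_false (Kn : Known.{u}) (d5cover : D5cover.{u}) (C : Ctx G) {K : Subgroup G} (S : Std0 G K)
    (h : IsAlternating (↥K ⧸ center ↥K)) (hz : center ↥K ≠ ⊥) : False := by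
  haveI := C.fin
  obtain ⟨n, hn, ⟨f⟩⟩ := h
  obtain ⟨t, -, hc⟩ := S.comp
  obtain ⟨h8, hcov⟩ := d5cover ↥K inferInstance (Soft.CompOf.quasisimple hc) S.z2 hz S.rk2 n hn ⟨f⟩
  exact AltCoverOut.altCover_false Kn.p1738 C S n h8 hcov

/-- alternating `K / Z(K)` -/
theorem alt_case (Kn : Known.{u}) (N : Nodes.{u}) (I : Intr2.{u}) (C : Ctx G) {K : Subgroup G} (S : Std G K)
    (h : IsAlternating (↥K ⧸ center ↥K)) : False := by
  haveI := C.fin
  by_cases hz : center ↥K = ⊥
  swap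
  · exact altCov_false Kn N.d5cover C S.toStd0 h hz
  obtain ⟨n, hn, ⟨f⟩⟩ := h
  have f1 : Nonempty (↥K ≃* ↥(alternatingGroup (Fin n))) := ⟨(quoEquiv hz).symm.trans f⟩
  by_cases hr : PRankLE 2 1 ↥(centralizer (K : Set G))
  · have hc := N.dq I G C K S.toStd0 hr
    by_cases h5 : n = 5
    · subst h5
      haveI : Fact (Nat.Prime 2) := ⟨Nat.prime_two⟩
      haveI : Fintype (GaloisField 2 2) := Fintype.ofFinite _
      have h4 : Fintype.card (GaloisField 2 2) = 2 ^ 2 := by
        rw [← Nat.card_eq_fintype_card, GaloisField.card 2 2 (by decide)]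
      obtain ⟨g⟩ := Cfsg.Agent.S0252.result (F := GaloisField 2 2) h4
      exact ListedOut.two_false Kn.rows Kn.smalls.p1773 C S.toStd0 hc 2 le_rfl h4 ⟨f.trans g.symm⟩
    · exact N.d5 I G C K S hc n (show 6 ≤ n by omega) f1
  · exact ListedOut.alt_false Kn.p1766 C S.toStd0 hr hn f1

/-- the case of even centre, without maximality -/
theorem even_false (Kn : Known.{u}) (d9 : D9.{u}) (u2 : U2.{u}) (d5cover : D5cover.{u}) (C : Ctx G)
    {K : Subgroup G} (S : Std0 G K) (hc : Cyc K) (hz : center ↥K ≠ ⊥) : False := by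
  haveI := C.fin
  by_cases hl : Listed K
  · exact ListedOut.listed_false Kn.rows Kn.forms C S hl
  by_cases ha : IsAlternating (↥K ⧸ center ↥K)
  · exact altCov_false Kn d5cover C S ha hz
  by_cases ho : LieOdd (↥K ⧸ center ↥K)
  · exact u2 G C K S ho hz ha
  have hsz : ¬ ∃ (F : Type) (_ : Field F) (_ : Fintype F) (m : ℕ), 1 ≤ m ∧
      Fintype.card F = 2 ^ (2 * m + 1) ∧ Nonempty (↥K ⧸ center ↥K ≃* ↥(Lie.Sz F (2 ^ (m + 1)))) := by
    rintro ⟨F, _, _, m, hm, hF, hf⟩
    exact ListedOut.sz_false Kn.smalls.p1772 C S hc m hm hF hf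
  rcases Known.classify S.quo_na S.known with h | h | h | h
  · exact ha h
  · exact ho h
  · exact d9 G C K S hc hz (Or.inl ⟨h, ha, ho⟩) hl hsz
  · exact d9 G C K S hc hz (Or.inr h) hl hsz

/-- a normal quasisimple subgroup is a component -/
theorem compOf_of_normal {z : G} {M : Subgroup G} (hq : IsQuasisimple ↥M)
    (h : centralizer ({z} : Set G) ≤ normalizer (M : Set G)) (hM : M ≤ centralizer ({z} : Set G)) :
    CompOf z M := by
  have hn : (M.subgroupOf (centralizer ({z} : Set G))).Normal := normal_subgroupOf_of_le_normalizer h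
  exact ⟨hM, hn.isSubnormal,
    Cfsg.Agent.SignalizersComponents.QsBasic.isQuasisimple_of_mulEquiv (subgroupOfEquivOfLe hM).symm hq⟩

/-- In the frame every standard subgroup is a terminal component, of 2-rank at least 2, with known quotient. -/
theorem std0_of_standard (hGW : SylowSp4.Hyps.GW.{u}) (C : Ctx G) {M : Subgroup G} (hM : IsStandardSubgroup M) :
    Std0 G M := by
  haveI := C.fin
  haveI := C.simple
  haveI : Fact (Nat.Prime 2) := ⟨Nat.prime_two⟩
  have hcomp : ∀ y : G, orderOf y = 2 → y ∈ centralizer (M : Set G) → CompOf y M := by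
    intro y hy hyM
    refine compOf_of_normal hM.1 (Cfsg.Agent.S1754.result M hM y hy hyM).1 ?_
    intro m hm
    rw [mem_centralizer_singleton_iff]
    exact ((mem_centralizer_iff.mp hyM) m hm)
  obtain ⟨y, hy⟩ := exists_prime_orderOf_dvd_card' (G := ↥(centralizer (M : Set G))) 2
    (even_iff_two_dvd.mp hM.2.1.1)
  have hy' : orderOf (y : G) = 2 := by rw [Subgroup.orderOf_coe]; exact hy
  have hy1 := hcomp y hy' y.2
  have T : Term0 G M := ⟨⟨y, hy', hy1⟩, hcomp⟩
  have hT := Soft.CompOf.ne_top C.na hy' hy1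
  have hn := Soft.quo_na hM.1
  exact
    { T with
      std := hM
      ne_top := hT
      z2 := Soft.CompOf.center_isPGroup (C.bal y hy') hy1
      rk2 := D1.not_rank_one hGW C T
      simple := hM.1.2
      quo_na := hn
      known := Known.known_quotient C.kproper M hT _ hM.1.2 hn }

/-- **Intr2** from the listed statements, `D9`, `U2` and `D5cover` -/
theorem intr2 (hGW : SylowSp4.Hyps.GW.{u}) (Kn : Known.{u}) (d9 : D9.{u}) (u2 : U2.{u})
    (d5cover : D5cover.{u}) : Intr2.{u} := by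
  intro G _ C M hM hcyc ⟨z, hz, hzM, hzC⟩
  refine even_false Kn d9 u2 d5cover C (std0_of_standard hGW C hM) hcyc ?_
  intro hb
  have h1 : (⟨z, hzM⟩ : ↥M) ∈ center ↥M := by
    rw [mem_center_iff]
    intro m
    exact Subtype.ext ((mem_centralizer_iff.mp hzC) m m.2)
  rw [hb, mem_bot] at h1
  have h2 : z = 1 := congrArg Subtype.val h1
  rw [h2, orderOf_one] at hz
  omega

/-- `Intr` is a special case of `Intr2` -/
theorem intr_of_intr2 (h : Intr2.{u}) : Intr.{u} := by
  intro G _ C M z hz hM hzM hCM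
  refine h G C M hM ?_ ⟨z, hz, hzM, by rw [hCM]; exact mem_zpowers z⟩
  intro R
  have h1 : IsCyclic ↥(centralizer (M : Set G)) := by
    rw [hCM]
    infer_instance
  infer_instance

/-- **Intr** from the listed statements, `D9`, `U2` and `D5cover` -/
theorem intr (hGW : SylowSp4.Hyps.GW.{u}) (Kn : Known.{u}) (d9 : D9.{u}) (u2 : U2.{u})
    (d5cover : D5cover.{u}) : Intr.{u} := intr_of_intr2 (intr2 hGW Kn d9 u2 d5cover)

/-- The nodes leave no standard component. -/
theorem std_false (Kn : Known.{u}) (N : Nodes.{u}) (I : Intr2.{u}) (C : Ctx G) {K : Subgroup G} (S : Std G K) :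
    False := by
  haveI := C.fin
  by_cases hl : Listed K
  · exact ListedOut.listed_false Kn.rows Kn.forms C S.toStd0 hl
  by_cases ha : IsAlternating (↥K ⧸ center ↥K)
  · exact alt_case Kn N I C S ha
  by_cases hi : LieOdd (↥K ⧸ center ↥K) → center ↥K = ⊥
  swap
  · push Not at hi
    exact N.u2 G C K S.toStd0 hi.1 hi.2 ha
  by_cases hr : PRankLE 2 1 ↥(centralizer (K : Set G))
  swap
  · exact N.d4 I G C K S hr ha hi hl
  have hc := N.dq I G C K S.toStd0 hr
  by_cases hz : center ↥K = ⊥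
  swap
  · exact even_false Kn N.d9 N.u2 N.d5cover C S.toStd0 hc hz
  have hd6 : LieOdd (↥K ⧸ center ↥K) → False := by
    rintro ⟨p, hp, hp2, h⟩
    refine N.d6 I G C K S hc hz ⟨p, hp, hp2, Known.isLieTypeChar_congr (quoEquiv hz) h⟩ ?_
    exact fun h' => ha (Known.isAlternating_congr (quoEquiv hz).symm h')
  rcases Known.classify S.quo_na S.known with h | h | h | h
  · exact ha h
  · exact hd6 h
  · by_cases ho : LieOdd (↥K ⧸ center ↥K)
    · exact hd6 ho
    by_cases hs : SmallRank (↥K ⧸ center ↥K)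
    · exact ListedOut.small_false Kn.rows Kn.smalls C S.toStd0 hc hz hs
    refine N.d7 I G C K S hc ?_ ?_ hl
    · refine ⟨?_, fun h' => ha (Known.isAlternating_congr (quoEquiv hz).symm h'), ?_⟩
      · rcases h with h | h
        · exact Or.inl (Known.isLieTypeChar_congr (quoEquiv hz) h)
        · exact Or.inr (Known.isoTits_congr (quoEquiv hz) h)
      · rintro ⟨p, hp, hp2, h'⟩
        exact ho ⟨p, hp, hp2, Known.isLieTypeChar_congr (quoEquiv hz).symm h'⟩
    · intro h'
      apply hs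
      have e := quoEquiv hz
      rcases h' with ⟨F, i1, i2, a, h1, h2, ⟨f⟩⟩ | ⟨F, i1, i2, a, h1, h2, ⟨f⟩⟩ | ⟨F, i1, i2, a, h1, h2, ⟨f⟩⟩ |
        ⟨F, i1, i2, a, h1, h2, h3⟩ | ⟨F, i1, i2, a, h1, h2, h3⟩ | ⟨F, i1, i2, h2, ⟨f⟩⟩ |
        ⟨F, i1, i2, a, h1, h2, ⟨f⟩⟩
      · exact Or.inl ⟨F, i1, i2, a, h1, h2, ⟨e.trans f⟩⟩
      · exact Or.inr (Or.inl ⟨F, i1, i2, a, h1, h2, ⟨e.trans f⟩⟩)
      · exact Or.inr (Or.inr (Or.inl ⟨F, i1, i2, a, h1, h2, ⟨e.trans f⟩⟩))
      · refine Or.inr (Or.inr (Or.inr (Or.inl ⟨F, i1, i2, a, h1, h2, ?_⟩)))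
        rcases h3 with ⟨⟨f⟩⟩ | ⟨⟨f⟩⟩ | ⟨⟨f⟩⟩
        · exact Or.inl ⟨e.trans f⟩
        · exact Or.inr (Or.inl ⟨e.trans f⟩)
        · exact Or.inr (Or.inr ⟨e.trans f⟩)
      · refine Or.inr (Or.inr (Or.inr (Or.inr (Or.inl ⟨F, i1, i2, a, h1, h2, ?_⟩))))
        rcases h3 with ⟨⟨f⟩⟩ | ⟨⟨f⟩⟩
        · exact Or.inl ⟨e.trans f⟩
        · exact Or.inr ⟨e.trans f⟩
      · exact Or.inr (Or.inr (Or.inr (Or.inr (Or.inr (Or.inl ⟨F, i1, i2, h2, ⟨e.trans f⟩⟩)))))
      · exact Or.inr (Or.inr (Or.inr (Or.inr (Or.inr (Or.inr ⟨F, i1, i2, a, h1, h2, ⟨e.trans f⟩⟩)))))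
  · exact N.d8 I G C K S hc (Known.isSporadic_congr (quoEquiv hz) h) hl

/-- There is no counterexample in the frame. -/
theorem ctx_false (hGW : SylowSp4.Hyps.GW.{u}) (Kn : Known.{u}) (N : Nodes.{u}) (C : Ctx G) : False := by
  haveI := C.fin
  haveI := C.simple
  have I : Intr2.{u} := intr2 hGW Kn N.d9 N.u2 N.d5cover
  have hcomp := Soft.exists_comp (Soft.even_of_rank C.rank3) C.bal C.notTwo
  obtain ⟨K, hK⟩ := N.d3a G C.fin C.bal hcomp
  have hr := D1.not_rank_one hGW C hK.toTerm0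
  exact std_false Kn N I C (Soft.std_of_term C hK hr (N.d3b I G C K hK hr))

/-- **S1765** from the nodes, given the frame theorem (`Ctx` for a counterexample); `hGW` is the statement of S0483. -/
theorem s1765_of_nodes (hGW : SylowSp4.Hyps.GW.{u}) (Kn : Known.{u}) (N : Nodes.{u})
    (hctx : ∀ (G : Type u) [Group G] [Finite G] [IsSimpleGroup G], ¬ IsMulCommutative G → IsKProper G →
      ¬ IsCharacteristicTwoType G → ¬ Concl G → Ctx G)
    {G : Type u} [Group G] [Finite G] [IsSimpleGroup G] (hG : ¬ IsMulCommutative G)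
    (hK : IsKProper G) (h2 : ¬ IsCharacteristicTwoType G) : Concl G := by
  by_contra hnc
  exact ctx_false hGW Kn N (hctx G hG hK h2 hnc)

end Cfsg.Agent.OddHalf.Main
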