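import Cfsg.Agent.OddHalf.Iface
import Cfsg.Agent.OddHalf.Known
import Cfsg.Agent.S0252
import Cfsg.Agent.S0253
import Cfsg.Agent.S0254
import Cfsg.Agent.S0255
import Cfsg.Agent.S0256
import Cfsg.Agent.S0822

/-!
# The exceptional isomorphisms in the form used by the nodes

* `quo_of_alt5`: `K = A_5` has `K / Z(K) = PSL(2,4)`;
* `lieOdd_of_l32`, `lieOdd_of_u42`: `PSL(3,2) = PSL(2,7)` and `PSU(4,2) = PSp(4,3)` are of Lie type in odd
  characteristic; `isAlternating_of_l42`, `isAlternating_of_l24`: `PSL(4,2) = A_8`, `PSL(2,4) = A_5`.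
-/

set_option autoImplicit false
set_option linter.style.haveILetI false

namespace Cfsg.Agent.OddHalf.Iso5

open Subgroup Cfsg Cfsg.Agent.OddHalf.Iface

universe u

/-- There is a field with `p ^ n` elements. -/
theorem exists_field (p n : ℕ) (hp : p.Prime) (hn : n ≠ 0) :
    ∃ (F : Type) (_ : Field F) (_ : Fintype F), CharP F p ∧ Fintype.card F = p ^ n := by
  haveI : Fact p.Prime := ⟨hp⟩
  let i : Fintype (GaloisField p n) := Fintype.ofFinite _
  refine ⟨GaloisField p n, inferInstance, i, inferInstance, ?_⟩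
  rw [← Nat.card_eq_fintype_card]
  exact GaloisField.card p n hn

theorem center_alternating (n : ℕ) (hn : 5 ≤ n) : center ↥(alternatingGroup (Fin n)) = ⊥ := by
  haveI : IsSimpleGroup ↥(alternatingGroup (Fin n)) := alternatingGroup.isSimpleGroup (by simpa using hn)
  rcases (inferInstance : (center ↥(alternatingGroup (Fin n))).Normal).eq_bot_or_eq_top with h | h
  · exact h
  · exfalso
    have h1 : ∀ a b : ↥(alternatingGroup (Fin n)), a * b = b * a := fun a b =>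
      (mem_center_iff.mp (h ▸ mem_top b : b ∈ center ↥(alternatingGroup (Fin n))) a)
    let c : Equiv.Perm (Fin n) := Equiv.swap ⟨0, by omega⟩ ⟨1, by omega⟩ * Equiv.swap ⟨1, by omega⟩ ⟨2, by omega⟩
    let d : Equiv.Perm (Fin n) := Equiv.swap ⟨1, by omega⟩ ⟨2, by omega⟩ * Equiv.swap ⟨2, by omega⟩ ⟨3, by omega⟩
    have hc : c ∈ alternatingGroup (Fin n) := by
      rw [Equiv.Perm.mem_alternatingGroup, map_mul, Equiv.Perm.sign_swap (by simp), Equiv.Perm.sign_swap (by simp)]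
      rfl
    have hd : d ∈ alternatingGroup (Fin n) := by
      rw [Equiv.Perm.mem_alternatingGroup, map_mul, Equiv.Perm.sign_swap (by simp), Equiv.Perm.sign_swap (by simp)]
      rfl
    have h2 := congrArg (fun x : ↥(alternatingGroup (Fin n)) => (x : Equiv.Perm (Fin n)) ⟨0, by omega⟩)
      (h1 ⟨c, hc⟩ ⟨d, hd⟩)
    simp [c, d, Equiv.swap_apply_def] at h2

/-- `A_5 = PSL(2,4)`, with trivial centre. -/
theorem quo_of_alt5 {K : Type u} [Group K] (e : K ≃* ↥(alternatingGroup (Fin 5))) :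
    ∃ (F : Type) (_ : Field F) (_ : Fintype F), Fintype.card F = 4 ∧
      Nonempty (K ⧸ center K ≃* Matrix.ProjectiveSpecialLinearGroup (Fin 2) F) := by
  obtain ⟨F, h1, h2, -, hF⟩ := exists_field 2 2 Nat.prime_two two_ne_zero
  obtain ⟨f⟩ := Cfsg.Agent.S0252.result (F := F) hF
  have hc : center K = ⊥ := by
    rw [eq_bot_iff]
    intro x hx
    have h3 : e x ∈ center ↥(alternatingGroup (Fin 5)) := by
      rw [mem_center_iff]
      intro g
      obtain ⟨k, rfl⟩ := e.surjective g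
      rw [← map_mul, ← map_mul, mem_center_iff.mp hx k]
    rw [center_alternating 5 le_rfl, mem_bot] at h3
    rw [mem_bot]
    exact (map_eq_one_iff e e.injective).mp h3
  exact ⟨F, h1, h2, hF, ⟨((QuotientGroup.quotientMulEquivOfEq hc).trans QuotientGroup.quotientBot).trans
    (e.trans f.symm)⟩⟩

theorem smallRank_of_alt5 {K : Type u} [Group K] (e : K ≃* ↥(alternatingGroup (Fin 5))) :
    SmallRank (K ⧸ center K) := by
  obtain ⟨F, h1, h2, hF, f⟩ := quo_of_alt5 e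
  exact Or.inl ⟨F, h1, h2, 2, le_rfl, hF, f⟩

section

variable {X : Type u} [Group X]

/-- `PSL(3,2) = PSL(2,7)`. -/
theorem lieOdd_of_l32 {F : Type} [Field F] [Fintype F] (hF : Fintype.card F = 2)
    (e : X ≃* Matrix.ProjectiveSpecialLinearGroup (Fin 3) F) : LieOdd X := by
  obtain ⟨E, h1, h2, h3, hE⟩ := exists_field 7 1 (by norm_num) one_ne_zero
  obtain ⟨f⟩ := Cfsg.Agent.S0255.result (F := E) (K := F) (by rw [hE]; norm_num) hF
  exact ⟨7, by norm_num, by norm_num, Or.inl ⟨E, h1, h2, h3, 2, le_rfl, fun _ => by rw [hE]; norm_num,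
    ⟨e.trans f.symm⟩⟩⟩

/-- `PSU(4,2) = PSp(4,3)`. -/
theorem lieOdd_of_u42 {F : Type} [Field F] [Fintype F] (hF : Fintype.card F = 4)
    (e : X ≃* PSU 4 F 2) : LieOdd X := by
  obtain ⟨E, h1, h2, h3, hE⟩ := exists_field 3 1 (by norm_num) one_ne_zero
  obtain ⟨f⟩ := Cfsg.Agent.S0822.result (F := F) (K := E) hF (by rw [hE]; norm_num)
  exact ⟨3, by norm_num, by norm_num, Or.inr (Or.inl ⟨E, h1, h2, h3, 2, le_rfl,
    fun _ => by rw [hE]; norm_num, ⟨e.trans f⟩⟩)⟩

/-- `PSL(4,2) = A_8`. -/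
theorem isAlternating_of_l42 {F : Type} [Field F] [Fintype F] (hF : Fintype.card F = 2)
    (e : X ≃* Matrix.ProjectiveSpecialLinearGroup (Fin 4) F) : IsAlternating X := by
  obtain ⟨f⟩ := Cfsg.Agent.S0256.result (F := F) hF
  exact ⟨8, by norm_num, ⟨e.trans f⟩⟩

/-- `PSL(2,4) = A_5`. -/
theorem isAlternating_of_l24 {F : Type} [Field F] [Fintype F] (hF : Fintype.card F = 4)
    (e : X ≃* Matrix.ProjectiveSpecialLinearGroup (Fin 2) F) : IsAlternating X := by
  obtain ⟨f⟩ := Cfsg.Agent.S0252.result (F := F) hF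
  exact ⟨5, by norm_num, ⟨e.trans f⟩⟩

/-- `PSL(2,5) = A_5`. -/
theorem isAlternating_of_l25 {F : Type} [Field F] [Fintype F] (hF : Fintype.card F = 5)
    (e : X ≃* Matrix.ProjectiveSpecialLinearGroup (Fin 2) F) : IsAlternating X := by
  obtain ⟨f⟩ := Cfsg.Agent.S0253.result (F := F) hF
  exact ⟨5, by norm_num, ⟨e.trans f⟩⟩

/-- `PSL(2,9) = A_6`. -/
theorem isAlternating_of_l29 {F : Type} [Field F] [Fintype F] (hF : Fintype.card F = 9)
    (e : X ≃* Matrix.ProjectiveSpecialLinearGroup (Fin 2) F) : IsAlternating X := by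
  obtain ⟨f⟩ := Cfsg.Agent.S0254.result (F := F) hF
  exact ⟨6, by norm_num, ⟨e.trans f⟩⟩

end

/-- The order of a finite field of characteristic 2. -/
theorem card_two_pow {F : Type} [Field F] [Fintype F] [CharP F 2] :
    ∃ a : ℕ, 1 ≤ a ∧ Fintype.card F = 2 ^ a := by
  obtain ⟨n, -, hn⟩ := FiniteField.card F 2
  exact ⟨n, n.pos, hn⟩

/-- `q ^ k = 2 ^ a` (`k ≠ 0`, `a ≠ 0`) gives `q = 2 ^ b`. -/
theorem eq_two_pow {q k a : ℕ} (hk : k ≠ 0) (ha : 1 ≤ a) (h : q ^ k = 2 ^ a) : ∃ b : ℕ, 1 ≤ b ∧ q = 2 ^ b := by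
  have h1 : q ∣ 2 ^ a := h ▸ dvd_pow_self q hk
  obtain ⟨b, -, hb⟩ := (Nat.dvd_prime_pow Nat.prime_two).mp h1
  refine ⟨b, ?_, hb⟩
  by_contra hb0
  have h2 : b = 0 := by omega
  rw [hb, h2, pow_zero, one_pow] at h
  have h3 : 2 ^ 1 ≤ 2 ^ a := Nat.pow_le_pow_right (by norm_num) ha
  omega

end Cfsg.Agent.OddHalf.Iso5
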