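import Mathlib

/-!
# Normal subgroups of `C(z)` in the hypotheses of S1309

`of_normal`: the last two hypotheses of S1309 (and the subnormality) hold for a subgroup `J` normal in `C(z)`.
-/

set_option autoImplicit false

namespace Cfsg.Agent.OddHalf.QuatN

open Subgroup

theorem of_normal {G : Type*} [Group G] {z : G} {J : Subgroup G} (hJ : J ≤ centralizer ({z} : Set G))
    (hN : centralizer ({z} : Set G) ≤ normalizer (J : Set G)) (P : Subgroup G → Prop) :
    (J.subgroupOf (centralizer ({z} : Set G))).IsSubnormal ∧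
      (∀ u ∈ centralizer ({z} : Set G), J.map (MulAut.conj u).toMonoidHom = J ∨
        P (J.map (MulAut.conj u).toMonoidHom)) ∧
      ∀ y ∈ J, ∀ g : G, IsPGroup 2 ↥(zpowers y) → 4 ≤ orderOf y →
        g * y * g⁻¹ ∈ centralizer ({z} : Set G) → g * y * g⁻¹ ∈ normalizer (J : Set G) := by
  have hn : (J.subgroupOf (centralizer ({z} : Set G))).Normal := normal_subgroupOf_of_le_normalizer hN
  refine ⟨hn.isSubnormal, fun u hu => Or.inl ?_, fun y _ g _ _ hg => hN hg⟩
  have h := hN hu
  ext x
  rw [Subgroup.mem_map]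
  constructor
  · rintro ⟨y, hy, rfl⟩
    exact (mem_normalizer_iff.mp h y).mp hy
  · intro hx
    refine ⟨u⁻¹ * x * u, ?_, ?_⟩
    · refine (mem_normalizer_iff.mp h _).mpr ?_
      have h5 : u * (u⁻¹ * x * u) * u⁻¹ = x := by group
      rwa [h5]
    · simp only [MulEquiv.toMonoidHom_eq_coe, MonoidHom.coe_coe, MulAut.conj_apply]
      group

end Cfsg.Agent.OddHalf.QuatN
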