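import Mathlib
import Cfsg.Prelude.Def_Classification2
import Cfsg.Prelude.Def_LieTypeChar
import Cfsg.Prelude.Def_ClassificationK
import Cfsg.Agent.OddHalf.Iface
import Cfsg.Agent.OddHalf.QuatN
import Cfsg.Agent.OddHalf.Cyc
import Cfsg.Agent.OddHalf.Small.Alt
import Cfsg.Agent.GH.AltOut
import Cfsg.Agent.GH.AssemblyK4
import Cfsg.Agent.TwoGenCore.IsoMEleven
import Cfsg.Agent.S0282

/-!
# The odd half (S1765), node D0

`ctx`: a counterexample to S1765 satisfies `Iface.Ctx`, given the listed theorems (`Listed0`) and the rows of groups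
of characteristic 2 type (`Rows0`). `exists_compOf`: some involution centralizer has a component (S1296).
-/

set_option autoImplicit false

namespace Cfsg.Agent.OddHalf.D0

open Subgroup Cfsg
open Cfsg.Agent.OddHalf.Iface

universe u v

/-! ### Isomorphism invariance -/

section congr

variable {G : Type u} {H : Type v} [Group G] [Group H]

theorem isLieTypeChar_congr (e : G ≃* H) {p : ℕ} (h : IsLieTypeChar p G) : IsLieTypeChar p H := by
  rcases h with ⟨F, i1, i2, i3, n, h1, h2, ⟨f⟩⟩ | ⟨F, i1, i2, i3, n, h1, h2, ⟨f⟩⟩ |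
    ⟨F, i1, i2, i3, n, q, h0, h1, h2, ⟨f⟩⟩ | ⟨F, i1, i2, i3, n, h1, h2, ⟨f⟩⟩ |
    ⟨F, i1, i2, i3, n, h1, ⟨f⟩⟩ | ⟨F, i1, i2, i3, n, a, b, h1, h2, ⟨f⟩⟩ |
    ⟨F, i1, i2, i3, h⟩ | ⟨F, i1, i2, i3, q, hq, h⟩ |
    ⟨hp, ⟨K, j1, j2, m, hm, hK, ⟨f⟩⟩⟩ | ⟨hp, ⟨K, j1, j2, m, hm, hK, ⟨f⟩⟩⟩ | ⟨hp, ⟨K, j1, j2, m, hm, hK, ⟨f⟩⟩⟩
  · exact Or.inl ⟨F, i1, i2, i3, n, h1, h2, ⟨e.symm.trans f⟩⟩
  · exact Or.inr (Or.inl ⟨F, i1, i2, i3, n, h1, h2, ⟨e.symm.trans f⟩⟩)
  · exact Or.inr (Or.inr (Or.inl ⟨F, i1, i2, i3, n, q, h0, h1, h2, ⟨e.symm.trans f⟩⟩))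
  · exact Or.inr (Or.inr (Or.inr (Or.inl ⟨F, i1, i2, i3, n, h1, h2, ⟨e.symm.trans f⟩⟩)))
  · exact Or.inr (Or.inr (Or.inr (Or.inr (Or.inl ⟨F, i1, i2, i3, n, h1, ⟨e.symm.trans f⟩⟩))))
  · exact Or.inr (Or.inr (Or.inr (Or.inr (Or.inr (Or.inl
      ⟨F, i1, i2, i3, n, a, b, h1, h2, ⟨e.symm.trans f⟩⟩)))))
  · refine Or.inr (Or.inr (Or.inr (Or.inr (Or.inr (Or.inr (Or.inl ⟨F, i1, i2, i3, ?_⟩))))))
    rcases h with ⟨h0, ⟨f⟩⟩ | ⟨⟨f⟩⟩ | ⟨⟨f⟩⟩ | ⟨⟨f⟩⟩ | ⟨⟨f⟩⟩
    · exact Or.inl ⟨h0, ⟨e.symm.trans f⟩⟩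
    · exact Or.inr (Or.inl ⟨e.symm.trans f⟩)
    · exact Or.inr (Or.inr (Or.inl ⟨e.symm.trans f⟩))
    · exact Or.inr (Or.inr (Or.inr (Or.inl ⟨e.symm.trans f⟩)))
    · exact Or.inr (Or.inr (Or.inr (Or.inr ⟨e.symm.trans f⟩)))
  · refine Or.inr (Or.inr (Or.inr (Or.inr (Or.inr (Or.inr (Or.inr (Or.inl ⟨F, i1, i2, i3, q, hq, ?_⟩)))))))
    rcases h with ⟨h0, ⟨f⟩⟩ | ⟨h0, ⟨f⟩⟩
    · exact Or.inl ⟨h0, ⟨e.symm.trans f⟩⟩
    · exact Or.inr ⟨h0, ⟨e.symm.trans f⟩⟩
  · exact Or.inr (Or.inr (Or.inr (Or.inr (Or.inr (Or.inr (Or.inr (Or.inr (Or.inl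
      ⟨hp, ⟨K, j1, j2, m, hm, hK, ⟨e.symm.trans f⟩⟩⟩))))))))
  · exact Or.inr (Or.inr (Or.inr (Or.inr (Or.inr (Or.inr (Or.inr (Or.inr (Or.inr (Or.inl
      ⟨hp, ⟨K, j1, j2, m, hm, hK, ⟨e.symm.trans f⟩⟩⟩)))))))))
  · exact Or.inr (Or.inr (Or.inr (Or.inr (Or.inr (Or.inr (Or.inr (Or.inr (Or.inr (Or.inr
      ⟨hp, ⟨K, j1, j2, m, hm, hK, ⟨e.symm.trans f⟩⟩⟩)))))))))

end congr

/-- For a simple group `G` the subgroup `F*(G)` is `G`. -/
noncomputable def starEquiv (G : Type u) [Group G] [IsSimpleGroup G] (hna : ¬ IsMulCommutative G) :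
    ↥(generalizedFittingSubgroup G) ≃* G :=
  (MulEquiv.subgroupCongr (GH.AltOut.fstar_eq_top hna)).trans Subgroup.topEquiv

theorem star_simple (G : Type u) [Group G] [IsSimpleGroup G] (hna : ¬ IsMulCommutative G) :
    IsSimpleGroup ↥(generalizedFittingSubgroup G) := by
  have := (starEquiv G hna).toEquiv.nontrivial
  exact IsSimpleGroup.isSimpleGroup_of_surjective (starEquiv G hna).symm.toMonoidHom
    (starEquiv G hna).symm.surjective

theorem star_na (G : Type u) [Group G] [IsSimpleGroup G] (hna : ¬ IsMulCommutative G) :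
    ¬ IsMulCommutative ↥(generalizedFittingSubgroup G) := by
  intro h
  refine hna ⟨⟨fun a b => ?_⟩⟩
  have h1 := h.is_comm.comm ((starEquiv G hna).symm a) ((starEquiv G hna).symm b)
  rw [← map_mul, ← map_mul] at h1
  exact (starEquiv G hna).symm.injective h1

/-! ### The hypotheses -/

/-- The rows "of characteristic 2 type" which are used together with the theorems that do not speak about standard
subgroups. -/
structure Rows0 : Prop extends Small.Excl.Rows where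
  m11 : IsCharacteristicTwoType ↥Spor.M11
  m22 : IsCharacteristicTwoType ↥Spor.M22
  m23 : IsCharacteristicTwoType ↥Spor.M23
  j3 : ∀ (F : Type) [Field F] [Fintype F] (ω : F), Fintype.card F = 4 → ω ^ 2 + ω + 1 = 0 →
    IsCharacteristicTwoType (Spor.J3 F ω)
  l34 : ∀ (F : Type) [Field F] [Fintype F], Fintype.card F = 4 →
    IsCharacteristicTwoType (Matrix.ProjectiveSpecialLinearGroup (Fin 3) F)
  u3 : ∀ (F : Type) [Field F] [Fintype F] (n : ℕ), 2 ≤ n → Fintype.card F = (2 ^ n) ^ 2 →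
    IsCharacteristicTwoType (PSU 3 F (2 ^ n))
  sz : ∀ (F : Type) [Field F] [Fintype F] (m : ℕ), 1 ≤ m → Fintype.card F = 2 ^ (2 * m + 1) →
    IsCharacteristicTwoType ↥(Lie.Sz F (2 ^ (m + 1)))
  sp6 : ∀ (F : Type) [Field F] [Fintype F], Fintype.card F = 2 → IsCharacteristicTwoType (PSp 3 F)
  o8 : ∀ (F : Type) [Field F] [Fintype F], Fintype.card F = 2 →
    IsCharacteristicTwoType (POmega F (quadFormPlus 4 F))

/-- The listed theorems which are used for `Ctx`. -/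
structure Known : Prop where
  /-- S1311 -/
  s1311 : ∀ (G : Type u) [Group G] [Finite G], IsSimpleGroup ↥(generalizedFittingSubgroup G) →
    ¬ IsMulCommutative ↥(generalizedFittingSubgroup G) → ∀ t : G, orderOf t = 2 →
    centralizerPPrimeCore 2 t ≠ ⊥ →
    (∃ p : ℕ, p.Prime ∧ p ≠ 2 ∧ IsLieTypeChar p ↥(generalizedFittingSubgroup G)) ∨
      (∃ n : ℕ, Odd n ∧ 7 ≤ n ∧ Nonempty (↥(generalizedFittingSubgroup G) ≃* ↥(alternatingGroup (Fin n)))) ∨
      (∃ (F : Type) (_ : Field F) (_ : Fintype F), Fintype.card F = 4 ∧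
        Nonempty (↥(generalizedFittingSubgroup G) ≃* Matrix.ProjectiveSpecialLinearGroup (Fin 3) F)) ∨
      Spor.IsoHe ↥(generalizedFittingSubgroup G)
  /-- S1310 -/
  s1310 : ∀ (G : Type u) [Group G] [Finite G], IsSimpleGroup ↥(generalizedFittingSubgroup G) →
    ¬ IsMulCommutative ↥(generalizedFittingSubgroup G) → ∀ z : G, orderOf z = 2 → ∀ J : Subgroup G,
    J ≤ centralizer ({z} : Set G) → z ∈ J → (J.subgroupOf (centralizer ({z} : Set G))).IsSubnormal →
    ((∃ (F : Type) (_ : Field F) (_ : Fintype F), Odd (Fintype.card F) ∧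
        Nonempty (↥J ⧸ oddCore ↥J ≃* Matrix.SpecialLinearGroup (Fin 2) F)) ∨
      IsNonsplitDoubleCover (↥J ⧸ oddCore ↥J) ↥(alternatingGroup (Fin 7))) →
    (∃ p : ℕ, p.Prime ∧ p ≠ 2 ∧ IsLieTypeChar p ↥(generalizedFittingSubgroup G)) ∨
      Spor.IsoM11 ↥(generalizedFittingSubgroup G)
  /-- S1726 -/
  s1726 : ∀ (X : Type u) [Group X] [Finite X], HasBProperty X
  /-- S0482 -/
  s0482 : ∀ (G : Type u) [Group G] [Finite G] [IsSimpleGroup G], ¬ IsMulCommutative G → PRankLE 2 2 G →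
    (∃ (F : Type) (_ : Field F) (_ : Fintype F), Odd (Fintype.card F) ∧ 5 ≤ Fintype.card F ∧
        Nonempty (G ≃* Matrix.ProjectiveSpecialLinearGroup (Fin 2) F)) ∨
      (∃ (F : Type) (_ : Field F) (_ : Fintype F), Odd (Fintype.card F) ∧
        Nonempty (G ≃* Matrix.ProjectiveSpecialLinearGroup (Fin 3) F)) ∨
      (∃ (F : Type) (_ : Field F) (_ : Fintype F) (q : ℕ), Fintype.card F = q ^ 2 ∧ Odd q ∧
        Nonempty (G ≃* PSU 3 F q)) ∨
      (∃ (F : Type) (_ : Field F) (_ : Fintype F), Fintype.card F = 16 ∧ Nonempty (G ≃* PSU 3 F 4)) ∨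
      Nonempty (G ≃* alternatingGroup (Fin 7)) ∨
      IsM11 G
  /-- S0500, at the level of isomorphism: the theorem behind it (`GH`) -/
  s0500 : ∀ (G : Type u) [Group G] [Finite G] [IsSimpleGroup G], ¬ IsMulCommutative G →
    SectionalPRankLE 2 4 G → PRankLE 2 2 G ∨ GH.Defs.K4 G
  /-- S1738 -/
  s1738 : ∀ (G : Type u) [Group G] [Finite G], GH.AltOut.St1738 G
  /-- S1728 -/
  s1728 : ∀ (G : Type u) [Group G] [Finite G] [IsSimpleGroup G], ¬ IsMulCommutative G →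
    HasProperTwoGeneratedCore G →
    (∃ (F : Type) (_ : Field F) (_ : Fintype F), 3 ≤ Fintype.card F ∧
        Nonempty (G ≃* Matrix.ProjectiveSpecialLinearGroup (Fin 2) F)) ∨
      Lie.IsoSuzuki G ∨
      (∃ (F : Type) (_ : Field F) (_ : Fintype F) (n : ℕ), 1 ≤ n ∧ Fintype.card F = (2 ^ n) ^ 2 ∧
        Nonempty (G ≃* PSU 3 F (2 ^ n))) ∨
      Spor.IsoM11 G ∨ Spor.IsoJ1 G

/-- S1309 (not used in `ctx`; see `normalQuat`) -/
def P1309 : Prop :=
  ∀ (G : Type u) [Group G] [Finite G], IsSimpleGroup ↥(generalizedFittingSubgroup G) →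
    ¬ IsMulCommutative ↥(generalizedFittingSubgroup G) → ∀ z : G, orderOf z = 2 → ∀ J : Subgroup G,
    J ≤ centralizer ({z} : Set G) → z ∈ J → (J.subgroupOf (centralizer ({z} : Set G))).IsSubnormal →
    (∃ S : Sylow 2 ↥J, ∃ n : ℕ, Nonempty (↥(S : Subgroup ↥J) ≃* QuaternionGroup (2 ^ (n + 1)))) →
    (∀ t ∈ J, orderOf t = 2 → t = z) →
    (∀ u ∈ centralizer ({z} : Set G), J.map (MulAut.conj u).toMonoidHom = J ∨
      ⁅J, J.map (MulAut.conj u).toMonoidHom⁆ ≤ (oddCore ↥J).map J.subtype ⊓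
        (oddCore ↥(J.map (MulAut.conj u).toMonoidHom)).map (J.map (MulAut.conj u).toMonoidHom).subtype) →
    (∀ y ∈ J, ∀ g : G, IsPGroup 2 ↥(zpowers y) → 4 ≤ orderOf y →
      g * y * g⁻¹ ∈ centralizer ({z} : Set G) → g * y * g⁻¹ ∈ normalizer (J : Set G)) →
    (∃ p : ℕ, p.Prime ∧ p ≠ 2 ∧ IsLieTypeChar p ↥(generalizedFittingSubgroup G)) ∨
      Spor.IsoM11 ↥(generalizedFittingSubgroup G) ∨ Spor.IsoM12 ↥(generalizedFittingSubgroup G) ∨
      (∃ (F : Type) (_ : Field F) (_ : Fintype F), Fintype.card F = 2 ∧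
        (Nonempty (↥(generalizedFittingSubgroup G) ≃* PSp 3 F) ∨
          Nonempty (↥(generalizedFittingSubgroup G) ≃* POmega F (quadFormPlus 4 F))))

/-! ### Groups of Lie type in odd characteristic -/

theorem exists_charP_odd (F : Type) [Field F] [Fintype F] (h : Odd (Fintype.card F)) :
    ∃ p : ℕ, p.Prime ∧ p ≠ 2 ∧ CharP F p := by
  obtain ⟨p, hp⟩ := CharP.exists F
  have hp' := hp
  obtain ⟨n, hn, hc⟩ := FiniteField.card F p
  refine ⟨p, hn, ?_, hp⟩
  rintro rfl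
  rw [hc] at h
  have h1 : Even (2 ^ (n : ℕ)) := (Nat.even_pow.2 ⟨even_two, n.ne_zero⟩)
  exact (Nat.not_even_iff_odd.2 h) h1

section lieOdd

variable {G : Type u} [Group G]

theorem lieOdd_psl {F : Type} [Field F] [Fintype F] (h : Odd (Fintype.card F)) {n : ℕ} (hn : 2 ≤ n)
    (h4 : n = 2 → 4 ≤ Fintype.card F) (e : G ≃* Matrix.ProjectiveSpecialLinearGroup (Fin n) F) :
    LieOdd G := by
  obtain ⟨p, hp, hp2, hc⟩ := exists_charP_odd F h
  exact ⟨p, hp, hp2, Or.inl ⟨F, _, _, hc, n, hn, h4, ⟨e⟩⟩⟩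

theorem lieOdd_psp {F : Type} [Field F] [Fintype F] (h : Odd (Fintype.card F)) (e : G ≃* PSp 2 F) :
    LieOdd G := by
  obtain ⟨p, hp, hp2, hc⟩ := exists_charP_odd F h
  have h1 : 1 < Fintype.card F := Fintype.one_lt_card
  have h3 : 3 ≤ Fintype.card F := by
    obtain ⟨k, hk⟩ := h
    omega
  exact ⟨p, hp, hp2, Or.inr (Or.inl ⟨F, _, _, hc, 2, le_rfl, fun _ => h3, ⟨e⟩⟩)⟩

theorem lieOdd_psu {F : Type} [Field F] [Fintype F] {n q : ℕ} (hF : Fintype.card F = q ^ 2) (h : Odd q)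
    (hn : 3 ≤ n) (e : G ≃* PSU n F q) : LieOdd G := by
  obtain ⟨p, hp, hp2, hc⟩ := exists_charP_odd F (by rw [hF]; exact h.pow)
  have h1 : ¬ (n = 3 ∧ q = 2) := by
    rintro ⟨-, rfl⟩
    exact (Nat.not_even_iff_odd.2 h) even_two
  exact ⟨p, hp, hp2, Or.inr (Or.inr (Or.inl ⟨F, _, _, hc, n, q, hF, hn, h1, ⟨e⟩⟩))⟩

theorem lieOdd_g2 {F : Type} [Field F] [Fintype F] (h : Odd (Fintype.card F))
    (e : G ≃* ↥(Lie.chevG2.group F)) : LieOdd G := by
  obtain ⟨p, hp, hp2, hc⟩ := exists_charP_odd F h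
  have h1 : 1 < Fintype.card F := Fintype.one_lt_card
  have h3 : 3 ≤ Fintype.card F := by
    obtain ⟨k, hk⟩ := h
    omega
  exact ⟨p, hp, hp2, Or.inr (Or.inr (Or.inr (Or.inr (Or.inr (Or.inr (Or.inl
    ⟨F, _, _, hc, Or.inl ⟨h3, ⟨e⟩⟩⟩))))))⟩

theorem lieOdd_d4 {K : Type} [Field K] [Fintype K] {q : ℕ} (hq : Odd q) (hK : Fintype.card K = q ^ 3)
    (e : G ≃* ↥(Lie.twistedD4 K q)) : LieOdd G := by
  obtain ⟨p, hp, hp2, hc⟩ := exists_charP_odd K (by rw [hK]; exact hq.pow)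
  have hpp : IsPrimePow q := by
    have h1 : IsPrimePow (q ^ 3) := hK ▸ FiniteField.isPrimePow_card K
    exact (isPrimePow_pow_iff (by norm_num)).1 h1
  exact ⟨p, hp, hp2, Or.inr (Or.inr (Or.inr (Or.inr (Or.inr (Or.inr (Or.inr (Or.inl
    ⟨K, _, _, hc, q, hpp, Or.inr ⟨hK, ⟨e⟩⟩⟩)))))))⟩

theorem lieOdd_ree (h : Lie.IsoRee G) : LieOdd G :=
  ⟨3, Nat.prime_three, by norm_num, Or.inr (Or.inr (Or.inr (Or.inr (Or.inr (Or.inr (Or.inr (Or.inr
    (Or.inr (Or.inr ⟨rfl, h⟩)))))))))⟩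

theorem lieOdd_congr {X : Type u} {Y : Type v} [Group X] [Group Y] (e : X ≃* Y)
    (h : ∃ p : ℕ, p.Prime ∧ p ≠ 2 ∧ IsLieTypeChar p X) : ∃ p : ℕ, p.Prime ∧ p ≠ 2 ∧ IsLieTypeChar p Y := by
  obtain ⟨p, hp, hp2, h⟩ := h
  exact ⟨p, hp, hp2, isLieTypeChar_congr e h⟩

end lieOdd

/-! ### Good outcomes -/

/-- A group which is in the conclusion of S1765 or of characteristic 2 type. -/
def Good (G : Type u) [Group G] : Prop := Concl G ∨ IsCharacteristicTwoType G

section good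

variable {G : Type u} [Group G]

theorem good_lie [Finite G] (R : Small.Excl.Rows) (h : LieOdd G) : Good G := by
  by_cases h2 : IsCharacteristicTwoType G
  · exact Or.inr h2
  · exact Or.inl (Small.Excl.concl_of_lie R h2 h)

theorem good_two {H : Type v} [Group H] (e : G ≃* H) (h : IsCharacteristicTwoType H) : Good G :=
  Or.inr (Small.Generic.isCharacteristicTwoType_congr e.symm h)

theorem good_alt {n : ℕ} (hn : 5 ≤ n) (e : Nonempty (G ≃* ↥(alternatingGroup (Fin n)))) : Good G := by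
  by_cases h : n = 5 ∨ n = 6 ∨ n = 8
  · exact Or.inr (Small.Alt.result h e)
  · exact Or.inl (Or.inr (Or.inl ⟨n, by omega, e⟩))

theorem good_psl2 [Finite G] (R : Small.Excl.Rows) {F : Type} [Field F] [Fintype F]
    (h3 : 3 ≤ Fintype.card F) (e : G ≃* Matrix.ProjectiveSpecialLinearGroup (Fin 2) F) : Good G := by
  rcases Nat.even_or_odd (Fintype.card F) with h | h
  · exact Or.inr (Small.L2.psl2_even h e)
  · rcases Nat.lt_or_ge 3 (Fintype.card F) with h4 | h4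
    · exact good_lie R (lieOdd_psl h le_rfl (fun _ => h4) e)
    · have h5 : Fintype.card F = 3 := le_antisymm h4 h3
      exact Or.inr (Small.L2.psl2 (Or.inl ⟨by rw [h5]; exact Nat.prime_three,
        Or.inl ⟨2, by rw [h5]; norm_num⟩⟩) e)

theorem good_m11 (R : Rows0) (h : Spor.IsoM11 G) : Good G := by
  obtain ⟨e⟩ := h
  exact good_two e R.m11

theorem good_l34 (R : Rows0) (h : ∃ (F : Type) (_ : Field F) (_ : Fintype F), Fintype.card F = 4 ∧
    Nonempty (G ≃* Matrix.ProjectiveSpecialLinearGroup (Fin 3) F)) : Good G := by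
  obtain ⟨F, _, _, hF, ⟨e⟩⟩ := h
  exact good_two e (R.l34 F hF)

theorem good_u34 (R : Rows0) (h : ∃ (F : Type) (_ : Field F) (_ : Fintype F), Fintype.card F = 16 ∧
    Nonempty (G ≃* PSU 3 F 4)) : Good G := by
  obtain ⟨F, _, _, hF, ⟨e⟩⟩ := h
  exact good_two e (R.u3 F 2 le_rfl (by rw [hF]; norm_num))

theorem good_u3 [Finite G] [IsSimpleGroup G] (hna : ¬ IsMulCommutative G) (R : Rows0)
    (h : ∃ (F : Type) (_ : Field F) (_ : Fintype F) (n : ℕ), 1 ≤ n ∧ Fintype.card F = (2 ^ n) ^ 2 ∧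
      Nonempty (G ≃* PSU 3 F (2 ^ n))) : Good G := by
  obtain ⟨F, _, _, n, hn, hF, ⟨e⟩⟩ := h
  rcases Nat.lt_or_ge 1 n with h | h
  · exact good_two e (R.u3 F n h hF)
  · obtain rfl : n = 1 := by omega
    exfalso
    have h1 : Group.IsSolvable (PSU 3 F 2) := (S0282.result (by rw [hF]; norm_num)).2
    have h2 : Group.IsSolvable G := Group.isSolvable_of_isSolvable_injective (f := e.toMonoidHom) e.injective
    exact hna ⟨⟨IsSimpleGroup.comm_iff_isSolvable.2 h2⟩⟩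

theorem good_sz (R : Rows0) (h : Lie.IsoSuzuki G) : Good G := by
  obtain ⟨F, _, _, m, hm, hF, ⟨e⟩⟩ := h
  exact good_two e (R.sz F m hm hF)

theorem good_j1 (h : Spor.IsoJ1 G) : Good G := by
  refine Or.inl ?_
  iterate 3 right
  exact Or.inl h

theorem good_m12 (h : Spor.IsoM12 G) : Good G := by
  refine Or.inl ?_
  iterate 2 right
  exact Or.inl h

theorem good_j2 (h : Spor.IsoJ2 G) : Good G := by
  refine Or.inl ?_
  iterate 4 right
  exact Or.inl h

theorem good_mcl (h : Spor.IsoMcL G) : Good G := by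
  refine Or.inl ?_
  iterate 5 right
  exact Or.inl h

theorem good_ly (h : Spor.IsoLy G) : Good G := by
  refine Or.inl ?_
  iterate 6 right
  exact Or.inl h

theorem good_he (h : Spor.IsoHe G) : Good G := by
  refine Or.inl ?_
  iterate 8 right
  exact Or.inl h

theorem good_k2 [Finite G] (R : Rows0) (h : GH.Defs.K2 G) : Good G := by
  rcases h with ⟨F, _, _, h1, h2, ⟨e⟩⟩ | ⟨F, _, _, h1, ⟨e⟩⟩ | ⟨F, _, _, q, h1, h2, ⟨e⟩⟩ | h | h | h
  · exact good_psl2 R.toRows (by omega) e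
  · exact good_lie R.toRows (lieOdd_psl h1 (by norm_num) (by norm_num) e)
  · exact good_lie R.toRows (lieOdd_psu h1 h2 le_rfl e)
  · exact good_u34 R h
  · exact good_alt (by norm_num) h
  · exact good_m11 R h

theorem good_k3 [Finite G] (R : Rows0) (h : GH.Defs.K3 G) : Good G := by
  rcases h with ⟨F, _, _, h1, ⟨e⟩⟩ | ⟨F, _, _, h1, ⟨e⟩⟩ | h | h
  · exact good_psl2 R.toRows (by omega) e
  · exact good_two e (R.sz F 1 le_rfl (by rw [h1]; norm_num))
  · exact good_lie R.toRows (lieOdd_ree h)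
  · exact good_j1 h

theorem good_k4 [Finite G] [IsSimpleGroup G] (hna : ¬ IsMulCommutative G) (R : Rows0)
    (hO : oddCore G = ⊥) (hs : GH.AltOut.St1738 G) (h : GH.Defs.K4 G) : Good G := by
  rcases h with h | h | ⟨F, _, _, h1, ⟨e⟩⟩ | h | ⟨n, h1, h2, h⟩ | ⟨F, _, _, h1, ⟨e⟩⟩ |
    ⟨F, _, _, h1, h2, ⟨e⟩⟩ | ⟨F, _, _, q, h1, h2, h3, ⟨e⟩⟩ | ⟨F, _, _, h1, ⟨e⟩⟩ |
    ⟨F, _, _, q, h1, h2, ⟨e⟩⟩ | ⟨⟨F, _, _, h1, ⟨e⟩⟩, -⟩ | ⟨⟨K, _, _, q, h1, h2, ⟨e⟩⟩, -⟩ |
    h | ⟨⟨e⟩⟩ | ⟨⟨e⟩⟩ | h | ⟨F, _, _, w, h1, h2, ⟨e⟩⟩ | h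
  · exact good_k2 R h
  · exact good_k3 R h
  · exact good_psl2 R.toRows (by omega) e
  · exact good_l34 R h
  · exact good_alt (by omega) h
  · exact good_lie R.toRows (lieOdd_psp h1 e)
  · exact good_lie R.toRows (lieOdd_psl h1 (by norm_num) (by norm_num) e)
  · exact good_lie R.toRows (lieOdd_psu h1 h2 (by norm_num) e)
  · exact good_lie R.toRows (lieOdd_psl (Nat.odd_iff.2 (by omega)) (by norm_num) (by norm_num) e)
  · exact good_lie R.toRows (lieOdd_psu h1 (Nat.odd_iff.2 (by omega)) (by norm_num) e)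
  · exact good_lie R.toRows (lieOdd_g2 h1 e)
  · exact good_lie R.toRows (lieOdd_d4 h1 h2 e)
  · exact good_m12 h
  · exact good_two e R.m22
  · exact good_two e R.m23
  · exact good_j2 h
  · exact good_two e (R.j3 F w h1 h2)
  · rcases GH.AltOut.mcl_or_ly hna hO hs h with h | h
    · exact good_mcl h
    · exact good_ly h

end good

/-! ### The context -/

/-- A group of 2-rank at least 1 has even order. -/
theorem even_of_rank {G : Type u} [Group G] [Finite G] {k : ℕ} (h : ¬ PRankLE 2 k G) :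
    Even (Nat.card G) := by
  unfold PRankLE at h
  push Not at h
  obtain ⟨A, -, h2, h3⟩ := h
  have hp : IsPGroup 2 A := fun a => ⟨1, by
    rw [pow_one]
    exact Subtype.ext (h2 a a.2)⟩
  obtain ⟨n, hn⟩ := (IsPGroup.iff_card (p := 2)).1 hp
  have h4 : 2 ∣ Nat.card A := by
    rcases Nat.eq_zero_or_pos n with rfl | h0
    · rw [pow_zero] at hn
      have := Nat.one_le_two_pow (n := k)
      omega
    · rw [hn]
      exact dvd_pow_self 2 (by omega)
  exact even_iff_two_dvd.2 (h4.trans (Subgroup.card_subgroup_dvd_card A))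

theorem oddCore_eq_bot {G : Type u} [Group G] [Finite G] [IsSimpleGroup G] (h : Even (Nat.card G)) :
    oddCore G = ⊥ := by
  rcases (inferInstance : (oddCore G).Normal).eq_bot_or_eq_top with h1 | h1
  · exact h1
  · exfalso
    have h2 := (Lib.Cores.pPrimeCore_eq_top_iff 2).1 h1
    rw [Nat.coprime_two_right] at h2
    exact (Nat.not_even_iff_odd.2 h2) h

/-- **The context**: a counterexample to S1765 satisfies `Ctx`. -/
theorem ctx (R : Rows0) (W : Known.{u}) {G : Type u} [Group G] [Finite G] [IsSimpleGroup G]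
    (hna : ¬ IsMulCommutative G) (hK : IsKProper G) (h2 : ¬ IsCharacteristicTwoType G)
    (nc : ¬ Concl G) : Ctx G := by
  have hg : ¬ Good G := fun h => h.elim nc h2
  have e := starEquiv G hna
  have hs := star_simple G hna
  have hn := star_na G hna
  have hr : ¬ PRankLE 2 2 G := by
    intro h
    rcases W.s0482 G hna h with ⟨F, _, _, h1, h2, ⟨f⟩⟩ | ⟨F, _, _, h1, ⟨f⟩⟩ | ⟨F, _, _, q, h1, h2, ⟨f⟩⟩ |
      h | h | h
    · exact hg (good_psl2 R.toRows (by omega) f)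
    · exact hg (good_lie R.toRows (lieOdd_psl h1 (by norm_num) (by norm_num) f))
    · exact hg (good_lie R.toRows (lieOdd_psu h1 h2 le_rfl f))
    · exact hg (good_u34 R h)
    · exact hg (good_alt (by norm_num) h)
    · exact hg (good_m11 R (TwoGenCore.IsoMEleven.isoM11 h))
  have hev := even_of_rank hr
  refine
    { fin := inferInstance
      simple := inferInstance
      na := hna
      kproper := hK
      notTwo := h2
      nc := nc
      bal := ?_
      bprop := W.s1726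
      strong := ?_
      rank3 := hr
      sect5 := ?_
      core2 := ?_
      classical := ?_ }
  · intro t ht
    by_contra hcon
    rcases W.s1311 G hs hn t ht hcon with h | ⟨n, -, h1, ⟨f⟩⟩ | ⟨F, _, _, hF, ⟨f⟩⟩ | ⟨⟨f⟩⟩
    · exact hg (good_lie R.toRows (lieOdd_congr e h))
    · exact hg (good_alt (by omega) ⟨e.symm.trans f⟩)
    · exact hg (good_l34 R ⟨F, _, _, hF, ⟨e.symm.trans f⟩⟩)
    · exact hg (good_he ⟨e.symm.trans f⟩)
  · intro H N _
    exact W.s1726 (H ⧸ N)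
  · intro h
    rcases W.s0500 G hna h with h | h
    · exact hr h
    · exact hg (good_k4 hna R (oddCore_eq_bot hev) (W.s1738 G) h)
  · intro h
    rcases W.s1728 G hna h with ⟨F, _, _, h1, ⟨f⟩⟩ | h | h | h | h
    · exact hg (good_psl2 R.toRows h1 f)
    · exact hg (good_sz R h)
    · exact hg (good_u3 hna R h)
    · exact hg (good_m11 R h)
    · exact hg (good_j1 h)
  · intro z J hz hJ h
    rcases W.s1310 G hs hn z hz J hJ.1 hJ.2.1 hJ.2.2 h with h | ⟨⟨f⟩⟩
    · exact hg (good_lie R.toRows (lieOdd_congr e h))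
    · exact hg (good_m11 R ⟨e.symm.trans f⟩)

/-- **S1309 gives `NormalQuat`** (hence `NodeQ`, by `Cyc.nodeQ_of`) -/
theorem normalQuat (R : Rows0) (W : P1309.{u}) {G : Type u} [Group G] (C : Ctx G) : Cyc.NormalQuat G := by
  haveI := C.fin
  haveI := C.simple
  have hg : ¬ Good G := fun h => h.elim C.nc C.notTwo
  have e := starEquiv G C.na
  intro z J hz hJ hzJ hN h3 h4
  obtain ⟨h7, h5, h6⟩ := QuatN.of_normal hJ hN (fun L => ⁅J, L⁆ ≤ (oddCore ↥J).map J.subtype ⊓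
    (oddCore ↥L).map L.subtype)
  rcases W G (star_simple G C.na) (star_na G C.na) z hz J hJ hzJ h7 h3 h4 h5 h6 with
    h | ⟨⟨f⟩⟩ | ⟨⟨f⟩⟩ | ⟨F, _, _, hF, ⟨⟨f⟩⟩ | ⟨⟨f⟩⟩⟩
  · exact hg (good_lie R.toRows (lieOdd_congr e h))
  · exact hg (good_m11 R ⟨e.symm.trans f⟩)
  · exact hg (good_m12 ⟨e.symm.trans f⟩)
  · exact hg (good_two (e.symm.trans f) (R.sp6 F hF))
  · exact hg (good_two (e.symm.trans f) (R.o8 F hF))

/-! ### Consequences of the context -/

section consequences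

variable {G : Type u} [Group G]

theorem centralizer_ne_top (C : Ctx G) {t : G} (ht : orderOf t = 2) : centralizer ({t} : Set G) ≠ ⊤ := by
  have := C.fin
  have := C.simple
  intro h
  have h1 : t ∈ center G := by
    rw [mem_center_iff]
    intro g
    have h2 : g ∈ centralizer ({t} : Set G) := h ▸ mem_top g
    exact (mem_centralizer_singleton_iff.1 h2)
  rw [GH.AltOut.center_eq_bot C.na, mem_bot] at h1
  rw [h1, orderOf_one] at ht
  norm_num at ht

theorem oddCore_centralizer (C : Ctx G) {t : G} (ht : orderOf t = 2) :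
    oddCore ↥(centralizer ({t} : Set G)) = ⊥ := by
  have h := C.bal t ht
  unfold centralizerPPrimeCore at h
  exact (map_eq_bot_iff_of_injective _ (subtype_injective _)).1 h

/-- An involution exists whose centralizer has a component (S1296). -/
theorem exists_compOf (h1296 : ∀ (G : Type u) [Group G] [Finite G], Even (Nat.card G) →
    (∀ N : Subgroup G, N.Normal → N.index ≠ 2) → oddCore G = ⊥ →
    PRankLE 2 2 G ∨ IsComponentType G ∨ IsCharacteristicTwoType G) (C : Ctx G) :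
    ∃ (t : G) (L : Subgroup G), orderOf t = 2 ∧ CompOf t L := by
  have := C.fin
  have := C.simple
  have hev := even_of_rank C.rank3
  have hidx : ∀ N : Subgroup G, N.Normal → N.index ≠ 2 := by
    intro N hN h
    rcases hN.eq_bot_or_eq_top with rfl | rfl
    · rw [index_bot] at h
      have : Fact (Nat.Prime 2) := ⟨Nat.prime_two⟩
      have : IsCyclic G := isCyclic_of_prime_card h
      exact C.na IsCyclic.isMulCommutative
    · rw [index_top] at h
      norm_num at h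
  rcases h1296 G hev hidx (oddCore_eq_bot hev) with h | ⟨t, ht, K, hK1, hK2⟩ | h
  · exact absurd h C.rank3
  · have hO := oddCore_centralizer C ht
    have e : ↥(centralizer ({t} : Set G)) ⧸ oddCore ↥(centralizer ({t} : Set G)) ≃*
        ↥(centralizer ({t} : Set G)) :=
      (QuotientGroup.quotientMulEquivOfEq hO).trans QuotientGroup.quotientBot
    have hc : IsComponent (K.map e.toMonoidHom) :=
      ⟨hK1.map e.surjective, SignalizersComponents.PCompQuot.quasisimple_congr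
        (K.equivMapOfInjective _ e.injective) hK2⟩
    refine ⟨t, (K.map e.toMonoidHom).map (centralizer ({t} : Set G)).subtype, ht, map_subtype_le _, ?_⟩
    have h3 : ((K.map e.toMonoidHom).map (centralizer ({t} : Set G)).subtype).subgroupOf
        (centralizer ({t} : Set G)) = K.map e.toMonoidHom :=
      comap_map_eq_self_of_injective (subtype_injective _) _
    rw [h3]
    exact hc
  · exact absurd h C.notTwo

/-- A component is quasisimple. -/
theorem quasisimple_of_compOf {t : G} {L : Subgroup G} (h : CompOf t L) : IsQuasisimple ↥L :=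
  SignalizersComponents.PCompQuot.quasisimple_congr (subgroupOfEquivOfLe h.1) h.2.2

end consequences

end Cfsg.Agent.OddHalf.D0
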