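import Cfsg.Agent.OddHalf.Main
import Cfsg.Agent.OddHalf.D0
import Cfsg.Agent.OddHalf.Small.RowsFull

/-!
# S1765: the assembly

`Inputs` collects everything that is not yet a theorem of this library; `s1765` is the statement S1765.
-/

set_option autoImplicit false

namespace Cfsg.Agent.OddHalf.Assembly

open Subgroup Cfsg Cfsg.Agent.OddHalf.Iface

universe u

/-- The inputs of the assembly: listed statements and nodes. -/
structure Inputs : Prop where
  /-- S0483 -/
  gw : SylowSp4.Hyps.GW.{u}
  /-- S0482, S0500, S1310, S1311, S1726, S1728, S1738 -/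
  ctx : D0.Known.{u}
  /-- S1732 - S1737, S1739, S1747 - S1752 -/
  forms : ListedOut.Forms.{u}
  /-- S1771 - S1773, S1778 -/
  smalls : ListedOut.Smalls.{u}
  p1738 : Stmts.P1738.{u}
  p1766 : Stmts.P1766.{u}
  nodes : Main.Nodes.{u}

theorem s1765 (H : Inputs.{u}) {G : Type u} [Group G] [Finite G] [IsSimpleGroup G]
    (hG : ¬ IsMulCommutative G) (hK : IsKProper G) (h2 : ¬ IsCharacteristicTwoType G) : Concl G :=
  Main.s1765_of_nodes H.gw ⟨Small.RowsAll.rows, H.forms, H.smalls, H.p1738, H.p1766⟩ H.nodes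
    (fun G _ _ _ hG hK h2 hnc => D0.ctx Small.RowsFull.rows0 H.ctx hG hK h2 hnc) hG hK h2

end Cfsg.Agent.OddHalf.Assembly
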