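import Mathlib.GroupTheory.Transfer
import Mathlib.GroupTheory.PGroup
import Mathlib.GroupTheory.Sylow

/-!
# The T-formula for a cyclic group normalised by a 2-group (helper868)

`v ∈ G`, `T` a 2-subgroup of `G` normalising (not necessarily centralising) `⟨v⟩`, `φ : H →* A` with
`A` abelian of exponent 2.  The transfer of `φ` at `v` is the product over the `⟨v⟩`-orbits on `G / H`
which are fixed by `T` (as sets) of `φ (g⁻¹ v^l g)`, `l` the length of the orbit of `gH`.

* `mk v H g` is the `⟨v⟩`-orbit of `gH`; `per v H g` its length;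
* `transfer_eq_prod`: the formula.
-/

set_option autoImplicit false

namespace Cfsg.Agent.OddHalf.CycFormula

open MulAction Subgroup Function

section generic

/-- a product of values of exponent 2 is the product over the fixed points of a 2-group preserving the
values -/
theorem prod_eq_prod_fixed {P Y A : Type*} [Group P] [MulAction P Y] [Fintype Y] [DecidableEq Y]
    [CommGroup A] (hA : ∀ a : A, a * a = 1) (hP : IsPGroup 2 P) (f : Y → A)
    (hf : ∀ (x : P) (q : Y), f (x • q) = f q) (s : Finset Y)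
    (hs : ∀ q, q ∈ s ↔ ∀ x : P, x • q = q) : ∏ q, f q = ∏ q ∈ s, f q := by
  classical
  have hsub : ∀ q ∈ s, f q ∈ (Finset.univ : Finset Y).image f := fun q _ =>
    Finset.mem_image_of_mem _ (Finset.mem_univ q)
  rw [← Finset.prod_fiberwise_of_maps_to (s := Finset.univ) (t := Finset.univ.image f) (g := f)
    (fun q hq => Finset.mem_image_of_mem f hq) f,
    ← Finset.prod_fiberwise_of_maps_to (s := s) (t := Finset.univ.image f) (g := f) hsub f]
  apply Finset.prod_congr rfl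
  intro a _
  rw [Finset.prod_congr rfl (fun q hq => (Finset.mem_filter.1 hq).2),
    Finset.prod_congr (s₁ := s.filter (fun q => f q = a)) rfl
      (fun q hq => (Finset.mem_filter.1 hq).2),
    Finset.prod_const, Finset.prod_const]
  let Z := {q : Y // f q = a}
  let _ : MulAction P Z :=
    { smul := fun x q => ⟨x • q.1, by rw [hf]; exact q.2⟩
      one_smul := fun q => Subtype.ext (one_smul P q.1)
      mul_smul := fun x y q => Subtype.ext (mul_smul x y q.1) }
  have hcard := hP.card_modEq_card_fixedPoints Z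
  have h1 : Nat.card Z = (Finset.univ.filter (fun q => f q = a)).card := by
    rw [Nat.subtype_card]
    intro q
    simp
  have h2 : Nat.card (fixedPoints P Z) = (s.filter (fun q => f q = a)).card := by
    have e : fixedPoints P Z ≃ {q : Y // (∀ x : P, x • q = q) ∧ f q = a} :=
      { toFun := fun q => ⟨q.1.1, fun x => congrArg Subtype.val (q.2 x), q.1.2⟩
        invFun := fun q => ⟨⟨q.1, q.2.2⟩, fun x => Subtype.ext (q.2.1 x)⟩
        left_inv := fun q => rfl
        right_inv := fun q => rfl }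
    rw [Nat.card_congr e, Nat.subtype_card]
    intro q
    rw [Finset.mem_filter, hs]
  rw [← h1, ← h2]
  have ha2 : a ^ 2 = 1 := by rw [pow_two, hA]
  rw [← Nat.div_add_mod (Nat.card Z) 2, ← Nat.div_add_mod (Nat.card (fixedPoints P Z)) 2, pow_add,
    pow_add, pow_mul, pow_mul, ha2, one_pow, one_pow, hcard]

end generic

variable {G : Type*} [Group G] {v : G} {H : Subgroup G}

/-- the `⟨v⟩`-orbits on `G / H` -/
abbrev Orb (v : G) (H : Subgroup G) := Quotient (orbitRel (zpowers v) (G ⧸ H))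

/-- the orbit of `gH` -/
def mk (v : G) (H : Subgroup G) (g : G) : Orb v H := Quotient.mk'' (g : G ⧸ H)

/-- its length -/
noncomputable def per (v : G) (H : Subgroup G) (g : G) : ℕ := minimalPeriod (v • ·) (g : G ⧸ H)

theorem smul_coe_eq_iff (x g h : G) : x • (g : G ⧸ H) = (h : G ⧸ H) ↔ h⁻¹ * x * g ∈ H := by
  rw [MulAction.Quotient.smul_mk, smul_eq_mul, eq_comm, QuotientGroup.eq, mul_assoc]

theorem mk_eq_iff (g h : G) : mk v H g = mk v H h ↔ ∃ i : ℤ, h⁻¹ * v ^ i * g ∈ H := by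
  constructor
  · intro e
    have h1 : (orbitRel (zpowers v) (G ⧸ H)).r (h : G ⧸ H) (g : G ⧸ H) := Quotient.exact e.symm
    obtain ⟨⟨_, i, rfl⟩, hy⟩ := h1
    exact ⟨i, (smul_coe_eq_iff (v ^ i) g h).1 hy⟩
  · rintro ⟨i, hi⟩
    symm
    apply Quotient.sound
    exact ⟨⟨v ^ i, i, rfl⟩, (smul_coe_eq_iff (v ^ i) g h).2 hi⟩

theorem mk_surjective : Surjective (mk v H) := by
  intro q
  induction q using Quotient.inductionOn' with
  | h x =>
    obtain ⟨g, rfl⟩ := QuotientGroup.mk_surjective x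
    exact ⟨g, rfl⟩

theorem pow_mem_iff (g : G) (n : ℕ) : g⁻¹ * v ^ n * g ∈ H ↔ per v H g ∣ n := by
  rw [← smul_coe_eq_iff, per, pow_smul_eq_iff_minimalPeriod_dvd]

theorem per_mem (g : G) : g⁻¹ * v ^ per v H g * g ∈ H := (pow_mem_iff g _).2 dvd_rfl

theorem cpow (g x : G) (n : ℕ) : g⁻¹ * x ^ n * g = (g⁻¹ * x * g) ^ n := by
  have := conj_pow (i := n) (a := g⁻¹) (b := x)
  rw [inv_inv] at this
  exact this.symm

theorem czpow (g x : G) (n : ℤ) : g⁻¹ * x ^ n * g = (g⁻¹ * x * g) ^ n := by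
  have := conj_zpow (i := n) (a := g⁻¹) (b := x)
  rw [inv_inv] at this
  exact this.symm

theorem zpow_zpow_eq {x : G} {i j : ℤ} (hi : v ^ i = x⁻¹ * v * x) (hj : v ^ j = x * v * x⁻¹) (y : G)
    (hy : y ∈ zpowers v) : (y ^ i) ^ j = y := by
  have h0 : (v ^ i) ^ j = v := by
    rw [← zpow_mul, mul_comm, zpow_mul, hj, conj_zpow, hi]
    group
  obtain ⟨k, rfl⟩ := mem_zpowers_iff.1 hy
  calc ((v ^ k) ^ i) ^ j = ((v ^ i) ^ j) ^ k := by
        rw [← zpow_mul, ← zpow_mul, ← zpow_mul, ← zpow_mul]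
        congr 1
        ring
    _ = v ^ k := by rw [h0]

/-- moving the representative by an element normalising `⟨v⟩`, or by an element of `H` -/
theorem per_eq {x g h : G} (hx : x⁻¹ * v * x ∈ zpowers v) (hx' : x * v * x⁻¹ ∈ zpowers v)
    (hh : g⁻¹ * x⁻¹ * h ∈ H) : per v H h = per v H g := by
  obtain ⟨i, hi⟩ := mem_zpowers_iff.1 hx
  obtain ⟨j, hj⟩ := mem_zpowers_iff.1 hx'
  -- `h = x g c`, `c ∈ H`
  obtain ⟨c, hc, rfl⟩ : ∃ c ∈ H, h = x * g * c := ⟨_, hh, by group⟩
  have key : ∀ n : ℕ, (x * g * c)⁻¹ * v ^ n * (x * g * c) ∈ H ↔ g⁻¹ * v ^ n * g ∈ H := by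
    intro n
    have e1 : (x * g * c)⁻¹ * v ^ n * (x * g * c) = c⁻¹ * (g⁻¹ * (x⁻¹ * v ^ n * x) * g) * c := by
      group
    have e2 : (c⁻¹ * (g⁻¹ * (x⁻¹ * v ^ n * x) * g) * c ∈ H) ↔ g⁻¹ * (x⁻¹ * v ^ n * x) * g ∈ H := by
      rw [H.mul_mem_cancel_right hc, H.mul_mem_cancel_left (H.inv_mem hc)]
    have e3 : g⁻¹ * (x⁻¹ * v ^ n * x) * g = (g⁻¹ * v ^ n * g) ^ i := by
      rw [cpow x, ← hi, ← czpow, ← zpow_natCast, ← zpow_natCast, ← zpow_mul, ← zpow_mul,
        mul_comm]
    rw [e1, e2, e3]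
    constructor
    · intro h1
      have h2 := H.zpow_mem h1 j
      rwa [← czpow, ← czpow, zpow_zpow_eq hi hj _ (pow_mem (mem_zpowers v) n)] at h2
    · intro h1
      exact H.zpow_mem h1 i
  apply Nat.dvd_antisymm
  · rw [← pow_mem_iff, key, pow_mem_iff]
  · rw [← pow_mem_iff, ← key, pow_mem_iff]

/-- the value does not change either -/
theorem val_eq {A : Type*} [CommGroup A] (hA : ∀ a : A, a * a = 1) (φ : H →* A) {x g h : G}
    (hx : x⁻¹ * v * x ∈ zpowers v) (hx' : x * v * x⁻¹ ∈ zpowers v)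
    (hh : g⁻¹ * x⁻¹ * h ∈ H) (m1 : h⁻¹ * v ^ per v H h * h ∈ H)
    (m2 : g⁻¹ * v ^ per v H g * g ∈ H) : φ ⟨_, m1⟩ = φ ⟨_, m2⟩ := by
  have hper := per_eq hx hx' hh
  revert m1
  rw [hper]
  intro m1
  obtain ⟨i, hi⟩ := mem_zpowers_iff.1 hx
  obtain ⟨j, hj⟩ := mem_zpowers_iff.1 hx'
  obtain ⟨c, hc, rfl⟩ : ∃ c ∈ H, h = x * g * c := ⟨_, hh, by group⟩
  set n := per v H g with hn
  set a := φ ⟨_, m2⟩ with ha
  have e1 : (⟨_, m1⟩ : H) = ⟨c, hc⟩⁻¹ * ⟨_, m2⟩ ^ i * ⟨c, hc⟩ := by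
    apply Subtype.ext
    show (x * g * c)⁻¹ * v ^ n * (x * g * c) = c⁻¹ * (g⁻¹ * v ^ n * g) ^ i * c
    rw [← czpow]
    have e2 : (v ^ n) ^ i = x⁻¹ * v ^ n * x := by
      rw [cpow x, ← hi, ← zpow_natCast, ← zpow_natCast, ← zpow_mul, ← zpow_mul, mul_comm]
    rw [e2]
    group
  have e2 : φ ⟨_, m1⟩ = a ^ i := by
    rw [e1, map_mul, map_mul, map_zpow, map_inv, mul_comm, ← mul_assoc, mul_inv_cancel, one_mul]
  have e3 : (a ^ i) ^ j = a := by
    rw [ha, ← map_zpow, ← map_zpow]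
    congr 1
    apply Subtype.ext
    show ((g⁻¹ * v ^ n * g) ^ i) ^ j = g⁻¹ * v ^ n * g
    rw [← czpow, ← czpow, zpow_zpow_eq hi hj _ (pow_mem (mem_zpowers v) n)]
  rw [e2]
  have h2 : a ^ (2 : ℤ) = 1 := by
    rw [show (2 : ℤ) = 1 + 1 by norm_num, zpow_add, zpow_one, hA]
  rcases Int.even_or_odd' i with ⟨m, hm | hm⟩
  · have h1 : a ^ i = 1 := by rw [hm, zpow_mul, h2, one_zpow]
    rw [h1, one_zpow] at e3
    rw [h1, ← e3]
  · rw [hm, zpow_add, zpow_mul, h2, one_zpow, one_mul, zpow_one]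

/-- **the T-formula for `⟨v⟩` normalised by `T`** -/
theorem transfer_eq_prod {A : Type*} [CommGroup A] (hA : ∀ a : A, a * a = 1) [Finite G]
    [Fintype (Orb v H)] (φ : H →* A) (T : Subgroup G) (hT : IsPGroup 2 T)
    (hTv : ∀ x ∈ T, x * v * x⁻¹ ∈ zpowers v) :
    ∃ f : Orb v H → A, (∀ (g : G) (m : g⁻¹ * v ^ per v H g * g ∈ H), f (mk v H g) = φ ⟨_, m⟩) ∧
      ∃ s : Finset (Orb v H), (∀ g, mk v H g ∈ s ↔ ∀ x ∈ T, ∃ i : ℤ, g⁻¹ * (v ^ i * x) * g ∈ H) ∧
        MonoidHom.transfer φ v = ∏ q ∈ s, f q := by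
  classical
  rw [MonoidHom.transfer_eq_prod_quotient_orbitRel_zpowers_quot]
  set f : Orb v H → A := fun q => φ ⟨q.out.out⁻¹ * v ^ minimalPeriod (v • ·) q.out * q.out.out,
    QuotientGroup.out_conj_pow_minimalPeriod_mem H v q.out⟩ with hf
  have hval : ∀ (g : G) (m : g⁻¹ * v ^ per v H g * g ∈ H), f (mk v H g) = φ ⟨_, m⟩ := by
    intro g m
    set q := mk v H g with hq
    have h1 : (q.out.out : G ⧸ H) = q.out := Quotient.out_eq' q.out
    have h0 : (Quotient.mk'' q.out : Orb v H) = q := Quotient.out_eq' q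
    have h2 : mk v H q.out.out = mk v H g := by
      show (Quotient.mk'' ((q.out.out : G) : G ⧸ H) : Orb v H) = q
      rw [h1, h0]
    obtain ⟨i, hi⟩ := (mk_eq_iff _ _).1 h2
    have h3 : minimalPeriod (v • ·) q.out = per v H q.out.out := by
      rw [per, h1]
    have h4 : ∀ (l : ℕ) (_ : l = per v H q.out.out) (m1 : q.out.out⁻¹ * v ^ l * q.out.out ∈ H),
        φ ⟨_, m1⟩ = φ ⟨_, m⟩ := by
      rintro l rfl m1
      have hz : ∀ i : ℤ, (v ^ i)⁻¹ * v * (v ^ i) = v := by
        intro i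
        have : v * v ^ i = v ^ i * v := (Commute.refl v).zpow_right i
        rw [mul_assoc, this]
        group
      have hz' : ∀ i : ℤ, (v ^ i) * v * (v ^ i)⁻¹ = v := by
        intro i
        have : v ^ i * v = v * v ^ i := (Commute.refl v).zpow_left i
        rw [this]
        group
      apply val_eq hA φ (x := v ^ (-i))
      · rw [hz]; exact mem_zpowers v
      · rw [hz']; exact mem_zpowers v
      · rw [← zpow_neg, neg_neg]; exact hi
    exact h4 _ h3 _
  have hTv' : ∀ x ∈ T, x⁻¹ * v * x ∈ zpowers v := by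
    intro x hx
    have := hTv _ (T.inv_mem hx)
    rwa [inv_inv] at this
  have hcong : ∀ x ∈ T, ∀ i : ℤ, ∃ j : ℤ, x * v ^ i = v ^ j * x := by
    intro x hx i
    obtain ⟨j, hj⟩ := mem_zpowers_iff.1 (hTv x hx)
    refine ⟨j * i, ?_⟩
    rw [zpow_mul, hj, conj_zpow]
    group
  let act : T → Orb v H → Orb v H := fun a => Quotient.map' (fun x => (a : G) • x) (by
    intro x y hxy
    obtain ⟨⟨_, i, rfl⟩, hy⟩ := hxy
    have hy' : v ^ i • y = x := hy
    obtain ⟨j, hj⟩ := hcong a a.2 i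
    show (a : G) • x ∈ orbit (zpowers v) ((a : G) • y)
    refine ⟨⟨v ^ j, j, rfl⟩, ?_⟩
    show v ^ j • ((a : G) • y) = (a : G) • x
    rw [← hy', smul_smul, smul_smul, hj])
  have hact : ∀ (a : T) (g : G), act a (mk v H g) = mk v H (a * g) := fun a g => rfl
  let _ : MulAction T (Orb v H) :=
    { smul := act
      one_smul := by
        intro q
        obtain ⟨g, rfl⟩ := mk_surjective q
        show act 1 (mk v H g) = mk v H g
        rw [hact]
        show mk v H (1 * g) = mk v H g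
        rw [one_mul]
      mul_smul := by
        intro x y q
        obtain ⟨g, rfl⟩ := mk_surjective q
        show act (x * y) (mk v H g) = act x (act y (mk v H g))
        rw [hact, hact, hact]
        show mk v H (x * y * g) = mk v H (x * (y * g))
        rw [mul_assoc] }
  have hinv : ∀ (a : T) (q : Orb v H), f (a • q) = f q := by
    intro a q
    obtain ⟨g, rfl⟩ := mk_surjective q
    show f (act a (mk v H g)) = f (mk v H g)
    rw [hact, hval _ (per_mem _), hval _ (per_mem _)]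
    apply val_eq hA φ (x := (a : G)) (hTv' a a.2) (hTv a a.2)
    have : g⁻¹ * (a : G)⁻¹ * (a * g) = 1 := by group
    rw [this]; exact H.one_mem
  refine ⟨f, hval, Finset.univ.filter (fun q : Orb v H => ∀ x : T, x • q = q), ?_, ?_⟩
  · intro g
    rw [Finset.mem_filter]
    simp only [Finset.mem_univ, true_and]
    constructor
    · intro h x hx
      have h1 := h ⟨x, hx⟩
      change act ⟨x, hx⟩ (mk v H g) = mk v H g at h1
      rw [hact, mk_eq_iff] at h1
      obtain ⟨i, hi⟩ := h1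
      refine ⟨i, ?_⟩
      have : g⁻¹ * (v ^ i * x) * g = g⁻¹ * v ^ i * (x * g) := by group
      rw [this]; exact hi
    · intro h x
      obtain ⟨i, hi⟩ := h x x.2
      show act x (mk v H g) = mk v H g
      rw [hact, mk_eq_iff]
      refine ⟨i, ?_⟩
      have : g⁻¹ * v ^ i * (x * g) = g⁻¹ * (v ^ i * x) * g := by group
      rw [this]; exact hi
  · exact prod_eq_prod_fixed hA hT f hinv _ (fun q => by simp)

end Cfsg.Agent.OddHalf.CycFormula
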