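import Mathlib
import Cfsg.Agent.S0215

/-!
# Centralizers of order at least 4: K-free part

`Fr t K`: `K` is normal in `C(t)`, `t` is the only involution of `R = C(t) ∩ C(K)` and `t` is a square in `R`.
`exists_pair`: if `t` commutes with a conjugate different from `t`, then there are such a conjugate `s` and an
element `r ∈ R` with `r² = t` commuting with `s`.
-/

set_option autoImplicit false

namespace Cfsg.Agent.OddHalf.UQ4

open Subgroup

variable {G : Type*} [Group G]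

/-- An involution commutes with a conjugate different from it, or it is central modulo the odd core. -/
theorem zstar [Finite G] {z : G} (hz1 : z ≠ 1) (hzz : z * z = 1) :
    (∃ g : G, g * z * g⁻¹ ≠ z ∧ g * z * g⁻¹ * z = z * (g * z * g⁻¹)) ∨
      ∃ N : Subgroup G, N.Normal ∧ Odd (Nat.card N) ∧ ∀ g : G, z * g * z⁻¹ * g⁻¹ ∈ N := by
  have : Fact (Nat.Prime 2) := ⟨Nat.prime_two⟩
  by_cases hcon : ∃ g : G, g * z * g⁻¹ ≠ z ∧ g * z * g⁻¹ * z = z * (g * z * g⁻¹)
  · exact Or.inl hcon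
  right
  push Not at hcon
  have hz : orderOf z = 2 := orderOf_eq_prime (by rw [pow_two, hzz]) hz1
  have hzp : IsPGroup 2 (Subgroup.zpowers z) := IsPGroup.of_card (n := 1) (by rw [Nat.card_zpowers, hz, pow_one])
  obtain ⟨P, hP⟩ := hzp.exists_le_sylow
  have hzP : z ∈ P := hP (Subgroup.mem_zpowers z)
  -- `z` is central in `P`: otherwise a conjugate of `z` in its normalizer would commute with `z`
  have hcen : ∀ x ∈ P, x * z = z * x := by
    by_contra hx
    push Not at hx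
    -- the centralizer of `z` in `P` is proper
    set C : Subgroup P := Subgroup.centralizer {(⟨z, hzP⟩ : P)} with hC
    have hCtop : C ≠ ⊤ := by
      intro h
      obtain ⟨x, hxP, hxz⟩ := hx
      have h1 : (⟨x, hxP⟩ : P) ∈ C := by rw [h]; trivial
      exact hxz (congrArg Subtype.val (Subgroup.mem_centralizer_singleton_iff.1 h1))
    have hnil : Group.IsNilpotent P := P.2.isNilpotent
    have hlt : C < Subgroup.normalizer (C : Set P) :=
      Group.normalizerCondition_of_isNilpotent C (lt_top_iff_ne_top.2 hCtop)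
    obtain ⟨y, hy, hyC⟩ := Set.exists_of_ssubset hlt
    have h1 : y * ⟨z, hzP⟩ * y⁻¹ ∈ C := (Subgroup.mem_normalizer_iff.1 hy _).1
      (Subgroup.mem_centralizer_singleton_iff.2 rfl)
    have h2 := Subgroup.mem_centralizer_singleton_iff.1 h1
    have h3 : (y : G) * z * (y : G)⁻¹ * z = z * (y * z * (y : G)⁻¹) := congrArg Subtype.val h2
    by_cases h4 : (y : G) * z * (y : G)⁻¹ = z
    · apply hyC
      refine Subgroup.mem_centralizer_singleton_iff.2 (Subtype.ext ?_)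
      rwa [mul_inv_eq_iff_eq_mul] at h4
    · exact hcon y h4 h3
  exact Cfsg.Agent.S0215.result P z hz hzP (by
    intro g hg
    by_contra hne
    exact hcon g hne (hcen _ hg))

/-- `u` inverts `c`, `r` inverts `c` -/
theorem swap_aux {t r u : G} (t2 : t * t = 1) (hrt : r * r = t) (u2 : u * u = 1)
    (hut : u * t = t * u) :
    u * (r⁻¹ * (u * r * u⁻¹)) * u⁻¹ = (r⁻¹ * (u * r * u⁻¹))⁻¹ ∧
      r * (r⁻¹ * (u * r * u⁻¹)) * r⁻¹ = (r⁻¹ * (u * r * u⁻¹))⁻¹ := by
  have hu : u⁻¹ = u := inv_eq_of_mul_eq_one_right u2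
  have hrinv : r⁻¹ = r * t := by
    apply inv_eq_of_mul_eq_one_right
    rw [← mul_assoc, hrt, t2]
  have hrt' : r * t = t * r := by rw [← hrt, mul_assoc]
  constructor
  · rw [hu]
    calc u * (r⁻¹ * (u * r * u)) * u = u * r⁻¹ * u * r * (u * u) := by group
      _ = u * r⁻¹ * u * r := by rw [u2, mul_one]
      _ = u⁻¹ * r⁻¹ * u⁻¹ * r := by rw [hu]
      _ = (r⁻¹ * (u * r * u))⁻¹ := by group
  · rw [hu]
    calc r * (r⁻¹ * (u * r * u)) * r⁻¹ = u * r * u * r⁻¹ := by group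
      _ = u * r * u * (r * t) := by rw [hrinv]
      _ = u * (r * u * (t * r)) := by rw [hrt']; group
      _ = u * (r * (u * t) * r) := by group
      _ = u * (r * t) * u * r := by rw [hut]; group
      _ = u⁻¹ * r⁻¹ * u⁻¹ * r := by rw [← hrinv, hu]
      _ = (r⁻¹ * (u * r * u))⁻¹ := by group

/-- If `t = r²` is a square in `R`, `t` is the only involution of `R`, and the involution `u ∈ N(R)` commuting with `t`
does not commute with a square root of `t` in `R`, then it inverts one. -/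
theorem exists_swap [Finite G] {R : Subgroup G} {t r u : G} (rk : ∀ x ∈ R, x * x = 1 → x = 1 ∨ x = t)
    (t2 : t * t = 1) (hr : r ∈ R) (hrt : r * r = t) (hu : ∀ x ∈ R, u * x * u⁻¹ ∈ R) (u2 : u * u = 1)
    (hut : u * t = t * u) (hno : ∀ x ∈ R, x * x = t → u * x ≠ x * u) :
    ∃ x ∈ R, x * x = t ∧ u * x * u⁻¹ = x * t := by
  classical
  obtain ⟨hc1, hc2⟩ := swap_aux t2 hrt u2 hut
  set c := r⁻¹ * (u * r * u⁻¹) with hc
  have hcK : c ∈ R := mul_mem (inv_mem hr) (hu _ hr)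
  have hcpow : ∀ n : ℕ, u * c ^ n * u⁻¹ = (c ^ n)⁻¹ := by
    intro n
    rw [← conj_pow, hc1, inv_pow]
  have hrpow : ∀ n : ℕ, r * c ^ n * r⁻¹ = (c ^ n)⁻¹ := by
    intro n
    rw [← conj_pow, hc2, inv_pow]
  have hinv : ∀ n : ℕ, c ^ n * c ^ n = 1 → c ^ n = 1 ∨ c ^ n = t := fun n hn => rk _ (pow_mem hcK n) hn
  have hpos : 0 < orderOf c := orderOf_pos c
  by_cases h4 : 4 ∣ orderOf c
  · obtain ⟨m, hm⟩ := h4
    have hm0 : 0 < m := by omega
    have hρ : c ^ m * c ^ m = t := by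
      have h1 : c ^ (2 * m) * c ^ (2 * m) = 1 := by
        rw [← pow_add, show 2 * m + 2 * m = orderOf c by omega, pow_orderOf_eq_one]
      have h2 := hinv (2 * m) h1
      rw [show 2 * m = m + m by omega, pow_add] at h2
      rcases h2 with h2 | h2
      · exfalso
        rw [← pow_add] at h2
        have := orderOf_dvd_of_pow_eq_one h2
        have := Nat.le_of_dvd (by omega) this
        omega
      · exact h2
    refine ⟨c ^ m, pow_mem hcK m, hρ, ?_⟩
    rw [hcpow]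
    apply inv_eq_of_mul_eq_one_right
    rw [← mul_assoc, hρ, t2]
  · -- `c ^ n ∈ {1, t}` for an odd `n`
    obtain ⟨j, hj⟩ : ∃ j : ℕ, c ^ (2 * j + 1) = 1 ∨ c ^ (2 * j + 1) = t := by
      rcases Nat.even_or_odd' (orderOf c) with ⟨n, hn | hn⟩
      · have hodd : n % 2 = 1 := by
          by_contra hh
          apply h4
          omega
        refine ⟨n / 2, ?_⟩
        rw [show 2 * (n / 2) + 1 = n by omega]
        apply hinv
        rw [← pow_add, show n + n = orderOf c by omega, pow_orderOf_eq_one]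
      · refine ⟨n, Or.inl ?_⟩
        rw [← hn, pow_orderOf_eq_one]
    set x := r * c ^ (j + 1) with hx
    have hxK : x ∈ R := mul_mem hr (pow_mem hcK _)
    have hxx : x * x = t := by
      have h1 := hrpow (j + 1)
      have h2 : c ^ (j + 1) * r = r * (c ^ (j + 1))⁻¹ := by
        calc c ^ (j + 1) * r = (r * c ^ (j + 1) * r⁻¹)⁻¹ * r := by rw [h1, inv_inv]
          _ = r * (c ^ (j + 1))⁻¹ := by group
      calc x * x = r * (c ^ (j + 1) * r) * c ^ (j + 1) := by rw [hx]; group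
        _ = r * r := by rw [h2]; group
        _ = t := hrt
    have hux : u * x * u⁻¹ = x * (c ^ (2 * j + 1))⁻¹ := by
      have h1 : u * r * u⁻¹ = r * c := by rw [hc]; group
      calc u * x * u⁻¹ = (u * r * u⁻¹) * (u * c ^ (j + 1) * u⁻¹) := by rw [hx]; group
        _ = r * c * (c ^ (j + 1))⁻¹ := by rw [h1, hcpow]
        _ = x * (c ^ (2 * j + 1))⁻¹ := by
            rw [hx, show 2 * j + 1 = j + (j + 1) by omega, pow_add c j (j + 1), pow_succ' c j]
            group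
    refine ⟨x, hxK, hxx, ?_⟩
    rcases hj with hj | hj
    · exfalso
      apply hno x hxK hxx
      rw [hj, inv_one, mul_one] at hux
      exact mul_inv_eq_iff_eq_mul.1 hux
    · rw [hux, hj, inv_eq_of_mul_eq_one_right t2]

/-- `K` is normal in `C(t)`, `t` is the only involution of `R = C(t) ∩ C(K)` and `t` is a square in `R`. -/
structure Fr (t : G) (K : Subgroup G) : Prop where
  t1 : t ≠ 1
  tt : t * t = 1
  tK : t ∉ K
  le : ∀ k ∈ K, t * k = k * t
  norm : ∀ x, x * t = t * x → ∀ k ∈ K, x * k * x⁻¹ ∈ K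
  uni : ∀ x, x * t = t * x → (∀ k ∈ K, x * k = k * x) → x * x = 1 → x = 1 ∨ x = t
  odd : ∀ N : Subgroup G, N ≤ K → (∀ k ∈ K, ∀ n ∈ N, k * n * k⁻¹ ∈ N) → Odd (Nat.card N) → N = ⊥
  four : ∃ r, (∀ k ∈ K, r * k = k * r) ∧ r * r = t

/-- Membership in `gKg⁻¹`. -/
theorem mem_map_conj {K : Subgroup G} {g x : G} :
    x ∈ K.map (MulAut.conj g).toMonoidHom ↔ g⁻¹ * x * g ∈ K := by
  rw [Subgroup.mem_map]
  constructor
  · rintro ⟨y, hy, rfl⟩
    have : g⁻¹ * ((MulAut.conj g).toMonoidHom y) * g = y := by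
      simp only [MulEquiv.toMonoidHom_eq_coe, MonoidHom.coe_coe, MulAut.conj_apply]
      group
    rw [this]; exact hy
  · intro h
    refine ⟨_, h, ?_⟩
    simp only [MulEquiv.toMonoidHom_eq_coe, MonoidHom.coe_coe, MulAut.conj_apply]
    group

theorem conj_mem_map {K : Subgroup G} {g x : G} (hx : x ∈ K) :
    g * x * g⁻¹ ∈ K.map (MulAut.conj g).toMonoidHom := by
  rw [mem_map_conj]
  have : g⁻¹ * (g * x * g⁻¹) * g = x := by group
  rw [this]; exact hx

/-- Commuting is preserved by conjugation. -/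
theorem comm_conj {x y : G} (g : G) (h : x * y = y * x) :
    g * x * g⁻¹ * (g * y * g⁻¹) = g * y * g⁻¹ * (g * x * g⁻¹) := by
  calc g * x * g⁻¹ * (g * y * g⁻¹) = g * (x * y) * g⁻¹ := by group
    _ = g * (y * x) * g⁻¹ := by rw [h]
    _ = _ := by group

theorem comm_conj' {x y : G} (g : G) (h : x * (g * y * g⁻¹) = g * y * g⁻¹ * x) :
    g⁻¹ * x * g * y = y * (g⁻¹ * x * g) := by
  calc g⁻¹ * x * g * y = g⁻¹ * (x * (g * y * g⁻¹)) * g := by group
    _ = g⁻¹ * (g * y * g⁻¹ * x) * g := by rw [h]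
    _ = _ := by group

theorem Fr.conj {t : G} {K : Subgroup G} (F : Fr t K) (g : G) :
    Fr (g * t * g⁻¹) (K.map (MulAut.conj g).toMonoidHom) where
  t1 := fun h => F.t1 (by
    calc t = g⁻¹ * (g * t * g⁻¹) * g := by group
      _ = 1 := by rw [h]; group)
  tt := by
    calc g * t * g⁻¹ * (g * t * g⁻¹) = g * (t * t) * g⁻¹ := by group
      _ = 1 := by rw [F.tt]; group
  tK := by
    rw [mem_map_conj]
    have : g⁻¹ * (g * t * g⁻¹) * g = t := by group
    rw [this]; exact F.tK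
  le := by
    intro k hk
    rw [mem_map_conj] at hk
    have h := comm_conj g (F.le _ hk)
    have h2 : g * (g⁻¹ * k * g) * g⁻¹ = k := by group
    rwa [h2] at h
  norm := by
    intro x hx k hk
    rw [mem_map_conj] at hk ⊢
    have h := F.norm _ (comm_conj' g hx) _ hk
    have h2 : g⁻¹ * x * g * (g⁻¹ * k * g) * (g⁻¹ * x * g)⁻¹ = g⁻¹ * (x * k * x⁻¹) * g := by group
    rwa [h2] at h
  uni := by
    intro x hx hc hxx
    have h := F.uni _ (comm_conj' g hx) (fun k hk => comm_conj' g (hc _ (conj_mem_map hk))) (by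
      calc g⁻¹ * x * g * (g⁻¹ * x * g) = g⁻¹ * (x * x) * g := by group
        _ = 1 := by rw [hxx]; group)
    rcases h with h | h
    · left
      calc x = g * (g⁻¹ * x * g) * g⁻¹ := by group
        _ = 1 := by rw [h]; group
    · right
      calc x = g * (g⁻¹ * x * g) * g⁻¹ := by group
        _ = _ := by rw [h]
  odd := by
    intro N hN hc hodd
    have h := F.odd (N.map (MulAut.conj g⁻¹).toMonoidHom) (by
      intro x hx
      rw [mem_map_conj, inv_inv] at hx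
      have h := hN hx
      rw [mem_map_conj] at h
      have h2 : g⁻¹ * (g * x * g⁻¹) * g = x := by group
      rwa [h2] at h) (by
      intro k hk n hn
      rw [mem_map_conj, inv_inv] at hn ⊢
      have h := hc _ (conj_mem_map hk) _ hn
      have h2 : g * k * g⁻¹ * (g * n * g⁻¹) * (g * k * g⁻¹)⁻¹ = g * (k * n * k⁻¹) * g⁻¹ := by group
      rwa [h2] at h) (by
      rwa [Nat.card_congr (N.equivMapOfInjective _ (MulAut.conj g⁻¹).injective).toEquiv.symm])
    exact (Subgroup.map_eq_bot_iff_of_injective _ (MulAut.conj g⁻¹).injective).1 h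
  four := by
    obtain ⟨r, hr, hrt⟩ := F.four
    refine ⟨g * r * g⁻¹, ?_, ?_⟩
    · intro k hk
      rw [mem_map_conj] at hk
      have h := comm_conj g (hr _ hk)
      have h2 : g * (g⁻¹ * k * g) * g⁻¹ = k := by group
      rwa [h2] at h
    · calc g * r * g⁻¹ * (g * r * g⁻¹) = g * (r * r) * g⁻¹ := by group
        _ = _ := by rw [hrt]

variable {t : G} {K : Subgroup G}

/-- `C(t) ∩ C(K)` -/
def RR (t : G) (K : Subgroup G) : Subgroup G := centralizer {t} ⊓ centralizer (K : Set G)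

theorem mem_RR {x : G} : x ∈ RR t K ↔ x * t = t * x ∧ ∀ k ∈ K, x * k = k * x := by
  rw [RR, Subgroup.mem_inf, mem_centralizer_singleton_iff, mem_centralizer_iff]
  constructor
  · rintro ⟨h1, h2⟩
    exact ⟨h1, fun k hk => (h2 k hk).symm⟩
  · rintro ⟨h1, h2⟩
    exact ⟨h1, fun k hk => (h2 k hk).symm⟩

theorem Fr.norm_inv (F : Fr t K) {x k : G} (hx : x * t = t * x) (hk : k ∈ K) : x⁻¹ * k * x ∈ K := by
  have h : x⁻¹ * t = t * x⁻¹ := by
    calc x⁻¹ * t = x⁻¹ * (t * x) * x⁻¹ := by group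
      _ = t * x⁻¹ := by rw [← hx]; group
  have := F.norm _ h k hk
  rwa [inv_inv] at this

theorem Fr.norm_RR (F : Fr t K) {x y : G} (hx : x * t = t * x) (hy : y ∈ RR t K) : x * y * x⁻¹ ∈ RR t K := by
  rw [mem_RR] at hy ⊢
  constructor
  · have h : x * t * x⁻¹ = t := by rw [hx]; group
    have := comm_conj x hy.1
    rwa [h] at this
  · intro k hk
    have h := comm_conj x (hy.2 _ (F.norm_inv hx hk))
    have h2 : x * (x⁻¹ * k * x) * x⁻¹ = k := by group
    rwa [h2] at h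

/-- An involution commuting with `t`, different from `t`, does not centralize `K`. -/
theorem Fr.not_cent (F : Fr t K) {s : G} (hs1 : s ≠ 1) (hss : s * s = 1) (hst : s * t = t * s) (hne : s ≠ t) :
    ∃ k ∈ K, s * k ≠ k * s := by
  by_contra h
  push Not at h
  rcases F.uni s hst h hss with h1 | h1
  · exact hs1 h1
  · exact hne h1

/-- **The pair of case A.** -/
theorem Fr.exists_pair [Finite G] (F : Fr t K)
    (hz : ∃ g : G, g * t * g⁻¹ ≠ t ∧ g * t * g⁻¹ * t = t * (g * t * g⁻¹)) :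
    ∃ g : G, g * t * g⁻¹ ≠ t ∧ g * t * g⁻¹ * t = t * (g * t * g⁻¹) ∧
      ∃ r ∈ RR t K, r * r = t ∧ g * t * g⁻¹ * r = r * (g * t * g⁻¹) := by
  classical
  by_contra hcon
  push Not at hcon
  -- the product of two commuting conjugates of `t` is a conjugate of `t`
  have key0 : ∀ g : G, g * t * g⁻¹ ≠ t → g * t * g⁻¹ * t = t * (g * t * g⁻¹) →
      ∃ h, h * t * h⁻¹ = g * t * g⁻¹ * t := by
    intro g hg1 hg2
    obtain ⟨r, hr, hrt⟩ := F.four
    have hrR : r ∈ RR t K := mem_RR.2 ⟨by rw [← hrt, mul_assoc], hr⟩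
    have hss : g * t * g⁻¹ * (g * t * g⁻¹) = 1 := (F.conj g).tt
    obtain ⟨x, hx, hxx, hxt⟩ := exists_swap (R := RR t K) (u := g * t * g⁻¹)
      (fun x hx hxx => F.uni x (mem_RR.1 hx).1 (mem_RR.1 hx).2 hxx) F.tt hrR hrt
      (fun x hx => F.norm_RR hg2 hx) hss hg2 (fun x hx hxx => hcon g hg1 hg2 x hx hxx)
    -- `x⁻¹ s x = s t`
    refine ⟨x⁻¹ * g, ?_⟩
    have hxi : x⁻¹ = t * x := by
      apply inv_eq_of_mul_eq_one_left
      rw [mul_assoc, hxx, F.tt]
    have hxt' : g * t * g⁻¹ * x = x * t * (g * t * g⁻¹) := mul_inv_eq_iff_eq_mul.1 hxt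
    calc x⁻¹ * g * t * (x⁻¹ * g)⁻¹ = x⁻¹ * (g * t * g⁻¹ * x) := by group
      _ = t * (g * t * g⁻¹) := by rw [hxt']; group
      _ = g * t * g⁻¹ * t := hg2.symm
  have key : ∀ g h : G, g * t * g⁻¹ ≠ h * t * h⁻¹ →
      g * t * g⁻¹ * (h * t * h⁻¹) = h * t * h⁻¹ * (g * t * g⁻¹) →
      ∃ k, k * t * k⁻¹ = g * t * g⁻¹ * (h * t * h⁻¹) := by
    intro g h h1 h2
    obtain ⟨k, hk⟩ := key0 (h⁻¹ * g) (by
      intro h3
      apply h1
      calc g * t * g⁻¹ = h * (h⁻¹ * g * t * (h⁻¹ * g)⁻¹) * h⁻¹ := by group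
        _ = _ := by rw [h3]) (by
      have h4 := comm_conj h⁻¹ h2
      have e1 : h⁻¹ * (g * t * g⁻¹) * h⁻¹⁻¹ = h⁻¹ * g * t * (h⁻¹ * g)⁻¹ := by group
      have e2 : h⁻¹ * (h * t * h⁻¹) * h⁻¹⁻¹ = t := by group
      rwa [e1, e2] at h4)
    refine ⟨h * k, ?_⟩
    calc h * k * t * (h * k)⁻¹ = h * (k * t * k⁻¹) * h⁻¹ := by group
      _ = h * (h⁻¹ * g * t * (h⁻¹ * g)⁻¹ * t) * h⁻¹ := by rw [hk]
      _ = _ := by group
  obtain ⟨g, hg1, hg2⟩ := hz
  set s := g * t * g⁻¹ with hs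
  have hs1 : s ≠ 1 := (F.conj g).t1
  have hss : s * s = 1 := (F.conj g).tt
  have hsinv : s⁻¹ = s := inv_eq_of_mul_eq_one_right hss
  obtain ⟨k0, hk0, hk0s⟩ := F.not_cent hs1 hss hg2 hg1
  -- Glauberman's theorem in `K⟨s⟩`
  set X : Subgroup G := K ⊔ zpowers s with hX
  have hKX : K ≤ X := le_sup_left
  have hsX : s ∈ X := (le_sup_right : zpowers s ≤ X) (mem_zpowers s)
  have hXn : ∀ x ∈ X, ∀ k ∈ K, x * k * x⁻¹ ∈ K := by
    have h1 : X ≤ normalizer (K : Set G) := by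
      rw [hX, sup_le_iff]
      refine ⟨le_normalizer, ?_⟩
      rw [zpowers_le]
      rw [Subgroup.mem_normalizer_iff]
      intro k
      refine ⟨fun hk => F.norm _ hg2 _ hk, fun hk => ?_⟩
      have := F.norm_inv hg2 hk
      have h2 : s⁻¹ * (s * k * s⁻¹) * s = k := by group
      rwa [h2] at this
    intro x hx k hk
    exact (Subgroup.mem_normalizer_iff.1 (h1 hx) k).1 hk
  have hXdec : ∀ x ∈ X, x ∈ K ∨ ∃ k ∈ K, x = k * s := by
    intro x hx
    have h1 : (zpowers s) ≤ normalizer (K : Set G) := by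
      rw [zpowers_le, Subgroup.mem_normalizer_iff]
      intro k
      refine ⟨fun hk => F.norm _ hg2 _ hk, fun hk => ?_⟩
      have := F.norm_inv hg2 hk
      have h2 : s⁻¹ * (s * k * s⁻¹) * s = k := by group
      rwa [h2] at this
    rw [hX, ← SetLike.mem_coe, Subgroup.coe_mul_of_right_le_normalizer_left _ _ h1] at hx
    obtain ⟨k, hk, y, hy, rfl⟩ := hx
    obtain ⟨n, rfl⟩ := mem_zpowers_iff.1 hy
    rcases Int.even_or_odd' n with ⟨m, hm | hm⟩
    · left
      show k * s ^ n ∈ K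
      rw [hm, zpow_mul, zpow_two, hss, one_zpow, mul_one]
      exact hk
    · right
      refine ⟨k, hk, ?_⟩
      show k * s ^ n = k * s
      rw [hm, zpow_add, zpow_mul, zpow_two, hss, one_zpow, one_mul, zpow_one]
  rcases zstar (G := X) (z := ⟨s, hsX⟩) (fun h => hs1 (congrArg Subtype.val h)) (Subtype.ext hss) with
    ⟨f, hf1, hf2⟩ | ⟨N, hN, hNodd, hNs⟩
  · have hf1' : (f : G) * s * (f : G)⁻¹ ≠ s := fun h => hf1 (Subtype.ext h)
    have hf2' : (f : G) * s * (f : G)⁻¹ * s = s * ((f : G) * s * (f : G)⁻¹) := congrArg Subtype.val hf2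
    -- the element `f` may be taken in `K`
    obtain ⟨k, hk, hfk⟩ : ∃ k ∈ K, (f : G) * s * (f : G)⁻¹ = k * s * k⁻¹ := by
      rcases hXdec f f.2 with h | ⟨k, hk, h⟩
      · exact ⟨f, h, rfl⟩
      · refine ⟨k, hk, ?_⟩
        rw [h]; group
    rw [hfk] at hf1' hf2'
    have e1 : k * s * k⁻¹ = k * g * t * (k * g)⁻¹ := by rw [hs]; group
    obtain ⟨m, hm⟩ := key (k * g) g (by rw [← e1]; exact hf1') (by rw [← e1]; exact hf2')
    rw [← e1, ← hs] at hm
    -- `u = [k, s]`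
    have huK : k * s * k⁻¹ * s ∈ K := by
      have h1 : k * s * k⁻¹ * s = k * (s * k⁻¹ * s⁻¹) := by rw [hsinv]; group
      rw [h1]
      exact K.mul_mem hk (F.norm _ hg2 _ (K.inv_mem hk))
    obtain ⟨r, hr, hrt⟩ := F.four
    refine hcon m ?_ ?_ r (mem_RR.2 ⟨by rw [← hrt, mul_assoc], hr⟩) hrt ?_
    · rw [hm]
      intro h
      exact F.tK (h ▸ huK)
    · rw [hm]
      exact (F.le _ huK).symm
    · rw [hm]
      exact (hr _ huK).symm
  · -- `N ∩ K = 1`
    have hNK : (N.map X.subtype ⊓ K) = ⊥ := by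
      apply F.odd
      · exact inf_le_right
      · rintro k hk n ⟨hn, hnK⟩
        obtain ⟨n', hn', rfl⟩ := hn
        refine ⟨⟨⟨k, hKX hk⟩ * n' * ⟨k, hKX hk⟩⁻¹, hN.conj_mem _ hn' _, rfl⟩, ?_⟩
        exact K.mul_mem (K.mul_mem hk hnK) (K.inv_mem hk)
      · have h1 : Odd (Nat.card (N.map X.subtype)) := by
          rwa [Nat.card_congr (N.equivMapOfInjective _ X.subtype_injective).toEquiv.symm]
        exact Odd.of_dvd_nat h1 (Subgroup.card_dvd_of_le inf_le_left)
    apply hk0s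
    have h1 := hNs ⟨k0, hKX hk0⟩
    have h2 : s * k0 * s⁻¹ * k0⁻¹ ∈ N.map X.subtype ⊓ K :=
      ⟨⟨_, h1, rfl⟩, K.mul_mem (F.norm _ hg2 _ hk0) (K.inv_mem hk0)⟩
    rw [hNK, Subgroup.mem_bot, mul_inv_eq_one, mul_inv_eq_iff_eq_mul] at h2
    exact h2

/-! ### The case `|C(t) : RK| ≤ 2`, `R` cyclic -/

/-- `x ∈ RK` -/
def InRK (t : G) (K : Subgroup G) (x : G) : Prop := ∃ k ∈ K, x * k⁻¹ ∈ RR t K

theorem InRK.inv {x : G} (h : InRK t K x) : InRK t K x⁻¹ := by
  obtain ⟨k, hk, hx⟩ := h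
  refine ⟨k⁻¹, K.inv_mem hk, ?_⟩
  have h1 := (mem_RR.1 hx).2 k hk
  have h2 : x = k * x * k⁻¹ := by
    calc x = x * k⁻¹ * k := by group
      _ = k * (x * k⁻¹) := h1
      _ = k * x * k⁻¹ := by group
  have h3 : x⁻¹ * k⁻¹⁻¹ = (x * k⁻¹)⁻¹ := by
    rw [inv_inv, mul_inv_rev, inv_inv]
    calc x⁻¹ * k = (k * x * k⁻¹)⁻¹ * k := by rw [← h2]
      _ = k * x⁻¹ := by group
  rw [h3]
  exact inv_mem hx

theorem InRK.comm {x r : G} (h : InRK t K x) (hr : r ∈ RR t K)
    (hab : ∀ x ∈ RR t K, ∀ y ∈ RR t K, x * y = y * x) : x * r = r * x := by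
  obtain ⟨k, hk, hx⟩ := h
  have h1 := hab _ hx _ hr
  have h2 := (mem_RR.1 hr).2 k hk
  calc x * r = x * k⁻¹ * (k * r) := by group
    _ = x * k⁻¹ * r * k := by rw [← h2]; group
    _ = r * x := by rw [h1]; group

/-- The condition on the automorphisms of `K`: an automorphism `α` of order 4 commuting with all the squares of elements
centralizing `α²` is outer, its square is inner, and some element centralizes `α²` but not `α`. -/
def KFact (X : Type*) [Group X] : Prop := ∀ α : MulAut X, (∃ h, α (α h) ≠ h) → (∀ h, α (α (α (α h))) = h) →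
  (∀ h, α (α h) = h → α (h * h) = h * h) →
  (∃ y : X, ∀ h, α (α h) = y * h * y⁻¹) ∧ (¬ ∃ y : X, ∀ h, α h = y * h * y⁻¹) ∧ ∃ h, α (α h) = h ∧ α h ≠ h

theorem KFact.congr {X Y : Type*} [Group X] [Group Y] (e : X ≃* Y) (h : KFact X) : KFact Y := by
  intro β h1 h2 h3
  let α : MulAut X := (e.trans β).trans e.symm
  have hα : ∀ x, α x = e.symm (β (e x)) := fun x => rfl
  obtain ⟨⟨y, hy⟩, h5, z, hz1, hz2⟩ := h α (by
    obtain ⟨x, hx⟩ := h1
    refine ⟨e.symm x, fun hh => hx ?_⟩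
    rw [hα, hα, e.apply_symm_apply, e.apply_symm_apply] at hh
    exact e.symm.injective hh) (by
    intro x
    simp only [hα, e.apply_symm_apply]
    rw [h2, e.symm_apply_apply]) (by
    intro x hx
    rw [hα, hα, e.apply_symm_apply] at hx
    have h4 := h3 (e x) (by
      have := congrArg e hx
      rwa [e.apply_symm_apply] at this)
    rw [hα, map_mul e, h4, ← map_mul e, e.symm_apply_apply])
  refine ⟨⟨e y, fun x => ?_⟩, ?_, e z, ?_, ?_⟩
  · have := hy (e.symm x)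
    rw [hα, hα, e.apply_symm_apply, e.apply_symm_apply] at this
    rw [← e.apply_symm_apply (β (β x)), this, map_mul, map_mul, map_inv, e.apply_symm_apply]
  · rintro ⟨w, hw⟩
    apply h5
    refine ⟨e.symm w, fun x => ?_⟩
    rw [hα, hw, map_mul, map_mul, map_inv, e.symm_apply_apply]
  · rw [hα, hα, e.apply_symm_apply] at hz1
    rw [← e.apply_symm_apply (β (β (e z))), hz1]
  · intro hh
    apply hz2
    rw [hα, hh, e.symm_apply_apply]

/-- Conjugation by `x ∈ C(t)` on `K`. -/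
def Fr.conjAut (F : Fr t K) (x : G) (hx : x * t = t * x) : MulAut K where
  toFun k := ⟨x * k * x⁻¹, F.norm _ hx _ k.2⟩
  invFun k := ⟨x⁻¹ * k * x, F.norm_inv hx k.2⟩
  left_inv k := by apply Subtype.ext; show x⁻¹ * (x * k * x⁻¹) * x = k; group
  right_inv k := by apply Subtype.ext; show x * (x⁻¹ * k * x) * x⁻¹ = k; group
  map_mul' a b := by apply Subtype.ext; show x * (a * b) * x⁻¹ = x * a * x⁻¹ * (x * b * x⁻¹); group

theorem Fr.half (F : Fr t K) {s : G} {L : Subgroup G} (F' : Fr s L) (hst : s * t = t * s) (hne : s ≠ t)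
    (hidx : ∀ x y, x * t = t * x → y * t = t * y → ¬ InRK t K x → ¬ InRK t K y → InRK t K (x⁻¹ * y))
    (hab : ∀ x ∈ RR t K, ∀ y ∈ RR t K, x * y = y * x) (P : KFact L) {r : G} (hr : r ∈ RR t K) (hrt : r * r = t)
    (hsr : s * r = r * s) :
    InRK s L t ∧ ¬ InRK s L r ∧ ∃ h ∈ L, h * t = t * h ∧ h * r ≠ r * h := by
  have hrs : r * s = s * r := hsr.symm
  have hα : ∀ h : L, ((F'.conjAut r hrs h : L) : G) = r * h * r⁻¹ := fun h => rfl
  have hα2 : ∀ h : L, ((F'.conjAut r hrs (F'.conjAut r hrs h) : L) : G) = t * h * t⁻¹ := by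
    intro h
    rw [hα, hα, ← hrt]
    group
  obtain ⟨⟨y, hy⟩, h5, z, hz1, hz2⟩ := P (F'.conjAut r hrs) (by
    obtain ⟨k, hk, hks⟩ := F'.not_cent F.t1 F.tt hst.symm (Ne.symm hne)
    refine ⟨⟨k, hk⟩, fun hh => hks ?_⟩
    have h1 := congrArg Subtype.val hh
    rw [hα2] at h1
    exact mul_inv_eq_iff_eq_mul.1 h1) (by
    intro h
    apply Subtype.ext
    rw [hα2, hα2]
    calc t * (t * h * t⁻¹) * t⁻¹ = (t * t) * h * (t * t)⁻¹ := by group
      _ = h := by rw [F.tt]; group) (by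
    intro h hh
    apply Subtype.ext
    have h1 : t * h * t⁻¹ = h := by rw [← hα2, hh]
    have h2 : (h : G) * t = t * h := (mul_inv_eq_iff_eq_mul.1 h1).symm
    have h3 : ((h : G) * h) * r = r * (h * h) := by
      by_cases hin : InRK t K (h : G)
      · have := hin.comm hr hab
        calc ((h : G) * h) * r = h * (h * r) := by group
          _ = h * (r * h) := by rw [this]
          _ = (h * r) * h := by group
          _ = (r * h) * h := by rw [this]
          _ = r * (h * h) := by group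
      · have hin' : ¬ InRK t K (h : G)⁻¹ := fun hh => hin (by simpa using hh.inv)
        have hi : (h : G)⁻¹ * t = t * (h : G)⁻¹ := by
          calc (h : G)⁻¹ * t = (h : G)⁻¹ * (t * h) * (h : G)⁻¹ := by group
            _ = t * (h : G)⁻¹ := by rw [← h2]; group
        have := hidx _ _ hi h2 hin' hin
        rw [inv_inv] at this
        exact this.comm hr hab
    rw [hα]
    show r * ((h : G) * h) * r⁻¹ = h * h
    rw [← h3]; group)
  refine ⟨⟨y, y.2, ?_⟩, ?_, z, z.2, ?_, ?_⟩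
  · rw [mem_RR]
    constructor
    · have h1 := F'.le y y.2
      have h2 : (y : G)⁻¹ * s = s * (y : G)⁻¹ := by
        calc (y : G)⁻¹ * s = (y : G)⁻¹ * (s * y) * (y : G)⁻¹ := by group
          _ = s * (y : G)⁻¹ := by rw [h1]; group
      calc t * (y : G)⁻¹ * s = t * ((y : G)⁻¹ * s) := by group
        _ = (t * s) * (y : G)⁻¹ := by rw [h2]; group
        _ = s * (t * (y : G)⁻¹) := by rw [← hst]; group
    · intro k hk
      have h1 := congrArg Subtype.val (hy (⟨y, y.2⟩⁻¹ * ⟨k, hk⟩ * ⟨y, y.2⟩))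
      rw [hα2] at h1
      have h2 : t * ((y : G)⁻¹ * k * y) * t⁻¹ = k := h1.trans (by
        show (y : G) * ((y : G)⁻¹ * k * y) * (y : G)⁻¹ = k
        group)
      calc t * (y : G)⁻¹ * k = t * ((y : G)⁻¹ * k * y) * t⁻¹ * (t * (y : G)⁻¹) := by group
        _ = k * (t * (y : G)⁻¹) := by rw [h2]
  · rintro ⟨w, hw, hwr⟩
    apply h5
    refine ⟨⟨w, hw⟩, fun h => Subtype.ext ?_⟩
    rw [hα]
    show r * (h : G) * r⁻¹ = w * h * w⁻¹
    have h1 := (mem_RR.1 hwr).2 (w * h * w⁻¹) (L.mul_mem (L.mul_mem hw h.2) (L.inv_mem hw))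
    calc r * (h : G) * r⁻¹ = (r * w⁻¹ * (w * h * w⁻¹)) * (r * w⁻¹)⁻¹ := by group
      _ = w * h * w⁻¹ := by rw [h1]; group
  · have h1 := congrArg Subtype.val hz1
    rw [hα2] at h1
    exact (mul_inv_eq_iff_eq_mul.1 h1).symm
  · intro hh
    apply hz2
    apply Subtype.ext
    rw [hα, ← hh]; group

/-- If `r1 ∈ C(t)` is not in `RK`, `r ∈ R` is a square root of `t` and some `h ∈ C(t)` does not commute with `r`, then
`r1` inverts `r`. -/
theorem Fr.inverts (F : Fr t K)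
    (hidx : ∀ x y, x * t = t * x → y * t = t * y → ¬ InRK t K x → ¬ InRK t K y → InRK t K (x⁻¹ * y))
    (hab : ∀ x ∈ RR t K, ∀ y ∈ RR t K, x * y = y * x)
    (hroot : ∀ x ∈ RR t K, ∀ y ∈ RR t K, x * x = t → y * y = t → y = x ∨ y = x * t)
    {r r1 h : G} (hr : r ∈ RR t K) (hrt : r * r = t) (h1 : r1 * t = t * r1) (hn : ¬ InRK t K r1)
    (hh : h * t = t * h) (hhr : h * r ≠ r * h) : r1 * r * r1⁻¹ = r * t := by
  have h2 : ¬ InRK t K h := fun hin => hhr (hin.comm hr hab)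
  have h3 := (hidx h r1 hh h1 h2 hn).comm hr hab
  have h4 : r1 * r * r1⁻¹ ≠ r := by
    intro h5
    apply hhr
    have h6 : r1 * r = r * r1 := mul_inv_eq_iff_eq_mul.1 h5
    calc h * r = h * (r * (h⁻¹ * r1)) * r1⁻¹ * h := by group
      _ = h * (h⁻¹ * r1 * r) * r1⁻¹ * h := by rw [h3]
      _ = (r1 * r) * r1⁻¹ * h := by group
      _ = r * h := by rw [h6]; group
  rcases hroot r hr _ (F.norm_RR h1 hr) hrt (by
    have h5 : r1 * t * r1⁻¹ = t := by rw [h1]; group
    calc r1 * r * r1⁻¹ * (r1 * r * r1⁻¹) = r1 * (r * r) * r1⁻¹ := by group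
      _ = t := by rw [hrt, h5]) with h5 | h5
  · exact absurd h5 h4
  · exact h5

theorem mem_RR_conj {g x : G} : x ∈ RR (g * t * g⁻¹) (K.map (MulAut.conj g).toMonoidHom) ↔ g⁻¹ * x * g ∈ RR t K := by
  rw [mem_RR, mem_RR]
  constructor
  · rintro ⟨h1, h2⟩
    exact ⟨comm_conj' g h1, fun k hk => comm_conj' g (h2 _ (conj_mem_map hk))⟩
  · rintro ⟨h1, h2⟩
    have e : g * (g⁻¹ * x * g) * g⁻¹ = x := by group
    constructor
    · have := comm_conj g h1
      rwa [e] at this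
    · intro k hk
      rw [mem_map_conj] at hk
      have := comm_conj g (h2 _ hk)
      have e2 : g * (g⁻¹ * k * g) * g⁻¹ = k := by group
      rwa [e, e2] at this

theorem InRK_conj {g x : G} : InRK (g * t * g⁻¹) (K.map (MulAut.conj g).toMonoidHom) x ↔
    InRK t K (g⁻¹ * x * g) := by
  constructor
  · rintro ⟨k, hk, h⟩
    rw [mem_map_conj] at hk
    rw [mem_RR_conj] at h
    refine ⟨_, hk, ?_⟩
    have e : g⁻¹ * (x * k⁻¹) * g = g⁻¹ * x * g * (g⁻¹ * k * g)⁻¹ := by group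
    rwa [← e]
  · rintro ⟨k, hk, h⟩
    refine ⟨_, conj_mem_map hk, ?_⟩
    rw [mem_RR_conj]
    have e : g⁻¹ * (x * (g * k * g⁻¹)⁻¹) * g = g⁻¹ * x * g * k⁻¹ := by group
    rwa [e]

/-- **`|R| ≥ 4` is impossible** if `R` is cyclic, `|C(t) : RK| ≤ 2` and `K` satisfies `KFact`. -/
theorem Fr.main [Finite G] (F : Fr t K)
    (hz : ∃ g : G, g * t * g⁻¹ ≠ t ∧ g * t * g⁻¹ * t = t * (g * t * g⁻¹))
    (hidx : ∀ x y, x * t = t * x → y * t = t * y → ¬ InRK t K x → ¬ InRK t K y → InRK t K (x⁻¹ * y))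
    (hab : ∀ x ∈ RR t K, ∀ y ∈ RR t K, x * y = y * x)
    (hroot : ∀ x ∈ RR t K, ∀ y ∈ RR t K, x * x = t → y * y = t → y = x ∨ y = x * t)
    (P : KFact K) : False := by
  obtain ⟨g, hne, hst, r, hr, hrt, hsr⟩ := F.exists_pair hz
  have F' := F.conj g
  have hidx' : ∀ x y, x * (g * t * g⁻¹) = g * t * g⁻¹ * x → y * (g * t * g⁻¹) = g * t * g⁻¹ * y →
      ¬ InRK (g * t * g⁻¹) (K.map (MulAut.conj g).toMonoidHom) x →
      ¬ InRK (g * t * g⁻¹) (K.map (MulAut.conj g).toMonoidHom) y →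
      InRK (g * t * g⁻¹) (K.map (MulAut.conj g).toMonoidHom) (x⁻¹ * y) := by
    intro x y hx hy h1 h2
    rw [InRK_conj] at h1 h2 ⊢
    have := hidx _ _ (comm_conj' g hx) (comm_conj' g hy) h1 h2
    have e : (g⁻¹ * x * g)⁻¹ * (g⁻¹ * y * g) = g⁻¹ * (x⁻¹ * y) * g := by group
    rwa [e] at this
  have hab' : ∀ x ∈ RR (g * t * g⁻¹) (K.map (MulAut.conj g).toMonoidHom),
      ∀ y ∈ RR (g * t * g⁻¹) (K.map (MulAut.conj g).toMonoidHom), x * y = y * x := by
    intro x hx y hy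
    rw [mem_RR_conj] at hx hy
    have := comm_conj g (hab _ hx _ hy)
    have e : ∀ x : G, g * (g⁻¹ * x * g) * g⁻¹ = x := fun x => by group
    rwa [e, e] at this
  have hroot' : ∀ x ∈ RR (g * t * g⁻¹) (K.map (MulAut.conj g).toMonoidHom),
      ∀ y ∈ RR (g * t * g⁻¹) (K.map (MulAut.conj g).toMonoidHom), x * x = g * t * g⁻¹ → y * y = g * t * g⁻¹ →
      y = x ∨ y = x * (g * t * g⁻¹) := by
    intro x hx y hy hxx hyy
    rw [mem_RR_conj] at hx hy
    have hsq : ∀ x : G, x * x = g * t * g⁻¹ → g⁻¹ * x * g * (g⁻¹ * x * g) = t := by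
      intro x hx
      calc g⁻¹ * x * g * (g⁻¹ * x * g) = g⁻¹ * (x * x) * g := by group
        _ = t := by rw [hx]; group
    rcases hroot _ hx _ hy (hsq x hxx) (hsq y hyy) with h | h
    · left
      calc y = g * (g⁻¹ * y * g) * g⁻¹ := by group
        _ = x := by rw [h]; group
    · right
      calc y = g * (g⁻¹ * y * g) * g⁻¹ := by group
        _ = x * (g * t * g⁻¹) := by rw [h]; group
  have P' : KFact (K.map (MulAut.conj g).toMonoidHom) :=
    P.congr (K.equivMapOfInjective _ (MulAut.conj g).injective)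
  set s := g * t * g⁻¹ with hs
  set L := K.map (MulAut.conj g).toMonoidHom with hL
  obtain ⟨r1, hr1, hr1s⟩ := F'.four
  have hr1R : r1 ∈ RR s L := mem_RR.2 ⟨by rw [← hr1s, mul_assoc], hr1⟩
  obtain ⟨ht, hrn, h, hhL, hht, hhr⟩ := F.half F' hst hne hidx hab P' hr hrt hsr
  have htr1 : t * r1 = r1 * t := ht.comm hr1R hab'
  obtain ⟨hs', hrn1, h1, hhK, hhs, hhr1⟩ := F'.half F hst.symm (Ne.symm hne) hidx' hab' P hr1R hr1s htr1
  -- `r1` inverts `r` and `r` inverts `r1`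
  have e1 := F.inverts hidx hab hroot hr hrt htr1.symm hrn1 hht hhr
  have e2 := F'.inverts hidx' hab' hroot' hr1R hr1s hsr.symm hrn hhs hhr1
  have e1' : r1 * r = r * t * r1 := mul_inv_eq_iff_eq_mul.1 e1
  have e2' : r * r1 = r1 * s * r := mul_inv_eq_iff_eq_mul.1 e2
  apply hne
  have e3 : r1 * r = r1 * r * (s * t) := by
    calc r1 * r = r * (t * r1) := by rw [e1']; group
      _ = (r * r1) * t := by rw [htr1]; group
      _ = r1 * (s * r) * t := by rw [e2']; group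
      _ = r1 * r * (s * t) := by rw [hsr]; group
  have e4 : s * t = 1 := by
    have := mul_left_cancel (a := r1 * r) (b := s * t) (c := 1) (by rw [← e3, mul_one])
    exact this
  calc s = s * (t * t) := by rw [F.tt, mul_one]
    _ = t := by rw [← mul_assoc, e4, one_mul]

end Cfsg.Agent.OddHalf.UQ4
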