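import Mathlib
import Cfsg.Agent.OddHalf.UQ4
import Cfsg.Agent.StandardComponent.AltAut

/-!
# Centralizers of order at least 4: the alternating groups of degree at least 7
-/

set_option autoImplicit false

namespace Cfsg.Agent.OddHalf.UQ4

open Subgroup Equiv

theorem exists_notMem {n : ℕ} (S : Finset (Fin n)) (h : S.card < n) : ∃ g, g ∉ S := by
  by_contra hcon
  push Not at hcon
  have : S = Finset.univ := Finset.eq_univ_of_forall hcon
  rw [this, Finset.card_univ, Fintype.card_fin] at h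
  exact lt_irrefl _ h

theorem sq_of_three {n : ℕ} {a b c : Fin n} (ab : a ≠ b) (ac : a ≠ c) (bc : b ≠ c) :
    (swap a b * swap a c) * (swap a b * swap a c) * ((swap a b * swap a c) * (swap a b * swap a c)) =
      swap a b * swap a c := by
  have h := (Perm.isThreeCycle_swap_mul_swap_same ab ac bc).orderOf
  have h2 : (swap a b * swap a c) ^ 3 = 1 := by rw [← h]; exact pow_orderOf_eq_one _
  set τ := swap a b * swap a c
  calc τ * τ * (τ * τ) = τ ^ 3 * τ := by rw [pow_succ, pow_two]; simp only [mul_assoc]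
    _ = τ := by rw [h2, one_mul]

theorem semi_swap {n : ℕ} {ρ : Perm (Fin n)} {x y x' y' : Fin n} (hx : ρ x = x') (hy : ρ y = y') :
    SemiconjBy ρ (swap x y) (swap x' y') := by
  show ρ * swap x y = swap x' y' * ρ
  rw [Equiv.mul_swap_eq_swap_mul, hx, hy]

theorem swap_comm' {n : ℕ} {x y z t : Fin n} (h : [x, y, z, t].Nodup) : Commute (swap x y) (swap z t) :=
  (Perm.disjoint_swap_swap h).commute

theorem alg {M : Type*} [Group M] {α β : M} (h : Commute α β) (h1 : α * α * (α * α) = α)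
    (h2 : β * β * (β * β) = β) : (α * α * (β * β)) * (α * α * (β * β)) = α * β := by
  have hc2 : Commute (α * α) (β * β) := (h.mul_right h).mul_left (h.mul_right h)
  calc α * α * (β * β) * (α * α * (β * β)) = α * α * ((β * β) * (α * α)) * (β * β) := by group
    _ = α * α * ((α * α) * (β * β)) * (β * β) := by rw [hc2.eq]
    _ = (α * α * (α * α)) * (β * β * (β * β)) := by group
    _ = α * β := by rw [h1, h2]

theorem four_cycle {n : ℕ} (hn : 7 ≤ n) (σ : Perm (Fin n)) (h2 : ∃ a, σ (σ a) ≠ a)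
    (h4 : ∀ a, σ (σ (σ (σ a))) = a)
    (H : ∀ τ : Perm (Fin n), Perm.sign τ = 1 → τ * (σ * σ) = σ * σ * τ → τ * τ * σ = σ * (τ * τ)) :
    Perm.sign σ = -1 ∧ ∃ τ : Perm (Fin n), Perm.sign τ = 1 ∧ τ * (σ * σ) = σ * σ * τ ∧ τ * σ ≠ σ * τ := by
  classical
  obtain ⟨a, ha⟩ := h2
  obtain ⟨b, hb⟩ : ∃ b, σ a = b := ⟨_, rfl⟩
  obtain ⟨c, hc⟩ : ∃ c, σ b = c := ⟨_, rfl⟩
  obtain ⟨d, hd⟩ : ∃ d, σ c = d := ⟨_, rfl⟩
  have hda : σ d = a := by rw [← hd, ← hc, ← hb]; exact h4 a
  have hca : c ≠ a := by rw [← hc, ← hb]; exact ha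
  have hba : b ≠ a := by
    intro h
    apply hca
    rw [← hc, h, hb, h]
  have hcb : c ≠ b := fun h => hba (σ.injective (by rw [hc, hb, h]))
  have hdc : d ≠ c := fun h => hcb (σ.injective (by rw [hd, hc, h]))
  have hdb : d ≠ b := fun h => hca (σ.injective (by rw [hd, hb, h]))
  have had : a ≠ d := fun h => hdc (σ.injective (by rw [hda, hd, h]))
  have hρa : (σ * σ) a = c := by rw [Perm.mul_apply, hb, hc]
  have hρb : (σ * σ) b = d := by rw [Perm.mul_apply, hc, hd]
  have hρc : (σ * σ) c = a := by rw [Perm.mul_apply, hd, hda]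
  have hρd : (σ * σ) d = b := by rw [Perm.mul_apply, hda, hb]
  -- no second 4-cycle
  have claim2 : ∀ e, e ≠ a → e ≠ b → e ≠ c → e ≠ d → σ (σ e) = e := by
    intro e ea eb ec ed
    by_contra he
    obtain ⟨f, hf⟩ : ∃ f, σ e = f := ⟨_, rfl⟩
    obtain ⟨g, hg⟩ : ∃ g, σ f = g := ⟨_, rfl⟩
    have hge : g ≠ e := by rw [← hg, ← hf]; exact he
    have hfe : f ≠ e := by
      intro h
      apply hge
      rw [← hg, h, hf, h]
    have hgf : g ≠ f := fun h => hfe (σ.injective (by rw [hg, hf, h]))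
    have fa : f ≠ a := fun h => ed (σ.injective (by rw [hf, hda, h]))
    have fb : f ≠ b := fun h => ea (σ.injective (by rw [hf, hb, h]))
    have fc : f ≠ c := fun h => eb (σ.injective (by rw [hf, hc, h]))
    have fd : f ≠ d := fun h => ec (σ.injective (by rw [hf, hd, h]))
    have ga : g ≠ a := fun h => fd (σ.injective (by rw [hg, hda, h]))
    have gb : g ≠ b := fun h => fa (σ.injective (by rw [hg, hb, h]))
    have gc : g ≠ c := fun h => fb (σ.injective (by rw [hg, hc, h]))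
    have gd : g ≠ d := fun h => fc (σ.injective (by rw [hg, hd, h]))
    have hρe : (σ * σ) e = g := by rw [Perm.mul_apply, hf, hg]
    have hρg : (σ * σ) g = e := by rw [Perm.mul_apply, ← hg, ← hf, h4]
    have hcomm : Commute (swap a b * swap a e) (swap c d * swap c g) := by
      have c1 : Commute (swap a b) (swap c d) := swap_comm' (by simp; tauto)
      have c2 : Commute (swap a b) (swap c g) := swap_comm' (by simp; tauto)
      have c3 : Commute (swap a e) (swap c d) := swap_comm' (by simp; tauto)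
      have c4 : Commute (swap a e) (swap c g) := swap_comm' (by simp; tauto)
      exact (c1.mul_right c2).mul_left (c3.mul_right c4)
    have e1 : SemiconjBy (σ * σ) (swap a b * swap a e) (swap c d * swap c g) :=
      SemiconjBy.mul_right (semi_swap hρa hρb) (semi_swap hρa hρe)
    have e2 : SemiconjBy (σ * σ) (swap c d * swap c g) (swap a b * swap a e) :=
      SemiconjBy.mul_right (semi_swap hρc hρd) (semi_swap hρc hρg)
    have e3 := (e1.mul_right e1).mul_right (e2.mul_right e2)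
    have e4 : Commute ((swap a b * swap a e) * (swap a b * swap a e))
        ((swap c d * swap c g) * (swap c d * swap c g)) :=
      (hcomm.mul_right hcomm).mul_left (hcomm.mul_right hcomm)
    have hτ := H ((swap a b * swap a e) * (swap a b * swap a e) *
        ((swap c d * swap c g) * (swap c d * swap c g))) (by
      simp only [Perm.sign_mul, Perm.sign_swap hba.symm, Perm.sign_swap ea.symm, Perm.sign_swap hdc.symm,
        Perm.sign_swap gc.symm]
      rfl) (by
      rw [e3.eq, e4.eq])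
    rw [alg hcomm (sq_of_three hba.symm ea.symm eb.symm) (sq_of_three hdc.symm gc.symm gd.symm)] at hτ
    have h5 := DFunLike.congr_fun hτ f
    have k1 : (swap c d * swap c g) f = f := by
      rw [Perm.mul_apply, swap_apply_of_ne_of_ne fc (Ne.symm hgf), swap_apply_of_ne_of_ne fc fd]
    have k2 : (swap a b * swap a e) f = f := by
      rw [Perm.mul_apply, swap_apply_of_ne_of_ne fa hfe, swap_apply_of_ne_of_ne fa fb]
    have k3 : (swap c d * swap c g) g = d := by
      rw [Perm.mul_apply, swap_apply_right, swap_apply_left]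
    have k4 : (swap a b * swap a e) d = d := by
      rw [Perm.mul_apply, swap_apply_of_ne_of_ne had.symm (Ne.symm ed), swap_apply_of_ne_of_ne had.symm hdb]
    rw [Perm.mul_apply, hg, Perm.mul_apply, k3, k4, Perm.mul_apply, Perm.mul_apply, k1, k2, hg] at h5
    exact gd h5.symm
  -- no transposition
  have claim1 : ∀ e, e ≠ a → e ≠ b → e ≠ c → e ≠ d → σ e = e := by
    intro e ea eb ec ed
    by_contra he
    obtain ⟨f, hf⟩ : ∃ f, σ e = f := ⟨_, rfl⟩
    have hfe : f ≠ e := fun h => he (by rw [hf, h])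
    have hσf : σ f = e := by rw [← hf]; exact claim2 e ea eb ec ed
    have fa : f ≠ a := fun h => ed (σ.injective (by rw [hf, hda, h]))
    have fb : f ≠ b := fun h => ea (σ.injective (by rw [hf, hb, h]))
    have fc : f ≠ c := fun h => eb (σ.injective (by rw [hf, hc, h]))
    have fd : f ≠ d := fun h => ec (σ.injective (by rw [hf, hd, h]))
    obtain ⟨g, hg⟩ := exists_notMem ({a, b, c, d, e, f} : Finset (Fin n)) (lt_of_le_of_lt Finset.card_le_six (by omega))
    simp only [Finset.mem_insert, Finset.mem_singleton, not_or] at hg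
    obtain ⟨ga, gb, gc, gd, ge, gf⟩ := hg
    have hρe : (σ * σ) e = e := by rw [Perm.mul_apply, hf, hσf]
    have hρf : (σ * σ) f = f := by rw [Perm.mul_apply, hσf, hf]
    have hρg : (σ * σ) g = g := by rw [Perm.mul_apply]; exact claim2 g ga gb gc gd
    have e1 : SemiconjBy (σ * σ) (swap e f * swap e g) (swap e f * swap e g) :=
      SemiconjBy.mul_right (semi_swap hρe hρf) (semi_swap hρe hρg)
    have hτ := H ((swap e f * swap e g) * (swap e f * swap e g)) (by
      simp only [Perm.sign_mul, Perm.sign_swap (Ne.symm hfe), Perm.sign_swap (Ne.symm ge)]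
      rfl) (e1.mul_right e1).eq.symm
    rw [sq_of_three hfe.symm (Ne.symm ge) (Ne.symm gf)] at hτ
    have h5 := DFunLike.congr_fun hτ e
    have k1 : (swap e f * swap e g) f = e := by
      rw [Perm.mul_apply, swap_apply_of_ne_of_ne hfe (Ne.symm gf), swap_apply_right]
    have k2 : (swap e f * swap e g) e = g := by
      rw [Perm.mul_apply, swap_apply_left, swap_apply_of_ne_of_ne ge gf]
    rw [Perm.mul_apply, hf, k1, Perm.mul_apply, k2] at h5
    apply gf
    apply σ.injective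
    rw [← h5, hσf]
  constructor
  · -- `σ` is a 4-cycle
    have hσ : σ = swap a b * (swap b c * swap c d) := by
      ext x
      congr 1
      by_cases xa : x = a
      · subst xa
        rw [Perm.mul_apply, Perm.mul_apply, swap_apply_of_ne_of_ne (Ne.symm hca) had,
          swap_apply_of_ne_of_ne hba.symm hca.symm, swap_apply_left, hb]
      by_cases xb : x = b
      · subst xb
        rw [Perm.mul_apply, Perm.mul_apply, swap_apply_of_ne_of_ne (Ne.symm hcb) (Ne.symm hdb),
          swap_apply_left, swap_apply_of_ne_of_ne hca hcb, hc]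
      by_cases xc : x = c
      · subst xc
        rw [Perm.mul_apply, Perm.mul_apply, swap_apply_left, swap_apply_of_ne_of_ne hdb hdc,
          swap_apply_of_ne_of_ne had.symm hdb, hd]
      by_cases xd : x = d
      · subst xd
        rw [Perm.mul_apply, Perm.mul_apply, swap_apply_right, swap_apply_right, swap_apply_right, hda]
      · rw [Perm.mul_apply, Perm.mul_apply, swap_apply_of_ne_of_ne xc xd, swap_apply_of_ne_of_ne xb xc,
          swap_apply_of_ne_of_ne xa xb, claim1 x xa xb xc xd]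
    rw [hσ, Perm.sign_mul, Perm.sign_mul, Perm.sign_swap hba.symm, Perm.sign_swap hcb.symm, Perm.sign_swap hdc.symm]
    rfl
  · obtain ⟨e, he⟩ := exists_notMem ({a, b, c, d} : Finset (Fin n)) (lt_of_le_of_lt Finset.card_le_four (by omega))
    obtain ⟨f, hf⟩ := exists_notMem ({a, b, c, d, e} : Finset (Fin n)) (lt_of_le_of_lt Finset.card_le_five (by omega))
    simp only [Finset.mem_insert, Finset.mem_singleton, not_or] at he hf
    obtain ⟨ea, eb, ec, ed⟩ := he
    obtain ⟨fa, fb, fc, fd, fe⟩ := hf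
    have hρe : (σ * σ) e = e := by rw [Perm.mul_apply, claim1 e ea eb ec ed, claim1 e ea eb ec ed]
    have hρf : (σ * σ) f = f := by rw [Perm.mul_apply, claim1 f fa fb fc fd, claim1 f fa fb fc fd]
    refine ⟨swap a c * swap e f, ?_, ?_, ?_⟩
    · rw [Perm.sign_mul, Perm.sign_swap hca.symm, Perm.sign_swap (Ne.symm fe)]
      rfl
    · have e1 : SemiconjBy (σ * σ) (swap a c * swap e f) (swap c a * swap e f) :=
        SemiconjBy.mul_right (semi_swap hρa hρc) (semi_swap hρe hρf)
      rw [e1.eq, swap_comm c a]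
    · intro h
      have h5 := DFunLike.congr_fun h a
      rw [Perm.mul_apply, Perm.mul_apply, Perm.mul_apply, Perm.mul_apply, hb,
        swap_apply_of_ne_of_ne (Ne.symm eb) (Ne.symm fb), swap_apply_of_ne_of_ne hba (Ne.symm hcb),
        swap_apply_of_ne_of_ne (Ne.symm ea) (Ne.symm fa), swap_apply_left, hd] at h5
      exact hdb h5.symm

/-- The alternating groups of degree at least 7. -/
theorem kfact_alt {n : ℕ} (hn : 7 ≤ n) : KFact (alternatingGroup (Fin n)) := by
  classical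
  intro α h1 h2 h3
  obtain ⟨ψ, hψ⟩ := StandardComponent.AltAut.exists_autHom n hn
  have hmem : ∀ x : Perm (Fin n), x ∈ alternatingGroup (Fin n) ↔ Perm.sign x = 1 := fun x =>
    Perm.mem_alternatingGroup
  -- `α² = conj σ²`
  have hα2 : ∀ x : alternatingGroup (Fin n), ((α (α x) : alternatingGroup (Fin n)) : Perm (Fin n)) =
      (ψ α * ψ α) * x * (ψ α * ψ α)⁻¹ := by
    intro x
    rw [hψ, hψ, mul_inv_rev]
    simp only [mul_assoc]
  have hψ1 : ∀ β : MulAut (alternatingGroup (Fin n)), (∀ x, β x = x) → ψ β = 1 := by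
    intro β hβ
    have : β = 1 := MulEquiv.ext hβ
    rw [this, map_one]
  have h4 : ψ α * ψ α * (ψ α * ψ α) = 1 := by
    rw [← map_mul, ← map_mul]
    exact hψ1 _ h2
  obtain ⟨hs, τ, hτ1, hτ2, hτ3⟩ := four_cycle hn (ψ α) (by
    by_contra hcon
    push Not at hcon
    obtain ⟨x, hx⟩ := h1
    apply hx
    apply Subtype.ext
    have h5 : ψ α * ψ α = 1 := Equiv.ext hcon
    rw [hα2, h5, one_mul, inv_one, mul_one]) (by
    intro a
    exact DFunLike.congr_fun h4 a) (by
    intro τ hτ1 hτ2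
    have h5 := h3 ⟨τ, (hmem τ).2 hτ1⟩ (by
      apply Subtype.ext
      rw [hα2]
      show ψ α * ψ α * τ * (ψ α * ψ α)⁻¹ = τ
      rw [← hτ2]
      group)
    have h6 := congrArg Subtype.val h5
    rw [hψ] at h6
    exact (mul_inv_eq_iff_eq_mul.1 h6).symm)
  refine ⟨⟨⟨ψ α * ψ α, ?_⟩, ?_⟩, ?_, ⟨τ, (hmem τ).2 hτ1⟩, ?_, ?_⟩
  · rw [hmem, Perm.sign_mul, hs]
    rfl
  · intro h
    apply Subtype.ext
    rw [hα2]
    rfl
  · rintro ⟨y, hy⟩
    have h5 : ψ α = (y : Perm (Fin n)) := by
      obtain ⟨m, rfl⟩ : ∃ m, n = m + 2 := ⟨n - 2, by omega⟩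
      apply StandardComponent.AltAut.conj_unique (m := m) (by omega)
      intro x
      have h6 := congrArg Subtype.val (hy x)
      rw [hψ] at h6
      exact h6
    have h7 := (hmem _).1 y.2
    rw [← h5, hs] at h7
    exact absurd h7 (by decide)
  · apply Subtype.ext
    rw [hα2]
    show ψ α * ψ α * τ * (ψ α * ψ α)⁻¹ = τ
    rw [← hτ2]
    group
  · intro h
    apply hτ3
    have h6 := congrArg Subtype.val h
    rw [hψ] at h6
    exact (mul_inv_eq_iff_eq_mul.1 h6).symm

/-- `Aut(A_n)/A_n` has order at most 2. -/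
def OutTwo (X : Type*) [Group X] : Prop := ∀ α β : MulAut X, (¬ ∃ y : X, ∀ h, α h = y * h * y⁻¹) →
  (¬ ∃ y : X, ∀ h, β h = y * h * y⁻¹) → ∃ y : X, ∀ h, (α⁻¹ * β) h = y * h * y⁻¹

theorem OutTwo.congr {X Y : Type*} [Group X] [Group Y] (e : X ≃* Y) (h : OutTwo X) : OutTwo Y := by
  intro α β h1 h2
  have key : ∀ γ : MulAut Y, (∃ y : X, ∀ h, (MulAut.congr e.symm γ) h = y * h * y⁻¹) ↔
      ∃ y : Y, ∀ h, γ h = y * h * y⁻¹ := by
    intro γ
    have hγ : ∀ x, (MulAut.congr e.symm γ) x = e.symm (γ (e x)) := fun x => rfl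
    constructor
    · rintro ⟨y, hy⟩
      refine ⟨e y, fun x => ?_⟩
      have h3 := hy (e.symm x)
      rw [hγ, e.apply_symm_apply] at h3
      rw [← e.apply_symm_apply (γ x), h3, map_mul, map_mul, map_inv, e.apply_symm_apply]
    · rintro ⟨y, hy⟩
      refine ⟨e.symm y, fun x => ?_⟩
      rw [hγ, hy, map_mul, map_mul, map_inv, e.symm_apply_apply]
  have h3 := h (MulAut.congr e.symm α) (MulAut.congr e.symm β) (fun hh => h1 ((key α).1 hh))
    (fun hh => h2 ((key β).1 hh))
  rw [← map_inv, ← map_mul] at h3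
  exact (key _).1 h3

theorem outTwo_alt {n : ℕ} (hn : 7 ≤ n) : OutTwo (alternatingGroup (Fin n)) := by
  classical
  intro α β h1 h2
  obtain ⟨ψ, hψ⟩ := StandardComponent.AltAut.exists_autHom n hn
  have hmem : ∀ x : Perm (Fin n), x ∈ alternatingGroup (Fin n) ↔ Perm.sign x = 1 := fun x =>
    Perm.mem_alternatingGroup
  have key : ∀ γ : MulAut (alternatingGroup (Fin n)), Perm.sign (ψ γ) = 1 →
      ∃ y : alternatingGroup (Fin n), ∀ h, γ h = y * h * y⁻¹ := by
    intro γ hγ
    exact ⟨⟨ψ γ, (hmem _).2 hγ⟩, fun h => Subtype.ext (hψ γ h)⟩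
  have hneg : ∀ γ : MulAut (alternatingGroup (Fin n)),
      (¬ ∃ y : alternatingGroup (Fin n), ∀ h, γ h = y * h * y⁻¹) → Perm.sign (ψ γ) = -1 := by
    intro γ hγ
    rcases Int.units_eq_one_or (Perm.sign (ψ γ)) with h | h
    · exact absurd (key γ h) hγ
    · exact h
  apply key
  rw [map_mul, map_inv, Perm.sign_mul, Perm.sign_inv, hneg α h1, hneg β h2]
  rfl

variable {G : Type*} [Group G] {t : G} {K : Subgroup G}

theorem Fr.inRK_iff (F : Fr t K) {x : G} (hx : x * t = t * x) :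
    InRK t K x ↔ ∃ y : K, ∀ h, F.conjAut x hx h = y * h * y⁻¹ := by
  constructor
  · rintro ⟨k, hk, h⟩
    refine ⟨⟨k, hk⟩, fun z => Subtype.ext ?_⟩
    show x * (z : G) * x⁻¹ = k * z * k⁻¹
    have h1 := (mem_RR.1 h).2 (k * z * k⁻¹) (K.mul_mem (K.mul_mem hk z.2) (K.inv_mem hk))
    calc x * (z : G) * x⁻¹ = x * k⁻¹ * (k * z * k⁻¹) * (x * k⁻¹)⁻¹ := by group
      _ = k * z * k⁻¹ := by rw [h1]; group
  · rintro ⟨k, hk⟩
    refine ⟨k, k.2, mem_RR.2 ⟨?_, ?_⟩⟩
    · have h1 := F.le _ (K.inv_mem k.2)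
      calc x * (k : G)⁻¹ * t = x * (t * (k : G)⁻¹) := by rw [h1]; group
        _ = x * t * (k : G)⁻¹ := by group
        _ = t * (x * (k : G)⁻¹) := by rw [hx]; group
    · intro z hz
      have h0 := congrArg Subtype.val (hk (k⁻¹ * (⟨z, hz⟩ : K) * k))
      have h1 : x * ((k : G)⁻¹ * z * k) * x⁻¹ = z := by
        refine Eq.trans (b := (k : G) * ((k : G)⁻¹ * z * k) * (k : G)⁻¹) h0 ?_
        group
      calc x * (k : G)⁻¹ * z = x * ((k : G)⁻¹ * z * k) * x⁻¹ * (x * (k : G)⁻¹) := by group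
        _ = z * (x * (k : G)⁻¹) := by rw [h1]

theorem Fr.idx (F : Fr t K) (h : OutTwo K) (x y : G) (hx : x * t = t * x) (hy : y * t = t * y)
    (h1 : ¬ InRK t K x) (h2 : ¬ InRK t K y) : InRK t K (x⁻¹ * y) := by
  rw [F.inRK_iff hx] at h1
  rw [F.inRK_iff hy] at h2
  have hx' : x⁻¹ * t = t * x⁻¹ := by
    calc x⁻¹ * t = x⁻¹ * (t * x) * x⁻¹ := by group
      _ = t * x⁻¹ := by rw [← hx]; group
  have hxy : x⁻¹ * y * t = t * (x⁻¹ * y) := by
    calc x⁻¹ * y * t = x⁻¹ * (y * t) := by group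
      _ = x⁻¹ * t * y := by rw [hy]; group
      _ = t * (x⁻¹ * y) := by rw [hx']; group
  rw [F.inRK_iff hxy]
  obtain ⟨z, hz⟩ := h _ _ h1 h2
  refine ⟨z, fun w => ?_⟩
  rw [← hz]
  apply Subtype.ext
  show x⁻¹ * y * (w : G) * (x⁻¹ * y)⁻¹ = x⁻¹ * (y * w * y⁻¹) * x
  group

/-- **`|R| ≥ 4` is impossible** if `R` is cyclic, `|Out K| ≤ 2` and `K` satisfies `KFact`. -/
theorem Fr.main_out [Finite G] (F : Fr t K)
    (hz : ∃ g : G, g * t * g⁻¹ ≠ t ∧ g * t * g⁻¹ * t = t * (g * t * g⁻¹))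
    (hR : IsCyclic ↥(RR t K)) (O : OutTwo K) (P : KFact K) : False := by
  classical
  have hab : ∀ x ∈ RR t K, ∀ y ∈ RR t K, x * y = y * x := by
    intro x hx y hy
    letI := hR.commGroup
    exact congrArg Subtype.val (mul_comm (⟨x, hx⟩ : RR t K) ⟨y, hy⟩)
  refine F.main hz (F.idx O) hab ?_ P
  intro x hx y hy hxx hyy
  have h1 : (x⁻¹ * y) * (x⁻¹ * y) = 1 := by
    calc (x⁻¹ * y) * (x⁻¹ * y) = x⁻¹ * (y * x⁻¹) * y := by group
      _ = x⁻¹ * (x⁻¹ * y) * y := by rw [hab y hy _ (inv_mem hx)]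
      _ = (x * x)⁻¹ * (y * y) := by group
      _ = 1 := by rw [hxx, hyy]; group
  have h2 := mem_RR.1 (mul_mem (inv_mem hx) hy)
  rcases F.uni _ h2.1 h2.2 h1 with h | h
  · left
    calc y = x * (x⁻¹ * y) := by group
      _ = x := by rw [h, mul_one]
  · right
    calc y = x * (x⁻¹ * y) := by group
      _ = x * t := by rw [h]

/-- **`|R| ≥ 4` is impossible** for `K = A_n`, `n ≥ 7`. -/
theorem Fr.main_alt [Finite G] (F : Fr t K)
    (hz : ∃ g : G, g * t * g⁻¹ ≠ t ∧ g * t * g⁻¹ * t = t * (g * t * g⁻¹))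
    (hR : IsCyclic ↥(RR t K)) {n : ℕ} (hn : 7 ≤ n) (e : K ≃* alternatingGroup (Fin n)) : False :=
  F.main_out hz hR ((outTwo_alt hn).congr e.symm) ((kfact_alt hn).congr e.symm)

end Cfsg.Agent.OddHalf.UQ4
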