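import Cfsg.Agent.SylowSp4.ExtTransfer
import Cfsg.Agent.Transfer.FrobeniusFusion

/-!
# ODD half, D8: an involution `t` with `Ω₁Z(T) = ⟨t, z⟩`, `T` Sylow in `C(t)` (helper915)

`Frame t z T`: `T` is a Sylow 2-subgroup of `C_G(t)`, the involutions of `Z(T)` are `t, z, tz`, and every
element normalising `⟨t, z⟩` centralises `z`.

If `G` has no subgroup of index 2 and some `λ : T → {±1}` has `λ t = -1`, then (`Frame.main`): `T` is not
a Sylow subgroup of `G`; for every Sylow subgroup `S ≥ T`: some `x ∈ S` normalises `T`, `t^x = tz`,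
`z^x = z`, `z ∈ Z(S)`, `z` is not conjugate to `t`, and (**TR**) every homomorphism
`C_G(z) → {±1}` maps `t` to `1`.
-/

set_option autoImplicit false

namespace Cfsg.Agent.OddHalf.TR

open Subgroup

variable {G : Type*} [Group G]

/-- the frame -/
structure Frame (t z : G) (T : Subgroup G) : Prop where
  tt : t * t = 1
  zz : z * z = 1
  t1 : t ≠ 1
  z1 : z ≠ 1
  ne : z ≠ t
  pT : IsPGroup 2 T
  tT : t ∈ T
  tc : ∀ x ∈ T, x * t = t * x
  zT : z ∈ T
  zc : ∀ x ∈ T, x * z = z * x
  /-- `T` is a Sylow subgroup of `C(t)` -/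
  max : ∀ P : Subgroup G, IsPGroup 2 P → T ≤ P → (∀ x ∈ P, x * t = t * x) → P ≤ T
  om : ∀ y ∈ T, (∀ x ∈ T, x * y = y * x) → y * y = 1 → y = 1 ∨ y = t ∨ y = z ∨ y = t * z
  /-- `z` is isolated in `⟨t, z⟩` -/
  iso : ∀ g : G, (g * t * g⁻¹ = t ∨ g * t * g⁻¹ = z ∨ g * t * g⁻¹ = t * z) →
    (g * z * g⁻¹ = t ∨ g * z * g⁻¹ = z ∨ g * z * g⁻¹ = t * z) → g * z * g⁻¹ = z

namespace Frame

variable {t z : G} {T : Subgroup G}

theorem comm (F : Frame t z T) : t * z = z * t := F.zc t F.tT

theorem tz_mem (F : Frame t z T) : t * z ∈ T := T.mul_mem F.tT F.zT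

theorem conj_ne_one {x c : G} (hc : c ≠ 1) : x * c * x⁻¹ ≠ 1 := by
  intro h1
  apply hc
  rw [mul_inv_eq_one] at h1
  exact mul_eq_left.1 h1

theorem conj_inj {x c d : G} (h : x * c * x⁻¹ = x * d * x⁻¹) : c = d :=
  mul_left_cancel (mul_right_cancel h)

/-- an element normalising `T` fixes `z` and maps `t` to `t` or `tz` -/
theorem act (F : Frame t z T) {x : G} (hx : x ∈ normalizer (T : Set G)) :
    x * z * x⁻¹ = z ∧ (x * t * x⁻¹ = t ∨ x * t * x⁻¹ = t * z) := by
  have hcen : ∀ c ∈ T, (∀ y ∈ T, y * c = c * y) → ∀ y ∈ T, y * (x * c * x⁻¹) = x * c * x⁻¹ * y := by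
    intro c _ hc y hy
    have h0 : x⁻¹ * y * x ∈ T := by
      have := (mem_normalizer_iff.1 hx (x⁻¹ * y * x)).2
      apply this
      have e : x * (x⁻¹ * y * x) * x⁻¹ = y := by group
      rw [e]; exact hy
    have h1 := hc _ h0
    calc y * (x * c * x⁻¹) = x * (x⁻¹ * y * x * c) * x⁻¹ := by group
      _ = x * (c * (x⁻¹ * y * x)) * x⁻¹ := by rw [h1]
      _ = x * c * x⁻¹ * y := by group
  have hsq : ∀ c : G, c * c = 1 → x * c * x⁻¹ * (x * c * x⁻¹) = 1 := by
    intro c hc
    calc x * c * x⁻¹ * (x * c * x⁻¹) = x * (c * c) * x⁻¹ := by group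
      _ = 1 := by rw [hc]; group
  have ht := F.om _ ((mem_normalizer_iff.1 hx t).1 F.tT) (hcen t F.tT F.tc) (hsq t F.tt)
  have hz := F.om _ ((mem_normalizer_iff.1 hx z).1 F.zT) (hcen z F.zT F.zc) (hsq z F.zz)
  have ht' := ht.resolve_left (conj_ne_one F.t1)
  have hz' := hz.resolve_left (conj_ne_one F.z1)
  have h1 := F.iso x ht' hz'
  refine ⟨h1, ?_⟩
  rcases ht' with h2 | h2 | h2
  · exact Or.inl h2
  · exact absurd (conj_inj (h1.trans h2.symm)) F.ne
  · exact Or.inr h2

/-- a 2-element commuting with `t` that normalises `T` lies in `T` -/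
theorem mem_of_normalizer (F : Frame t z T) {x : G} (hx : x ∈ normalizer (T : Set G))
    (hp : IsPGroup 2 (zpowers x)) (hxt : x * t = t * x) : x ∈ T := by
  have hle : zpowers x ≤ normalizer (T : Set G) := by
    rw [zpowers_le]; exact hx
  have h1 : IsPGroup 2 ((zpowers x ⊔ T : Subgroup G)) := hp.to_sup_of_normal_right' F.pT hle
  have h2 : ∀ y ∈ zpowers x ⊔ T, y * t = t * y := by
    have : zpowers x ⊔ T ≤ centralizer ({t} : Set G) := by
      rw [sup_le_iff, zpowers_le]
      exact ⟨mem_centralizer_singleton_iff.2 hxt, fun y hy =>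
        mem_centralizer_singleton_iff.2 (F.tc y hy)⟩
    intro y hy
    exact mem_centralizer_singleton_iff.1 (this hy)
  exact F.max _ h1 le_sup_right h2 ((le_sup_left : zpowers x ≤ _) (mem_zpowers x))

theorem isPGroup_zpowers {y : G} (h : y * y = 1) : IsPGroup 2 (zpowers y) := by
  rintro ⟨a, ha⟩
  obtain ⟨i, rfl⟩ := mem_zpowers_iff.1 ha
  refine ⟨1, Subtype.ext ?_⟩
  show (y ^ i) ^ (2 ^ 1) = 1
  rw [pow_one, pow_two, ← zpow_add, ← two_mul, zpow_mul]
  have : y ^ (2 : ℤ) = 1 := by
    rw [show (2 : ℤ) = 1 + 1 by norm_num, zpow_add, zpow_one, h]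
  rw [this, one_zpow]

/-- no homomorphism to `{±1}` if there is no subgroup of index 2 -/
theorem hom_eq_one (hG : ∀ H : Subgroup G, H.index ≠ 2) (f : G →* ℤˣ) (u : G) : f u = 1 := by
  by_contra hu
  have hsurj : Function.Surjective f := by
    intro y
    rcases Int.units_eq_one_or y with h | h
    · exact ⟨1, by rw [map_one, h]⟩
    · refine ⟨u, ?_⟩
      rw [h]
      exact (Int.units_eq_one_or (f u)).resolve_left hu
  apply hG f.ker
  rw [index_ker, MonoidHom.range_eq_top.2 hsurj, Nat.card_congr topEquiv.toEquiv]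
  rw [Nat.card_eq_fintype_card]
  rfl

theorem relIndex_ker {P : Subgroup G} (mu : P →* ℤˣ) {u : P} (hu : mu u = -1) :
    (mu.ker.map P.subtype).relIndex P = 2 := by
  have h1 : (mu.ker.map P.subtype).relIndex P = mu.ker.index := by
    rw [relIndex, subgroupOf, comap_map_eq_self_of_injective P.subtype_injective]
  rw [h1, index_ker]
  have hsurj : Function.Surjective mu := by
    intro y
    rcases Int.units_eq_one_or y with h | h
    · exact ⟨1, by rw [map_one, h]⟩
    · exact ⟨u, by rw [hu, h]⟩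
  rw [MonoidHom.range_eq_top.2 hsurj, Nat.card_congr topEquiv.toEquiv, Nat.card_eq_fintype_card]
  rfl

/-- **Step 1**: `T` is not a Sylow subgroup of `G`. -/
theorem not_sylow [Finite G] (F : Frame t z T) (hG : ∀ H : Subgroup G, H.index ≠ 2)
    (lam : T →* ℤˣ) (hlam : lam ⟨t, F.tT⟩ = -1) (S : Sylow 2 G) : (S : Subgroup G) ≠ T := by
  intro hST
  set M : Subgroup G := lam.ker.map T.subtype with hM
  have hMT : M ≤ T := by
    rintro _ ⟨y, -, rfl⟩
    exact y.2
  have hidx : M.relIndex (S : Subgroup G) = 2 := by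
    rw [hST]
    exact relIndex_ker lam hlam
  obtain ⟨g, hg1, hg2⟩ := Cfsg.Agent.SylowSp4.ExtTransfer.exists_extremal S M (by rw [hST]; exact hMT)
    hidx t F.tt (fun f => hom_eq_one hG f t) T F.pT F.tc
  have hmem : ∀ y, y ∈ S → y ∈ T := by
    intro y hy
    have : y ∈ (S : Subgroup G) := hy
    rwa [hST] at this
  have hgN : g ∈ normalizer (T : Set G) :=
    mem_normalizer_fintype fun r hr => hmem _ (hg2 r hr)
  obtain ⟨hz, h1 | h1⟩ := F.act hgN
  · rw [h1] at hg1
    obtain ⟨y, hy, hyt⟩ := hg1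
    have hyt' : y = ⟨t, F.tT⟩ := Subtype.ext hyt
    have : lam y = 1 := hy
    rw [hyt', hlam] at this
    exact absurd this (by decide)
  · -- `g` swaps `t` and `tz`: a 2-element of `N(T)` does too
    obtain ⟨k, m, hm, hk⟩ := Nat.exists_eq_two_pow_mul_odd (orderOf_pos g).ne'
    set x := g ^ m with hx
    have hxp : IsPGroup 2 (zpowers x) := by
      apply IsPGroup.of_card (n := k)
      rw [Nat.card_zpowers, hx, orderOf_pow, hk, Nat.gcd_mul_left_left,
        Nat.mul_div_cancel _ hm.pos]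
    have hxN : x ∈ normalizer (T : Set G) := pow_mem hgN m
    have hxT : x ∈ T := by
      apply hmem
      have h2 : IsPGroup 2 ((zpowers x ⊔ T : Subgroup G)) :=
        hxp.to_sup_of_normal_right' F.pT (by rw [zpowers_le]; exact hxN)
      have h3 := S.is_maximal' h2 (by rw [hST]; exact le_sup_right)
      show x ∈ (S : Subgroup G)
      rw [← h3]
      exact (le_sup_left : zpowers x ≤ _) (mem_zpowers x)
    have hxt := F.tc x hxT
    have hg2t : Commute (g * g) t := by
      show g * g * t = t * (g * g)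
      rw [← mul_inv_eq_iff_eq_mul]
      calc g * g * t * (g * g)⁻¹ = g * (g * t * g⁻¹) * g⁻¹ := by group
        _ = g * (t * z) * g⁻¹ := by rw [h1]
        _ = (g * t * g⁻¹) * (g * z * g⁻¹) := by group
        _ = t := by rw [h1, hz, mul_assoc, F.zz, mul_one]
    obtain ⟨j, hj⟩ := hm
    have hx' : x = (g * g) ^ j * g := by
      rw [hx, hj, pow_succ, pow_mul, pow_two]
    have h4 : Commute ((g * g) ^ j) t := hg2t.pow_left j
    have h5 : Commute ((g * g) ^ j * g) t := by
      rw [← hx']; exact hxt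
    have h6 : Commute g t := by
      have := h4.inv_left.mul_left h5
      rwa [inv_mul_cancel_left] at this
    have h7 : g * t * g⁻¹ = t := by rw [h6.eq]; group
    rw [h7] at h1
    exact F.z1 (mul_eq_left.1 h1.symm)

/-- **Step 2**: growth in a Sylow subgroup `S > T`. -/
theorem exists_swap [Finite G] (F : Frame t z T) (S : Sylow 2 G) (hTS : T < (S : Subgroup G)) :
    ∃ x ∈ (S : Subgroup G), x ∈ normalizer (T : Set G) ∧ x ∉ T ∧ x * t * x⁻¹ = t * z ∧
      x * z * x⁻¹ = z := by
  have : Group.IsNilpotent (S : Subgroup G) := S.isPGroup'.isNilpotent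
  obtain ⟨x, hxS, hxT, hxN⟩ :=
    Cfsg.Agent.Transfer.FrobeniusFusion.exists_mem_normalizer_notMem hTS
  obtain ⟨hz, ht⟩ := F.act hxN
  refine ⟨x, hxS, hxN, hxT, ?_, hz⟩
  rcases ht with ht | ht
  · exfalso
    apply hxT
    apply F.mem_of_normalizer hxN
    · exact S.isPGroup'.to_le (by rw [zpowers_le]; exact hxS)
    · rwa [mul_inv_eq_iff_eq_mul] at ht
  · exact ht

/-- **Step 3**: `z` is central in `S`. -/
theorem z_central [Finite G] (F : Frame t z T) (S : Sylow 2 G) (hTS : T < (S : Subgroup G)) :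
    ∀ s ∈ (S : Subgroup G), s * z = z * s := by
  obtain ⟨x, hxS, -, -, hxt, hxz⟩ := F.exists_swap S hTS
  have hfin : Finite (S : Subgroup G) := inferInstance
  have hnt : Nontrivial (S : Subgroup G) :=
    ⟨⟨⟨t, hTS.le F.tT⟩, 1, fun h => F.t1 (congrArg Subtype.val h)⟩⟩
  have hcn : Nontrivial (center (S : Subgroup G)) := S.isPGroup'.center_nontrivial
  -- an involution of the centre
  obtain ⟨c, hc⟩ : ∃ c : center (S : Subgroup G), orderOf c = 2 := by
    apply exists_prime_orderOf_dvd_card' 2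
    have hp : IsPGroup 2 (center (S : Subgroup G)) := S.isPGroup'.to_subgroup _
    obtain ⟨n, hn⟩ := IsPGroup.iff_card.1 hp
    rw [hn]
    have hn0 : n ≠ 0 := by
      rintro rfl
      rw [pow_zero] at hn
      have h1 := Finite.one_lt_card (α := center (S : Subgroup G))
      omega
    exact dvd_pow_self 2 hn0
  have hc2 : c * c = 1 := by
    have h1 := pow_orderOf_eq_one c
    rw [hc, pow_two] at h1
    exact h1
  have hc1 : c ≠ 1 := by
    rintro rfl
    rw [orderOf_one] at hc
    omega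
  set d : G := ((c : (S : Subgroup G)) : G) with hd
  have hdS : d ∈ (S : Subgroup G) := (c : (S : Subgroup G)).2
  have hdc : ∀ s ∈ (S : Subgroup G), s * d = d * s := by
    intro s hs
    have := mem_center_iff.1 c.2 ⟨s, hs⟩
    exact congrArg Subtype.val this
  have hdd : d * d = 1 := by
    have h1 : ((c * c : center (S : Subgroup G)) : (S : Subgroup G)) = 1 := by rw [hc2]; rfl
    exact congrArg Subtype.val h1
  have hd1 : d ≠ 1 := by
    intro h1
    apply hc1
    exact Subtype.ext (Subtype.ext h1)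
  have hdT : d ∈ T := by
    apply F.mem_of_normalizer
    · rw [mem_normalizer_iff]
      intro y
      constructor
      · intro hy
        have : d * y * d⁻¹ = y := by rw [← hdc y (hTS.le hy)]; group
        rw [this]; exact hy
      · intro hy
        have hy2 := hTS.le hy
        have h3 : d * y * d⁻¹ * d = d * (d * y * d⁻¹) := hdc _ hy2
        have h4 : y = d * y * d⁻¹ := by
          have h5 : d * y = d * (d * y * d⁻¹) := by rw [← h3]; group
          exact mul_left_cancel h5
        rw [h4]; exact hy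
    · exact S.isPGroup'.to_le (by rw [zpowers_le]; exact hdS)
    · exact (hdc t (hTS.le F.tT)).symm
  have hxd : x * d * x⁻¹ = d := by rw [hdc x hxS]; group
  have hdz : d = z := by
    rcases F.om d hdT (fun y hy => hdc y (hTS.le hy)) hdd with h | h | h | h
    · exact absurd h hd1
    · exfalso
      rw [h, hxt] at hxd
      exact F.z1 (mul_eq_left.1 hxd)
    · exact h
    · exfalso
      have h2 : x * (t * z) * x⁻¹ = (x * t * x⁻¹) * (x * z * x⁻¹) := by group
      rw [h, h2, hxt, hxz, mul_assoc, F.zz, mul_one] at hxd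
      exact F.z1 (mul_eq_left.1 hxd.symm)
  intro s hs
  rw [← hdz]; exact hdc s hs

/-- the maximality of `T` among the 2-subgroups of `C(t)`, by orders -/
theorem card_le [Finite G] (F : Frame t z T) {P : Subgroup G} (hP : IsPGroup 2 P)
    (hPt : ∀ x ∈ P, x * t = t * x) : Nat.card P ≤ Nat.card T := by
  set C : Subgroup G := centralizer ({t} : Set G) with hC
  have hTC : T ≤ C := fun x hx => mem_centralizer_singleton_iff.2 (F.tc x hx)
  have hPC : P ≤ C := fun x hx => mem_centralizer_singleton_iff.2 (hPt x hx)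
  let TS : Sylow 2 C :=
    { toSubgroup := T.subgroupOf C
      isPGroup' := F.pT.comap_of_injective C.subtype C.subtype_injective
      is_maximal' := by
        intro R hR hle
        apply le_antisymm _ hle
        have h1 : R.map C.subtype ≤ T := by
          apply F.max
          · exact hR.map C.subtype
          · intro y hy
            exact ⟨⟨y, hTC hy⟩, hle (by exact hy), rfl⟩
          · rintro _ ⟨y, -, rfl⟩
            exact mem_centralizer_singleton_iff.1 y.2
        intro y hy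
        exact h1 ⟨y, hy, rfl⟩ }
  obtain ⟨R, hR⟩ := (hP.comap_of_injective C.subtype C.subtype_injective).exists_le_sylow
  have h1 : Nat.card (P.subgroupOf C) = Nat.card P := Nat.card_congr (subgroupOfEquivOfLe hPC).toEquiv
  have h2 : Nat.card (T.subgroupOf C) = Nat.card T := Nat.card_congr (subgroupOfEquivOfLe hTC).toEquiv
  have h3 : Nat.card R = Nat.card TS := by rw [R.card_eq_multiplicity, TS.card_eq_multiplicity]
  have h4 : Nat.card (P.subgroupOf C) ≤ Nat.card R := Nat.card_le_card_of_injective _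
    (inclusion_injective hR)
  have h5 : Nat.card TS = Nat.card (T.subgroupOf C) := rfl
  omega

/-- `z` is not conjugate to `t` -/
theorem not_conj [Finite G] (F : Frame t z T) (S : Sylow 2 G) (hTS : T < (S : Subgroup G)) (g : G) :
    g * t * g⁻¹ ≠ z := by
  intro hg
  have hcen := F.z_central S hTS
  set P : Subgroup G := (S : Subgroup G).map (MulAut.conj g⁻¹).toMonoidHom with hP
  have h1 : IsPGroup 2 P := S.isPGroup'.map _
  have h2 : ∀ x ∈ P, x * t = t * x := by
    rintro _ ⟨s, hs, rfl⟩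
    have h3 := hcen s hs
    rw [← hg] at h3
    show g⁻¹ * s * g⁻¹⁻¹ * t = t * (g⁻¹ * s * g⁻¹⁻¹)
    calc g⁻¹ * s * g⁻¹⁻¹ * t = g⁻¹ * (s * (g * t * g⁻¹)) * g := by group
      _ = g⁻¹ * (g * t * g⁻¹ * s) * g := by rw [h3]
      _ = t * (g⁻¹ * s * g⁻¹⁻¹) := by group
  have h3 := F.card_le h1 h2
  have h4 : Nat.card P = Nat.card (S : Subgroup G) :=
    (Nat.card_congr ((S : Subgroup G).equivMapOfInjective _
      (MulAut.conj g⁻¹).injective).toEquiv).symm
  have h5 : T = (S : Subgroup G) := Subgroup.eq_of_le_of_card_ge hTS.le (by omega)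
  exact hTS.ne h5

/-- **TR**: every homomorphism `C_G(z) → {±1}` kills `t`. -/
theorem tr [Finite G] (F : Frame t z T) (hG : ∀ H : Subgroup G, H.index ≠ 2) (S : Sylow 2 G)
    (hTS : T < (S : Subgroup G)) (lam : centralizer ({z} : Set G) →* ℤˣ) :
    lam ⟨t, mem_centralizer_singleton_iff.2 F.comm⟩ = 1 := by
  by_contra hne
  have hlam : lam ⟨t, mem_centralizer_singleton_iff.2 F.comm⟩ = -1 :=
    (Int.units_eq_one_or _).resolve_left hne
  have hcen := F.z_central S hTS
  have hSH : (S : Subgroup G) ≤ centralizer ({z} : Set G) := fun s hs =>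
    mem_centralizer_singleton_iff.2 (hcen s hs)
  obtain ⟨x, hxS, -, -, hxt, hxz⟩ := F.exists_swap S hTS
  set mu : (S : Subgroup G) →* ℤˣ := lam.comp (inclusion hSH) with hmu
  have hmut : mu ⟨t, hTS.le F.tT⟩ = -1 := hlam
  obtain ⟨g, hg1, hg2⟩ := Cfsg.Agent.SylowSp4.ExtTransfer.exists_extremal S
    (mu.ker.map (S : Subgroup G).subtype) (by rintro _ ⟨y, -, rfl⟩; exact y.2)
    (relIndex_ker mu hmut) t F.tt (fun f => hom_eq_one hG f t) T F.pT F.tc
  -- `z' = g⁻¹ z g` is central in `T`
  have hz'c : ∀ r ∈ T, r * (g⁻¹ * z * g) = g⁻¹ * z * g * r := by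
    intro r hr
    have h1 := hcen _ (hg2 r hr)
    calc r * (g⁻¹ * z * g) = g⁻¹ * (g * r * g⁻¹ * z) * g := by group
      _ = g⁻¹ * (z * (g * r * g⁻¹)) * g := by rw [h1]
      _ = g⁻¹ * z * g * r := by group
  have hz'2 : g⁻¹ * z * g * (g⁻¹ * z * g) = 1 := by
    calc g⁻¹ * z * g * (g⁻¹ * z * g) = g⁻¹ * (z * z) * g := by group
      _ = 1 := by rw [F.zz]; group
  have hz'T : g⁻¹ * z * g ∈ T := by
    apply F.mem_of_normalizer
    · rw [mem_normalizer_iff]
      intro y
      constructor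
      · intro hy
        have : g⁻¹ * z * g * y * (g⁻¹ * z * g)⁻¹ = y := by rw [← hz'c y hy]; group
        rw [this]; exact hy
      · intro hy
        have h3 := hz'c _ hy
        have h4 : y = g⁻¹ * z * g * y * (g⁻¹ * z * g)⁻¹ := by
          have h5 : (g⁻¹ * z * g) * y = (g⁻¹ * z * g) * (g⁻¹ * z * g * y * (g⁻¹ * z * g)⁻¹) := by
            rw [← h3]; group
          exact mul_left_cancel h5
        rw [h4]; exact hy
    · exact isPGroup_zpowers hz'2
    · exact (hz'c t F.tT).symm
  have hback : ∀ y : G, g⁻¹ * z * g = y → g * y * g⁻¹ = z := by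
    intro y hy
    rw [← hy]; group
  rcases F.om _ hz'T hz'c hz'2 with h | h | h | h
  · have := hback _ h
    rw [mul_one, mul_inv_cancel] at this
    exact F.z1 this.symm
  · exact F.not_conj S hTS g (hback _ h)
  · -- `g` centralises `z`
    have hgz : g ∈ centralizer ({z} : Set G) := by
      rw [mem_centralizer_singleton_iff]
      have := hback _ h
      rwa [mul_inv_eq_iff_eq_mul] at this
    obtain ⟨y, hy, hyt⟩ := hg1
    have hy1 : mu y = 1 := hy
    have h2 : lam (⟨g, hgz⟩ * ⟨t, mem_centralizer_singleton_iff.2 F.comm⟩ * ⟨g, hgz⟩⁻¹) = 1 := by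
      rw [← hy1, hmu]
      show lam _ = lam (inclusion hSH y)
      congr 1
      apply Subtype.ext
      exact hyt.symm
    rw [map_mul, map_mul, map_inv, mul_comm, ← mul_assoc, inv_mul_cancel, one_mul] at h2
    exact hne h2
  · apply F.not_conj S hTS (g * x)
    have := hback _ h
    calc g * x * t * (g * x)⁻¹ = g * (x * t * x⁻¹) * g⁻¹ := by group
      _ = z := by rw [hxt]; exact this

/-- the main statement -/
theorem main [Finite G] (F : Frame t z T) (hG : ∀ H : Subgroup G, H.index ≠ 2)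
    (mu : T →* ℤˣ) (hmu : mu ⟨t, F.tT⟩ = -1) :
    ∃ S : Sylow 2 G, T < (S : Subgroup G) ∧ (∀ s ∈ (S : Subgroup G), s * z = z * s) ∧
      (∃ x ∈ (S : Subgroup G), x ∈ normalizer (T : Set G) ∧ x ∉ T ∧ x * t * x⁻¹ = t * z ∧
        x * z * x⁻¹ = z) ∧
      (∀ g, g * t * g⁻¹ ≠ z) ∧
      ∀ lam : centralizer ({z} : Set G) →* ℤˣ,
        lam ⟨t, mem_centralizer_singleton_iff.2 F.comm⟩ = 1 := by
  obtain ⟨S, hS⟩ := F.pT.exists_le_sylow
  have hlt : T < (S : Subgroup G) := lt_of_le_of_ne hS fun h => F.not_sylow hG mu hmu S h.symm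
  exact ⟨S, hlt, F.z_central S hlt, F.exists_swap S hlt, F.not_conj S hlt, F.tr hG S hlt⟩

end Frame

end Cfsg.Agent.OddHalf.TR
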