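import Cfsg.Agent.OddHalf.Iface
import Cfsg.Agent.OddHalf.Stmts
import Cfsg.Agent.OddHalf.Soft
import Cfsg.Agent.OddHalf.Small.Plug
import Cfsg.Agent.OddHalf.Small.RowsAll

/-!
# A counterexample to S1765 satisfies `Ctx`

`Thms`: the listed theorems which are used. `ctx : Thms → RowsTwo → ... → ¬ Concl G → Ctx G`.
-/

set_option autoImplicit false

namespace Cfsg.Agent.OddHalf.Frame

open Subgroup Cfsg Cfsg.Agent.GH.Defs
open Cfsg.Agent.OddHalf.Iface Cfsg.Agent.OddHalf.Small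

universe u

/-- S0482 -/
def P0482 : Prop :=
  ∀ {G : Type u} [Group G] [Finite G] [IsSimpleGroup G],
    ¬ IsMulCommutative G → Cfsg.PRankLE 2 2 G →
    (∃ (F : Type) (_ : Field F) (_ : Fintype F), Odd (Fintype.card F) ∧ 5 ≤ Fintype.card F ∧
        Nonempty (G ≃* Matrix.ProjectiveSpecialLinearGroup (Fin 2) F)) ∨
      (∃ (F : Type) (_ : Field F) (_ : Fintype F), Odd (Fintype.card F) ∧
        Nonempty (G ≃* Matrix.ProjectiveSpecialLinearGroup (Fin 3) F)) ∨
      (∃ (F : Type) (_ : Field F) (_ : Fintype F) (q : ℕ), Fintype.card F = q ^ 2 ∧ Odd q ∧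
        Nonempty (G ≃* Cfsg.PSU 3 F q)) ∨
      (∃ (F : Type) (_ : Field F) (_ : Fintype F), Fintype.card F = 16 ∧ Nonempty (G ≃* Cfsg.PSU 3 F 4)) ∨
      Nonempty (G ≃* alternatingGroup (Fin 7)) ∨
      Cfsg.IsM11 G

/-- S0500 at the level of isomorphism (output of the assembly of S0500). -/
def PK4 : Prop :=
  ∀ {G : Type u} [Group G] [Finite G] [IsSimpleGroup G],
    ¬ IsMulCommutative G → Cfsg.SectionalPRankLE 2 4 G → K4 G

/-- The listed theorems used by `ctx`. -/
structure Thms : Prop where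
  p0482 : P0482.{u}
  k4 : PK4.{u}
  p1310 : Stmts.P1310.{u}
  p1311 : Stmts.P1311.{u}
  p1726 : Stmts.P1726.{u}
  p1728 : Stmts.P1728.{u}
  p1738 : Stmts.P1738.{u}

section

variable {G : Type u} [Group G] [Finite G] [IsSimpleGroup G]

/-- S0482 gives the conclusion of S1765. -/
theorem of_0482 (R : Excl.Rows) (T : Plug.RowsTwo.{u}) (P : P0482.{u}) (hna : ¬ IsMulCommutative G)
    (h2 : ¬ IsCharacteristicTwoType G) (hr : PRankLE 2 2 G) : Excl.Concl G := by
  rcases P hna hr with h | h | h | h | h | h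
  · exact Plug.of_k2 R T h2 (Or.inl h)
  · exact Plug.of_k2 R T h2 (Or.inr (Or.inl h))
  · exact Plug.of_k2 R T h2 (Or.inr (Or.inr (Or.inl h)))
  · exact Plug.of_k2 R T h2 (Or.inr (Or.inr (Or.inr (Or.inl h))))
  · exact Plug.of_k2 R T h2 (Or.inr (Or.inr (Or.inr (Or.inr (Or.inl h)))))
  · exact absurd (M11.charTwo_of_isM11 h) h2

/-- **The counterexample of S1765 has passed the theorems which do not speak about standard subgroups.** -/
theorem ctx (T : Plug.RowsTwo.{u}) (P : Thms.{u}) (hna : ¬ IsMulCommutative G) (hK : IsKProper G)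
    (h2 : ¬ IsCharacteristicTwoType G) (hnc : ¬ Excl.Concl G) : Ctx G := by
  have R := RowsAll.rows
  have e : ↥(generalizedFittingSubgroup G) ≃* G := Soft.fstarEquiv hna
  have hs : IsSimpleGroup ↥(generalizedFittingSubgroup G) := isSimple_congr e.symm inferInstance
  have hna' : ¬ IsMulCommutative ↥(generalizedFittingSubgroup G) := by
    intro h
    apply hna
    refine ⟨⟨fun a b => ?_⟩⟩
    obtain ⟨a, rfl⟩ := e.surjective a
    obtain ⟨b, rfl⟩ := e.surjective b
    rw [← map_mul, ← map_mul, h.is_comm.comm a b]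
  have hrank : ¬ PRankLE 2 2 G := fun h => hnc (of_0482 R T P.p0482 hna h2 h)
  have heven : Even (Nat.card G) := Soft.even_of_rank hrank
  have hO : oddCore G = ⊥ := Soft.oddCore_eq_bot heven
  refine
    { fin := inferInstance
      simple := inferInstance
      na := hna
      kproper := hK
      notTwo := h2
      nc := hnc
      bal := ?_
      bprop := fun X _ _ => P.p1726
      strong := fun H N _ => P.p1726
      rank3 := hrank
      sect5 := ?_
      core2 := ?_
      classical := ?_ }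
  · intro t ht
    by_contra hc
    apply hnc
    rcases P.p1311 hs hna' t ht hc with ⟨p, hp, hp2, h⟩ | ⟨n, h1, h3, ⟨f⟩⟩ | ⟨F, i, j, hF, ⟨f⟩⟩ | ⟨⟨f⟩⟩
    · exact Plug.of_unbalanced R h2 (Or.inl ⟨p, hp, hp2, Plug.isLieTypeChar_congr e h⟩)
    · exact Plug.of_unbalanced R h2 (Or.inr (Or.inl ⟨n, h1, h3, ⟨e.symm.trans f⟩⟩))
    · exact Plug.of_unbalanced R h2 (Or.inr (Or.inr (Or.inl ⟨F, i, j, hF, ⟨e.symm.trans f⟩⟩)))
    · exact Plug.of_unbalanced R h2 (Or.inr (Or.inr (Or.inr ⟨e.symm.trans f⟩)))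
  · intro h
    exact hnc (Plug.of_k4 R T hna hO (fun a b t ht K hK h n hn hc => P.p1738 a b t ht K hK h n hn hc) h2
      (P.k4 hna h))
  · intro h
    exact hnc (Plug.of_core R T hna h2 (P.p1728 hna h))
  · intro z J hz hJ h
    apply hnc
    rcases P.p1310 hs hna' z hz J hJ.1 hJ.2.1 hJ.2.2 h with ⟨p, hp, hp2, h⟩ | ⟨⟨f⟩⟩
    · exact Plug.of_classical R h2 (Or.inl ⟨p, hp, hp2, Plug.isLieTypeChar_congr e h⟩)
    · exact Plug.of_classical R h2 (Or.inr ⟨e.symm.trans f⟩)

end

end Cfsg.Agent.OddHalf.Frame
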