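import Cfsg.Agent.OddHalf.Main

/-!
# `Intr` with cyclic centralizer (helper970)

`IntrCyc`: there is no standard subgroup `M` containing an involution `z` with `z ∈ C(M)` and `C(M)` cyclic. It follows
from the listed statements, `D9`, `U2` and `D5cover`, as `Intr`.
-/

set_option autoImplicit false
set_option linter.style.haveILetI false
set_option linter.dupNamespace false

namespace Cfsg.Agent.OddHalf.IntrCyc

open Subgroup Cfsg Cfsg.Agent.OddHalf.Iface Cfsg.Agent.OddHalf.Stmts

universe u

/-- **Intr** with a cyclic centralizer -/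
def IntrCyc : Prop :=
  ∀ (G : Type u) [Group G], Ctx G → ∀ (M : Subgroup G) (z : G), orderOf z = 2 → IsStandardSubgroup M → z ∈ M →
    z ∈ centralizer (M : Set G) → IsCyclic ↥(centralizer (M : Set G)) → False

/-- the special case `C(M) = ⟨z⟩` -/
theorem IntrCyc.intr (h : IntrCyc.{u}) : Intr.{u} := by
  intro G _ C M z hz hM hzM hCM
  refine h G C M z hz hM hzM (by rw [hCM]; exact mem_zpowers z) ?_
  rw [hCM]
  infer_instance

/-- the only involution of a cyclic group -/
theorem eq_of_orderOf_two {G : Type*} [Group G] [Finite G] {D : Subgroup G} (hD : IsCyclic D) {y z : G} (hy : y ∈ D)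
    (hz : z ∈ D) (hy2 : orderOf y = 2) (hz2 : orderOf z = 2) : y = z := by
  classical
  haveI := hD
  haveI : Fintype D := Fintype.ofFinite _
  have h1 := IsCyclic.card_pow_eq_one_le (α := D) (n := 2) two_pos
  by_contra hne
  have hy1 : y ^ 2 = 1 := hy2 ▸ pow_orderOf_eq_one y
  have hz1 : z ^ 2 = 1 := hz2 ▸ pow_orderOf_eq_one z
  have hy0 : y ≠ 1 := by
    rintro rfl
    rw [orderOf_one] at hy2
    omega
  have hz0 : z ≠ 1 := by
    rintro rfl
    rw [orderOf_one] at hz2
    omega
  have h2 : ({1, ⟨y, hy⟩, ⟨z, hz⟩} : Finset D) ⊆ Finset.univ.filter (fun a : D => a ^ 2 = 1) := by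
    intro a ha
    rw [Finset.mem_insert, Finset.mem_insert, Finset.mem_singleton] at ha
    rw [Finset.mem_filter]
    refine ⟨Finset.mem_univ _, ?_⟩
    rcases ha with rfl | rfl | rfl
    · exact one_pow 2
    · exact Subtype.ext hy1
    · exact Subtype.ext hz1
  have h3 : ({1, ⟨y, hy⟩, ⟨z, hz⟩} : Finset D).card = 3 := by
    rw [Finset.card_eq_three]
    refine ⟨_, _, _, ?_, ?_, ?_, rfl⟩
    · intro h4
      exact hy0 (congrArg Subtype.val h4).symm
    · intro h4
      exact hz0 (congrArg Subtype.val h4).symm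
    · intro h4
      exact hne (congrArg Subtype.val h4)
  have h4 := Finset.card_le_card h2
  omega

/-- tight embedding: the centralizer of an involution of `C(M)` normalizes `M` -/
theorem centralizer_le {G : Type u} [Group G] [Finite G] {M : Subgroup G} (hM : IsStandardSubgroup M) {z : G}
    (hz : orderOf z = 2) (hzC : z ∈ centralizer (M : Set G)) :
    centralizer ({z} : Set G) ≤ normalizer (M : Set G) := by
  intro g hg
  rw [hM.2.2.2]
  by_contra hn
  have h1 := hM.2.1.2 g hn
  have hgz : g * z = z * g := mem_centralizer_singleton_iff.1 hg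
  have h2 : z ∈ centralizer (M : Set G) ⊓ (centralizer (M : Set G)).map (MulAut.conj g).toMonoidHom := by
    refine ⟨hzC, z, hzC, ?_⟩
    show g * z * g⁻¹ = z
    rw [hgz]; group
  have h3 : orderOf (⟨z, h2⟩ : ↥(centralizer (M : Set G) ⊓
      (centralizer (M : Set G)).map (MulAut.conj g).toMonoidHom)) = 2 := by
    rw [Subgroup.orderOf_mk]; exact hz
  have h4 : 2 ∣ Nat.card ↥(centralizer (M : Set G) ⊓
      (centralizer (M : Set G)).map (MulAut.conj g).toMonoidHom) := by
    rw [← h3]; exact orderOf_dvd_natCard _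
  exact (Nat.not_even_iff_odd.2 h1) (even_iff_two_dvd.2 h4)

/-- **IntrCyc** from the listed statements, `D9`, `U2` and `D5cover` -/
theorem intrCyc (hGW : SylowSp4.Hyps.GW.{u}) (Kn : Main.Known.{u}) (d9 : D9.{u}) (u2 : U2.{u})
    (d5cover : D5cover.{u}) : IntrCyc.{u} := by
  intro G _ C M z hz hM hzM hzC hcy
  haveI := C.fin
  haveI := C.simple
  have hcz := centralizer_le hM hz hzC
  have hMz : M ≤ centralizer ({z} : Set G) := by
    intro m hm
    rw [mem_centralizer_singleton_iff]
    exact ((mem_centralizer_iff.mp hzC) m hm)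
  have hcomp : CompOf z M := Main.compOf_of_normal hM.1 hcz hMz
  have T : Term0 G M := by
    refine ⟨⟨z, hz, hcomp⟩, fun y hy hyC => ?_⟩
    rw [eq_of_orderOf_two hcy hyC hzC hy hz]
    exact hcomp
  have hT := Soft.CompOf.ne_top C.na hz hcomp
  have hn := Soft.quo_na hM.1
  have S : Std0 G M :=
    { T with
      std := hM
      ne_top := hT
      z2 := Soft.CompOf.center_isPGroup (C.bal z hz) hcomp
      rk2 := D1.not_rank_one hGW C T
      simple := hM.1.2
      quo_na := hn
      known := Known.known_quotient C.kproper M hT _ hM.1.2 hn }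
  have hcen : center ↥M ≠ ⊥ := by
    intro hb
    have h1 : (⟨z, hzM⟩ : ↥M) ∈ center ↥M := by
      rw [mem_center_iff]
      intro m
      exact Subtype.ext ((mem_centralizer_iff.mp hzC) m m.2)
    rw [hb, mem_bot] at h1
    have h2 : z = 1 := congrArg Subtype.val h1
    rw [h2, orderOf_one] at hz
    omega
  have hcyc : Cyc M := by
    intro R
    haveI := hcy
    infer_instance
  exact Main.even_false Kn d9 u2 d5cover C S hcyc hcen

end Cfsg.Agent.OddHalf.IntrCyc
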