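import Cfsg.Agent.OddHalf.Quat.Node
import Cfsg.Agent.OddHalf.Small.Plug
import Cfsg.Agent.Cit.Nil.End
import Cfsg.Agent.Cit.Nil.ROne.Defs

/-!
# `Ctx.quatN` from the theorem on `r = 1` (S1309 (6b)) for normal quaternion 2-groups

* `base0_of_normal` : `J` normal in `C(z)` with quaternion Sylow 2-subgroups and the only involution `z`, `O(C(z)) = 1`,
  `z` no classical involution: `J` is a quaternion 2-group;
* `exists_world` : TAU: `|J| = 8`, (C3), hence helper194's world `W Z K`;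
* `one_false` : `|Om(S)| = 1` is THEOREM N1 (`Cit.Nil.End.main`);
* `quatN` : the literal field `Ctx.quatN`, from `ROneStmt` (the case `|Om(S)| ≥ 2`).
-/

set_option autoImplicit false
set_option linter.style.haveILetI false

namespace Cfsg.Agent.OddHalf.QuatGlue

open Subgroup Cfsg Cfsg.Agent.Cit Cfsg.Agent.OddHalf.Iface Cfsg.Agent.OddHalf.Quat
open Cfsg.Agent.Cit.Nil.ROne (W C3 OneCls CP)

universe u

/-- **the case `r = 1`, `|Om(S)| ≥ 2` of (6b)**, simple groups, all proper sections known -/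
def ROneStmt : Prop := ∀ (G : Type u) [Group G] [Finite G] [IsSimpleGroup G], ¬ IsMulCommutative G → IsKProper G →
  (∀ t : G, orderOf t = 2 → centralizerPPrimeCore 2 t = ⊥) →
  (∀ (z : G) (J : Subgroup G), orderOf z = 2 → SubOf z J → ¬ Classical ↥J) →
  ∀ (Z : Set G) (K : G → Subgroup G), W Z K → C3 Z K → OneCls Z → (∃ z ∈ Z, ∃ u ∈ Z, CP K z u) → False

/-- the external inputs of THEOREM N1 -/
structure N1In (G : Type u) [Group G] [Finite G] : Prop where
  gw : SylowSp4.Hyps.GW.{u}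
  p1173 : OneF.H1173 G
  p1171 : OneF.H1171 G
  p0506 : Nil.NoHomo.S0506Stmt.{u}
  p0507 : Nil.Ident.St0507 ↥(generalizedFittingSubgroup G)
  p0523 : Nil.Ident.St0523 ↥(generalizedFittingSubgroup G)
  p1742 : Nil.Ident.St1742 ↥(generalizedFittingSubgroup G)

section

variable {G : Type u} [Group G] [Finite G]

/-- `J` is a 2-group -/
theorem base0_of_normal (hGW : SylowSp4.Hyps.GW.{u}) {z : G} {J : Subgroup G} (hz : orderOf z = 2)
    (hcore : centralizerPPrimeCore 2 z = ⊥) (hcl : ∀ L : Subgroup G, SubOf z L → ¬ Classical ↥L)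
    (hJ : J ≤ centralizer ({z} : Set G)) (hzJ : z ∈ J) (hN : centralizer ({z} : Set G) ≤ normalizer (J : Set G))
    (hQ : ∃ S : Sylow 2 ↥J, ∃ n : ℕ, Nonempty (↥(S : Subgroup ↥J) ≃* QuaternionGroup (2 ^ (n + 1))))
    (huniq : ∀ t ∈ J, orderOf t = 2 → t = z) : Base0 z J := by
  haveI : Fact (Nat.Prime 2) := ⟨Nat.prime_two⟩
  have hs : (J.subgroupOf (centralizer ({z} : Set G))).IsSubnormal :=
    (normal_subgroupOf_of_le_normalizer hN).isSubnormal
  have hrk : PRankLE 2 1 ↥J := by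
    intro E _ hE
    have hle : E ≤ zpowers (⟨z, hzJ⟩ : ↥J) := by
      intro x hx
      by_cases h1 : x = 1
      · rw [h1]; exact one_mem _
      have h2 : orderOf (x : G) = 2 := by
        rw [Subgroup.orderOf_coe]
        exact orderOf_eq_prime (hE x hx) h1
      have h3 : x = ⟨z, hzJ⟩ := Subtype.ext (huniq x x.2 h2)
      rw [h3]; exact mem_zpowers _
    have hcard := Subgroup.card_le_of_le hle
    rw [Nat.card_zpowers, Subgroup.orderOf_mk, hz] at hcard
    simpa using hcard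
  have h2 := isPGroup_of_classical hGW hz hzJ hJ hs hcore hrk hcl
  obtain ⟨S, n, ⟨e⟩⟩ := hQ
  have hS : (S : Subgroup ↥J) = ⊤ := (S.is_maximal' (h2.to_subgroup ⊤) le_top).symm
  exact ⟨hz, hzJ, h2, ⟨n, ⟨(Subgroup.topEquiv.symm.trans (MulEquiv.subgroupCongr hS.symm)).trans e⟩⟩, hJ, hN⟩

variable {z : G} {Q : Subgroup G}

open Classical in
/-- the function `K` of the world -/
noncomputable def Ks (z : G) (Q : Subgroup G) (x : G) : Subgroup G :=
  if h : ∃ g : G, x = g * z * g⁻¹ then cj h.choose Q else ⊥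

omit [Finite G] in
theorem cj_eq (b : Base0 z Q) {g h : G} (e : g * z * g⁻¹ = h * z * h⁻¹) : cj g Q = cj h Q := by
  have h2 : g⁻¹ * h ∈ centralizer {z} := by
    rw [mem_centralizer_singleton_iff]
    calc g⁻¹ * h * z = g⁻¹ * (h * z * h⁻¹) * h := by group
      _ = g⁻¹ * (g * z * g⁻¹) * h := by rw [e]
      _ = z * (g⁻¹ * h) := by group
  have h3 := mem_normalizer_iff_cj.1 (b.Qn h2)
  rw [cj_mul] at h3
  have h4 := congrArg (cj g) h3
  rw [cj_cj_inv] at h4
  exact h4.symm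

omit [Finite G] in
theorem Ks_conj (b : Base0 z Q) (g : G) : Ks z Q (g * z * g⁻¹) = cj g Q := by
  have hex : ∃ h : G, g * z * g⁻¹ = h * z * h⁻¹ := ⟨g, rfl⟩
  have h1 : Ks z Q (g * z * g⁻¹) = cj hex.choose Q := by
    unfold Ks
    rw [dif_pos hex]
  rw [h1]
  exact (cj_eq b hex.choose_spec).symm

omit [Finite G] in
theorem Ks_self (b : Base0 z Q) : Ks z Q z = Q := by
  have := Ks_conj b 1
  rwa [one_mul, inv_one, mul_one, cj_one] at this

omit [Finite G] in
theorem world (b : Base0 z Q) (h8 : Nat.card Q = 8) : W {x | ∃ g, x = g * z * g⁻¹} (Ks z Q) := by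
  obtain ⟨e⟩ := b.equiv_quat h8
  refine ⟨?_, ?_, ?_, ?_, ?_, ?_⟩
  · rintro _ ⟨g, rfl⟩
    calc g * z * g⁻¹ * (g * z * g⁻¹) = g * (z * z) * g⁻¹ := by group
      _ = 1 := by rw [b.mul_self]; group
  · rintro _ ⟨g, rfl⟩ h
    apply b.ne_one
    calc z = g⁻¹ * (g * z * g⁻¹) * g := by group
      _ = 1 := by rw [h]; group
  · rintro _ ⟨g, rfl⟩
    rw [Ks_conj b]
    exact conj_mem_cj b.zQ
  · rintro _ ⟨g, rfl⟩ h
    exact ⟨h * g, by group⟩
  · rintro _ ⟨g, rfl⟩ h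
    have h1 : h * (g * z * g⁻¹) * h⁻¹ = (h * g) * z * (h * g)⁻¹ := by group
    rw [h1, Ks_conj b, Ks_conj b, cj_mul]
  · rintro _ ⟨g, rfl⟩
    rw [Ks_conj b]
    exact ⟨(cjEquiv g Q).symm.trans e⟩

omit [Finite G] in
theorem oneCls : OneCls {x | ∃ g, x = g * z * g⁻¹} := by
  rintro _ ⟨g, rfl⟩ _ ⟨h, rfl⟩
  exact ⟨h * g⁻¹, by group⟩

/-- (C3) -/
theorem c3 [IsSimpleGroup G] (hna : ¬ IsMulCommutative G) (b : Base0 z Q) :
    C3 {x | ∃ g, x = g * z * g⁻¹} (Ks z Q) := by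
  rintro _ ⟨h, rfl⟩ y hy hyy
  rw [Ks_conj b, mem_cj] at hy
  set v := h⁻¹ * y * h with hv
  have hvv : v * v = z := by
    calc v * v = h⁻¹ * (y * y) * h := by rw [hv]; group
      _ = z := by rw [hyy]; group
  have hv4 : orderOf v = 4 := GQ.orderOf_of_sq hvv b.mul_self b.ne_one
  obtain ⟨g, hg, hgn⟩ := SetLike.not_le_iff_exists.1 (b.not_le_normalizer hna hy hv4)
  have hgz : g * z = z * g := mem_centralizer_singleton_iff.1 hg
  have hne : ∀ w : G, g * v * g⁻¹ = w → w ∈ zpowers v → False := by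
    intro w hw hwv
    apply hgn
    rw [mem_normalizer_iff_cj, cj_def, MonoidHom.map_zpowers]
    have h1 : (MulAut.conj g).toMonoidHom v = w := hw
    rw [h1]
    refine Subgroup.eq_of_le_of_card_ge (zpowers_le.2 hwv) ?_
    rw [Nat.card_zpowers, Nat.card_zpowers, ← hw]
    exact ((MulAut.conj g).orderOf_eq v).ge
  have hy' : y = h * v * h⁻¹ := by rw [hv]; group
  refine ⟨h * g * h⁻¹, ?_, ?_, ?_⟩
  · calc h * g * h⁻¹ * (h * z * h⁻¹) = h * (g * z) * h⁻¹ := by group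
      _ = h * (z * g) * h⁻¹ := by rw [hgz]
      _ = h * z * h⁻¹ * (h * g * h⁻¹) := by group
  · intro e
    refine hne v ?_ (mem_zpowers v)
    calc g * v * g⁻¹ = h⁻¹ * (h * g * h⁻¹ * (h * v * h⁻¹) * (h * g * h⁻¹)⁻¹) * h := by group
      _ = h⁻¹ * y * h := by rw [← hy', e]
      _ = v := hv.symm
  · intro e
    refine hne v⁻¹ ?_ (inv_mem (mem_zpowers v))
    calc g * v * g⁻¹ = h⁻¹ * (h * g * h⁻¹ * (h * v * h⁻¹) * (h * g * h⁻¹)⁻¹) * h := by group
      _ = h⁻¹ * y⁻¹ * h := by rw [← hy', e]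
      _ = v⁻¹ := by rw [hv]; group

/-- the C-pair -/
theorem exists_cp (b : Base0 z Q) (h1 : ¬ Cit.One (cls Q)) :
    ∃ x ∈ {x | ∃ g, x = g * z * g⁻¹}, ∃ y ∈ {x | ∃ g, x = g * z * g⁻¹}, CP (Ks z Q) x y := by
  obtain ⟨_, ⟨g, rfl⟩, hne, hc⟩ := exists_ne_of_not_one b h1
  refine ⟨z, ⟨1, by group⟩, g * z * g⁻¹, ⟨g, rfl⟩, ?_, ?_⟩
  · intro e
    apply hne
    have h2 := cj_eq b (g := 1) (h := g) (by rw [← e]; group)
    rw [cj_one] at h2
    exact h2.symm
  · rw [Ks_self b, Ks_conj b]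
    exact hc

/-- **THEOREM N1** for simple groups -/
theorem one_false [IsSimpleGroup G] (R : Small.Excl.Rows) (hna : ¬ IsMulCommutative G) (n1 : N1In G) (h2 : ¬ IsCharacteristicTwoType G)
    (hnc : ¬ Iface.Concl G) (b : Base0 z Q) (h : Cit.One (cls Q)) : False := by
  have e : ↥(generalizedFittingSubgroup G) ≃* G := Soft.fstarEquiv hna
  have hs : IsSimpleGroup ↥(generalizedFittingSubgroup G) := e.isSimpleGroup
  have hna' : ¬ IsMulCommutative ↥(generalizedFittingSubgroup G) := by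
    intro h
    apply hna
    refine ⟨⟨fun a b => ?_⟩⟩
    obtain ⟨a, rfl⟩ := e.surjective a
    obtain ⟨b, rfl⟩ := e.surjective b
    rw [← map_mul, ← map_mul, h.is_comm.comm a b]
  have heven : 2 ∣ Nat.card ↥(generalizedFittingSubgroup G) := by
    rw [Nat.card_congr e.toEquiv, ← b.zo]
    exact orderOf_dvd_natCard z
  have h0483 : Nil.Ident.St0483 ↥(generalizedFittingSubgroup G) := by
    intro S n hn2 hS
    haveI : Group.IsPerfect ↥(generalizedFittingSubgroup G) := ⟨Nil.End.commutator_eq_top hs hna'⟩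
    exact n1.gw _ S n hn2 hS
  have hnil : Nil.NilOm (cls Q) := by
    intro K hK P hP
    have h3 : P = K := hP.eq_of_le hP.1 le_rfl (b.two_of_mem hK)
    rw [h3]
    exact le_sup_right
  apply hnc
  refine Small.Plug.of_quat R h2 ?_
  rcases Nil.End.main hs hna' heven n1.p1173 n1.p1171 n1.p0506 h0483 n1.p0507 n1.p0523 n1.p1742 h
    ⟨Q, self_mem_cls Q⟩ hnil with ⟨p, hp, hp2, h⟩ | ⟨⟨f⟩⟩ | ⟨⟨f⟩⟩
  · exact Or.inl ⟨p, hp, hp2, Small.Plug.isLieTypeChar_congr e h⟩
  · exact Or.inr (Or.inl ⟨e.symm.trans f⟩)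
  · exact Or.inr (Or.inr (Or.inl ⟨e.symm.trans f⟩))

/-- **the field `Ctx.quatN`** -/
theorem quatN [IsSimpleGroup G] (R : Small.Excl.Rows) (hr : ROneStmt.{u}) (n1 : N1In G) (hna : ¬ IsMulCommutative G) (hK : IsKProper G)
    (h2 : ¬ IsCharacteristicTwoType G) (hnc : ¬ Iface.Concl G)
    (bal : ∀ t : G, orderOf t = 2 → centralizerPPrimeCore 2 t = ⊥)
    (classical : ∀ (z : G) (J : Subgroup G), orderOf z = 2 → SubOf z J → ¬ Classical ↥J) :
    ∀ (z : G) (J : Subgroup G), orderOf z = 2 → J ≤ centralizer ({z} : Set G) → z ∈ J →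
      centralizer ({z} : Set G) ≤ normalizer (J : Set G) →
      (∃ S : Sylow 2 ↥J, ∃ n : ℕ, Nonempty (↥(S : Subgroup ↥J) ≃* QuaternionGroup (2 ^ (n + 1)))) →
      (∀ t ∈ J, orderOf t = 2 → t = z) → False := by
  intro z J hz hJ hzJ hN hQ huniq
  have b := base0_of_normal n1.gw hz (bal z hz) (fun L hL => classical z L hz hL) hJ hzJ hN hQ huniq
  by_cases h1 : Cit.One (cls J)
  · exact one_false R hna n1 h2 hnc b h1
  · exact hr G hna hK bal classical _ _ (world b (b.card_eight hna)) (c3 hna b) oneCls (exists_cp b h1)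

end

end Cfsg.Agent.OddHalf.QuatGlue
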