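import Mathlib
import Cfsg.Agent.OddHalf.UQ4Alt
import Cfsg.Agent.OddHalf.Soft
import Cfsg.Agent.StandardComponent.AltFinal

/-!
# Centralizers of order at least 4: standard components

`K` standard in the simple group `G`, `t ∈ C(K)` an involution, `O(C(t)) = 1`, the Sylow 2-subgroups of `C(K)` cyclic.
Then `R = C(t) ∩ C(K)` is a cyclic 2-group (`isCyclic_RR`); if `K` is `A_n`, `n ≥ 7`, then `R = ⟨t⟩`
(`RR_eq_of_alt`) and the Sylow 2-subgroups of `C(K)` have order 2 (`card_sylow_of_alt`).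
-/

set_option autoImplicit false
set_option linter.style.haveILetI false

namespace Cfsg.Agent.OddHalf.UQ4

open Subgroup

universe u

variable {G : Type u} [Group G] {K : Subgroup G} {t : G}

theorem RR_le_centralizer : RR t K ≤ centralizer (K : Set G) := inf_le_right

/-- Normality of `K` in `C(t)`. -/
theorem norm_of_std [Finite G] (std : IsStandardSubgroup K) (ht : orderOf t = 2)
    (htK : t ∈ centralizer (K : Set G)) (x : G) (hx : x * t = t * x) (k : G) (hk : k ∈ K) :
    x * k * x⁻¹ ∈ K := by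
  have h := (Cfsg.Agent.S1754.result K std t ht htK).1 (mem_centralizer_singleton_iff.2 hx)
  exact (mem_normalizer_iff.1 h k).1 hk

theorem norm_RR_of (hn : ∀ x : G, x * t = t * x → ∀ k ∈ K, x * k * x⁻¹ ∈ K) {x y : G} (hx : x * t = t * x)
    (hy : y ∈ RR t K) : x * y * x⁻¹ ∈ RR t K := by
  rw [mem_RR] at hy ⊢
  have hi : x⁻¹ * t = t * x⁻¹ := by
    calc x⁻¹ * t = x⁻¹ * (t * x) * x⁻¹ := by group
      _ = t * x⁻¹ := by rw [← hx]; group
  constructor
  · have h : x * t * x⁻¹ = t := by rw [hx]; group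
    have := comm_conj x hy.1
    rwa [h] at this
  · intro k hk
    have h0 := hn _ hi _ hk
    rw [inv_inv] at h0
    have h := comm_conj x (hy.2 _ h0)
    have h2 : x * (x⁻¹ * k * x) * x⁻¹ = k := by group
    rwa [h2] at h

/-- A subgroup of odd order of `C(t)`, normalized by a subnormal subgroup containing it, is trivial. -/
theorem eq_bot_of_odd [Finite G] (hO : centralizerPPrimeCore 2 t = ⊥) {X N : Subgroup G} (hNX : N ≤ X)
    (hX : X ≤ centralizer ({t} : Set G)) (hXn : ∀ x, x * t = t * x → ∀ y ∈ X, x * y * x⁻¹ ∈ X)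
    (hNn : ∀ x ∈ X, ∀ y ∈ N, x * y * x⁻¹ ∈ N) (hodd : Odd (Nat.card N)) : N = ⊥ := by
  set C := centralizer ({t} : Set G) with hC
  have h1 : (X.subgroupOf C).Normal := by
    refine ⟨fun y hy x => ?_⟩
    rw [mem_subgroupOf] at hy ⊢
    exact hXn _ (mem_centralizer_singleton_iff.1 x.2) _ hy
  have h2 : ((N.subgroupOf C).subgroupOf (X.subgroupOf C)).Normal := by
    refine ⟨fun y hy x => ?_⟩
    rw [mem_subgroupOf, mem_subgroupOf] at hy ⊢
    exact hNn _ (mem_subgroupOf.1 x.2) _ hy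
  have h3 : N.subgroupOf C ≤ X.subgroupOf C := comap_mono hNX
  have h4 : (N.subgroupOf C).IsSubnormal := IsSubnormal.step _ _ h3 h1.isSubnormal h2
  have h5 : (Nat.card (N.subgroupOf C)).Coprime 2 := by
    rw [Nat.card_congr (subgroupOfEquivOfLe (hNX.trans hX)).toEquiv]
    exact Nat.coprime_two_right.2 hodd
  have h6 := Lib.PComponents.le_pPrimeCore_of_isSubnormal h4 h5
  rw [Soft.core_eq_bot hO, le_bot_iff, subgroupOf_eq_bot, disjoint_iff] at h6
  rw [← h6]
  exact (inf_eq_left.2 (hNX.trans hX)).symm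

/-- `R = C(t) ∩ C(K)` is a cyclic 2-group. -/
theorem isCyclic_RR [Finite G] (hO : centralizerPPrimeCore 2 t = ⊥)
    (hn : ∀ x : G, x * t = t * x → ∀ k ∈ K, x * k * x⁻¹ ∈ K)
    (ht : orderOf t = 2) (htK : t ∈ centralizer (K : Set G))
    (hc : ∀ P : Sylow 2 ↥(centralizer (K : Set G)), IsCyclic ↥(P : Subgroup ↥(centralizer (K : Set G)))) :
    IsPGroup 2 ↥(RR t K) ∧ IsCyclic ↥(RR t K) := by
  classical
  haveI : Fact (Nat.Prime 2) := ⟨Nat.prime_two⟩
  have htR : t ∈ RR t K := ⟨mem_centralizer_singleton_iff.2 rfl, htK⟩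
  have heven : (Nat.card ↥(RR t K)).minFac = 2 := by
    rw [Nat.minFac_eq_two_iff, ← ht, ← Subgroup.orderOf_mk _ htR]
    exact orderOf_dvd_natCard _
  obtain ⟨P⟩ : Nonempty (Sylow 2 ↥(RR t K)) := inferInstance
  -- `P` is cyclic
  have hPc : IsCyclic ↥(P : Subgroup ↥(RR t K)) := by
    let f : ↥(RR t K) →* ↥(centralizer (K : Set G)) := Subgroup.inclusion RR_le_centralizer
    have hf : Function.Injective f := Subgroup.inclusion_injective _
    have h1 : IsPGroup 2 ((P : Subgroup ↥(RR t K)).map f) := P.isPGroup'.map f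
    obtain ⟨Q, hQ⟩ := h1.exists_le_sylow
    haveI := hc Q
    have h2 : IsCyclic ((P : Subgroup ↥(RR t K)).map f) :=
      isCyclic_of_injective (Subgroup.inclusion hQ) (Subgroup.inclusion_injective _)
    exact isCyclic_of_surjective ((P : Subgroup ↥(RR t K)).equivMapOfInjective f hf).symm
      ((P : Subgroup ↥(RR t K)).equivMapOfInjective f hf).symm.surjective
  -- the normal complement is trivial
  obtain ⟨N, hNn, hcomp⟩ : ∃ N : Subgroup ↥(RR t K), N.Normal ∧ N.IsComplement' (P : Subgroup ↥(RR t K)) :=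
    ⟨_, inferInstance, IsCyclic.isComplement' heven hPc⟩
  have hNodd : Odd (Nat.card N) := by
    have h1 := hcomp.index_eq_card
    rw [← h1]
    have h2 := P.not_dvd_index
    rwa [← Nat.not_even_iff_odd, even_iff_two_dvd]
  have hNbot : N = ⊥ := by
    have h1 : N.map (RR t K).subtype = ⊥ := by
      refine eq_bot_of_odd hO (X := RR t K) (map_subtype_le N) inf_le_left
        (fun x hx y hy => norm_RR_of hn hx hy) ?_ ?_
      · rintro x hx _ ⟨y, hy, rfl⟩
        exact ⟨⟨x, hx⟩ * y * ⟨x, hx⟩⁻¹, hNn.conj_mem _ hy _, rfl⟩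
      · rwa [Nat.card_congr (N.equivMapOfInjective _ (RR t K).subtype_injective).toEquiv.symm]
    exact (map_eq_bot_iff_of_injective _ (RR t K).subtype_injective).1 h1
  have hPtop : (P : Subgroup ↥(RR t K)) = ⊤ := by
    have h1 := hcomp.sup_eq_top
    rwa [hNbot, bot_sup_eq] at h1
  have hP2 := P.isPGroup'
  rw [hPtop] at hP2 hPc
  exact ⟨hP2.of_equiv Subgroup.topEquiv, isCyclic_of_surjective Subgroup.topEquiv Subgroup.topEquiv.surjective⟩

/-- In a cyclic group there is at most one involution. -/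
theorem eq_of_cyclic {H : Type*} [Group H] [Finite H] [IsCyclic H] {x y : H} (hx : x * x = 1) (hx1 : x ≠ 1)
    (hy : y * y = 1) (hy1 : y ≠ 1) : x = y := by
  classical
  haveI := Fintype.ofFinite H
  by_contra hne
  have h := IsCyclic.card_pow_eq_one_le (α := H) (n := 2) (by norm_num)
  have h1 : ({1, x, y} : Finset H) ⊆ Finset.univ.filter (fun a : H => a ^ 2 = 1) := by
    intro a ha
    simp only [Finset.mem_insert, Finset.mem_singleton] at ha
    rw [Finset.mem_filter]
    refine ⟨Finset.mem_univ _, ?_⟩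
    rcases ha with rfl | rfl | rfl
    · exact one_pow 2
    · rw [pow_two, hx]
    · rw [pow_two, hy]
  have h2 := Finset.card_le_card h1
  rw [Finset.card_eq_three.2 ⟨1, x, y, Ne.symm hx1, Ne.symm hy1, hne, rfl⟩] at h2
  omega

/-- The frame. -/
theorem fr_of_std [Finite G] (std : IsStandardSubgroup K) (hO : centralizerPPrimeCore 2 t = ⊥)
    (hc : ∀ P : Sylow 2 ↥(centralizer (K : Set G)), IsCyclic ↥(P : Subgroup ↥(centralizer (K : Set G))))
    (hZ : center ↥K = ⊥) (ht : orderOf t = 2) (htK : t ∈ centralizer (K : Set G))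
    (hr : ∃ r ∈ centralizer (K : Set G), r * r = t) : Fr t K := by
  have t1 : t ≠ 1 := by
    rintro rfl
    rw [orderOf_one] at ht
    exact absurd ht (by decide)
  have tt : t * t = 1 := by rw [← pow_two, ← ht, pow_orderOf_eq_one]
  have hn := norm_of_std std ht htK
  have hle : ∀ k ∈ K, t * k = k * t := fun k hk => (mem_centralizer_iff.1 htK k hk).symm
  refine ⟨t1, tt, ?_, hle, hn, ?_, ?_, ?_⟩
  · intro h
    have h1 : (⟨t, h⟩ : K) ∈ center ↥K := by
      rw [mem_center_iff]
      intro g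
      exact Subtype.ext (hle g g.2).symm
    rw [hZ, mem_bot] at h1
    exact t1 (congrArg Subtype.val h1)
  · intro x hx hxK hxx
    have hR := (isCyclic_RR hO hn ht htK hc).2
    by_cases hx1 : x = 1
    · exact Or.inl hx1
    right
    have hxR : x ∈ RR t K := mem_RR.2 ⟨hx, hxK⟩
    have htR : t ∈ RR t K := mem_RR.2 ⟨rfl, hle⟩
    exact congrArg Subtype.val (eq_of_cyclic (x := (⟨x, hxR⟩ : RR t K)) (y := ⟨t, htR⟩) (Subtype.ext hxx)
      (fun h => hx1 (congrArg Subtype.val h)) (Subtype.ext tt) (fun h => t1 (congrArg Subtype.val h)))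
  · intro N hN hNn hodd
    exact eq_bot_of_odd hO hN (fun k hk => mem_centralizer_singleton_iff.2 (hle k hk).symm) hn hNn hodd
  · obtain ⟨r, hr, hrt⟩ := hr
    exact ⟨r, fun k hk => (mem_centralizer_iff.1 hr k hk).symm, hrt⟩

/-- `R = ⟨t⟩` if `t` is not a square in `C(K)`. -/
theorem RR_eq_of_not_square [Finite G] (hO : centralizerPPrimeCore 2 t = ⊥)
    (hn : ∀ x : G, x * t = t * x → ∀ k ∈ K, x * k * x⁻¹ ∈ K)
    (ht : orderOf t = 2) (htK : t ∈ centralizer (K : Set G))
    (hc : ∀ P : Sylow 2 ↥(centralizer (K : Set G)), IsCyclic ↥(P : Subgroup ↥(centralizer (K : Set G))))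
    (hr : ∀ r ∈ centralizer (K : Set G), r * r ≠ t) : RR t K = zpowers t := by
  classical
  haveI : Fact (Nat.Prime 2) := ⟨Nat.prime_two⟩
  have t1 : t ≠ 1 := by
    rintro rfl
    rw [orderOf_one] at ht
    exact absurd ht (by decide)
  have tt : t * t = 1 := by rw [← pow_two, ← ht, pow_orderOf_eq_one]
  have htR : t ∈ RR t K := ⟨mem_centralizer_singleton_iff.2 rfl, htK⟩
  obtain ⟨h2, hR⟩ := isCyclic_RR hO hn ht htK hc
  obtain ⟨m, hm⟩ := IsPGroup.iff_card.1 h2
  obtain ⟨g, hg⟩ := hR.exists_generator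
  have hog : orderOf g = 2 ^ m := by rw [← hm]; exact orderOf_eq_card_of_forall_mem_zpowers hg
  have hm1 : m = 1 := by
    by_contra hne
    rcases m with _ | _ | m
    · -- trivial group
      rw [pow_zero] at hm
      have := (Nat.card_eq_one_iff_unique.1 hm).1
      exact t1 (congrArg Subtype.val (Subsingleton.elim (⟨t, htR⟩ : RR t K) 1))
    · exact hne rfl
    · -- `g ^ (2 ^ m)` is a square root of `t`
      apply hr ((g ^ 2 ^ m : RR t K) : G) (RR_le_centralizer (g ^ 2 ^ m : RR t K).2)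
      have h3 : (g ^ 2 ^ m : RR t K) * g ^ 2 ^ m = ⟨t, htR⟩ := by
        apply eq_of_cyclic
        · rw [← pow_add, ← pow_add, ← orderOf_dvd_iff_pow_eq_one, hog]
          apply dvd_of_eq
          ring
        · intro h
          rw [← pow_add, ← orderOf_dvd_iff_pow_eq_one, hog] at h
          have h4 := Nat.le_of_dvd (by positivity) h
          have h5 : 2 ^ (m + 1 + 1) = 4 * 2 ^ m := by ring
          have h6 : 0 < 2 ^ m := by positivity
          omega
        · exact Subtype.ext tt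
        · exact fun h => t1 (congrArg Subtype.val h)
      exact congrArg Subtype.val h3
  symm
  apply eq_of_le_of_card_ge (zpowers_le.2 htR)
  rw [hm, hm1, Nat.card_zpowers, ht, pow_one]

/-- The Sylow 2-subgroups of `C(K)` have order 2 if `R = ⟨t⟩`. -/
theorem card_sylow_of_RR [Finite G] (ht : orderOf t = 2) (htK : t ∈ centralizer (K : Set G))
    (hc : ∀ P : Sylow 2 ↥(centralizer (K : Set G)), IsCyclic ↥(P : Subgroup ↥(centralizer (K : Set G))))
    (hR : RR t K = zpowers t) (P : Sylow 2 ↥(centralizer (K : Set G))) :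
    Nat.card ↥(P : Subgroup ↥(centralizer (K : Set G))) = 2 := by
  classical
  haveI : Fact (Nat.Prime 2) := ⟨Nat.prime_two⟩
  have ho : orderOf (⟨t, htK⟩ : centralizer (K : Set G)) = 2 := by rw [Subgroup.orderOf_mk, ht]
  have h1 : IsPGroup 2 (zpowers (⟨t, htK⟩ : centralizer (K : Set G))) :=
    IsPGroup.of_card (n := 1) (by rw [Nat.card_zpowers, ho, pow_one])
  obtain ⟨Q, hQ⟩ := h1.exists_le_sylow
  have hPQ : Nat.card (P : Subgroup ↥(centralizer (K : Set G))) = Nat.card (Q : Subgroup ↥(centralizer (K : Set G))) :=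
    Nat.card_congr (P.equiv Q).toEquiv
  rw [hPQ]
  have htQ : (⟨t, htK⟩ : centralizer (K : Set G)) ∈ (Q : Subgroup ↥(centralizer (K : Set G))) := hQ (mem_zpowers _)
  have h2 : (Q : Subgroup ↥(centralizer (K : Set G))) = zpowers (⟨t, htK⟩ : centralizer (K : Set G)) := by
    refine le_antisymm (fun x hx => ?_) hQ
    have hcyc := hc Q
    letI := hcyc.commGroup
    have h3 : (⟨x, hx⟩ : (Q : Subgroup ↥(centralizer (K : Set G)))) * ⟨⟨t, htK⟩, htQ⟩ = ⟨⟨t, htK⟩, htQ⟩ * ⟨x, hx⟩ := mul_comm _ _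
    have h4 : (x : G) * t = t * x := congrArg (fun z : (Q : Subgroup ↥(centralizer (K : Set G))) => ((z : ↥(centralizer (K : Set G))) : G)) h3
    have h5 : (x : G) ∈ RR t K := ⟨mem_centralizer_singleton_iff.2 h4, x.2⟩
    rw [hR, mem_zpowers_iff] at h5
    obtain ⟨k, hk⟩ := h5
    rw [mem_zpowers_iff]
    exact ⟨k, Subtype.ext (by rw [← hk]; rfl)⟩
  rw [h2, Nat.card_zpowers, ho]

/-- `t` is not a square in `C(K)`, if `|Out K| ≤ 2` and `K` satisfies `KFact`. -/
theorem not_square [Finite G] [IsSimpleGroup G] (hna : ¬ IsMulCommutative G) (std : IsStandardSubgroup K)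
    (hO : centralizerPPrimeCore 2 t = ⊥)
    (hc : ∀ P : Sylow 2 ↥(centralizer (K : Set G)), IsCyclic ↥(P : Subgroup ↥(centralizer (K : Set G))))
    (hZ : center ↥K = ⊥) (ht : orderOf t = 2) (htK : t ∈ centralizer (K : Set G))
    (O : OutTwo K) (P : KFact K) : ∀ r ∈ centralizer (K : Set G), r * r ≠ t := by
  intro r hr hrt
  have F := fr_of_std std hO hc hZ ht htK ⟨r, hr, hrt⟩
  obtain ⟨g, hg1, hg2⟩ := StandardComponent.AltFinal.exists_conj hna ht
  exact F.main_out ⟨g, hg1, hg2⟩ (isCyclic_RR hO F.norm ht htK hc).2 O P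

/-- **[O4]** for `K = A_n`, `n ≥ 7`: `R = ⟨t⟩`. -/
theorem RR_eq_of_alt [Finite G] [IsSimpleGroup G] (hna : ¬ IsMulCommutative G) (std : IsStandardSubgroup K)
    (hO : centralizerPPrimeCore 2 t = ⊥)
    (hc : ∀ P : Sylow 2 ↥(centralizer (K : Set G)), IsCyclic ↥(P : Subgroup ↥(centralizer (K : Set G))))
    {n : ℕ} (hn : 7 ≤ n) (e : K ≃* alternatingGroup (Fin n))
    (ht : orderOf t = 2) (htK : t ∈ centralizer (K : Set G)) :
    centralizer ({t} : Set G) ⊓ centralizer (K : Set G) = zpowers t := by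
  have hZ : center ↥K = ⊥ := by
    rw [eq_bot_iff]
    intro x hx
    rw [mem_center_iff] at hx
    rw [mem_bot]
    apply e.injective
    rw [map_one]
    apply Subtype.ext
    obtain ⟨m, rfl⟩ : ∃ m, n = m + 2 := ⟨n - 2, by omega⟩
    apply StandardComponent.AltAut.eq_one_of_centralizes (m := m) (by omega)
    intro y
    have h1 := congrArg (fun z => ((e z : alternatingGroup (Fin (m + 2))) : Equiv.Perm (Fin (m + 2)))) (hx (e.symm y))
    simp only [map_mul, e.apply_symm_apply, Subgroup.coe_mul] at h1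
    rw [← h1]
    group
  exact RR_eq_of_not_square hO (norm_of_std std ht htK) ht htK hc
    (not_square hna std hO hc hZ ht htK ((outTwo_alt hn).congr e.symm) ((kfact_alt hn).congr e.symm))

/-- **[O4]** for `K = A_n`, `n ≥ 7`: the Sylow 2-subgroups of `C(K)` have order 2. -/
theorem card_sylow_of_alt [Finite G] [IsSimpleGroup G] (hna : ¬ IsMulCommutative G) (std : IsStandardSubgroup K)
    (hO : centralizerPPrimeCore 2 t = ⊥)
    (hc : ∀ P : Sylow 2 ↥(centralizer (K : Set G)), IsCyclic ↥(P : Subgroup ↥(centralizer (K : Set G))))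
    {n : ℕ} (hn : 7 ≤ n) (e : K ≃* alternatingGroup (Fin n))
    (ht : orderOf t = 2) (htK : t ∈ centralizer (K : Set G)) (P : Sylow 2 ↥(centralizer (K : Set G))) :
    Nat.card ↥(P : Subgroup ↥(centralizer (K : Set G))) = 2 :=
  card_sylow_of_RR ht htK hc (RR_eq_of_alt hna std hO hc hn e ht htK) P

end Cfsg.Agent.OddHalf.UQ4
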